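import Mathlib
import Cfsg.Agent.H518.SULin
import Cfsg.Agent.H176.NFStmt

/-!
# S5773, NF-LINC (helper222)

The `p`-subgroups of a linear group normalized by an element of order `r`.
-/

set_option autoImplicit false

namespace Cfsg.Agent.H222.NFLin

open Module Cfsg.Agent.H518.DghpFix Cfsg.Agent.H518.SU

universe u

section step

variable {F : Type} [Field F] [Fintype F] {V : Type} [AddCommGroup V] [Module F V] [FiniteDimensional F V]
variable {P : Type u} [Group P] [Finite P]

/-- Counting the operators through the quotient by a subspace of fixed points. -/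
theorem card_step (ρ : Representation F P V) (A : Submodule F V) (hA : ∀ g, A ≤ A.comap (ρ g))
    (hfix : ∀ u : P, ∀ a ∈ A, ρ u a = a) :
    Nat.card (Set.range ρ) ≤
      Nat.card (Set.range (ρ.quotient A hA)) * Fintype.card F ^ (finrank F A * (finrank F V - finrank F A)) := by
  classical
  have hq : ∀ (u : P) (v : V), ρ.quotient A hA u (A.mkQ v) = A.mkQ (ρ u v) := fun u v => rfl
  -- a representative
  have h0 : ∀ f : Set.range ρ, ∃ u : P, ρ u = f := fun f => f.2
  choose g hg using h0
  let t : Set.range ρ → Set.range (ρ.quotient A hA) := fun f => ⟨ρ.quotient A hA (g f), g f, rfl⟩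
  have h1 : ∀ f : Set.range (ρ.quotient A hA), ∃ u : P, ρ.quotient A hA u = f := fun f => f.2
  choose s hs using h1
  have hd : ∀ (f : Set.range ρ) (v : V), ρ (g f) v - ρ (s (t f)) v ∈ A := by
    intro f v
    rw [← Submodule.ker_mkQ A, LinearMap.mem_ker, map_sub, ← hq, ← hq, hs (t f), sub_self]
  let d : Set.range ρ → ((V ⧸ A) →ₗ[F] A) := fun f =>
    A.liftQ (LinearMap.codRestrict A (ρ (g f) - ρ (s (t f))) (fun v => hd f v)) (by
      intro a ha
      rw [LinearMap.mem_ker]
      apply Subtype.ext
      show ρ (g f) a - ρ (s (t f)) a = 0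
      rw [hfix _ a ha, hfix _ a ha, sub_self])
  have hinj : Function.Injective fun f : Set.range ρ => (t f, d f) := by
    intro f f' hff
    obtain ⟨e1, e2⟩ := Prod.mk.inj hff
    apply Subtype.ext
    rw [← hg f, ← hg f']
    ext v
    have h2 : ((d f (A.mkQ v) : A) : V) = (d f' (A.mkQ v) : A) := by rw [e2]
    have h3 : ((d f (A.mkQ v) : A) : V) = ρ (g f) v - ρ (s (t f)) v := rfl
    have h4 : ((d f' (A.mkQ v) : A) : V) = ρ (g f') v - ρ (s (t f')) v := rfl
    rw [h3, h4, e1] at h2
    exact sub_left_injective h2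
  have : Finite F := Finite.of_fintype F
  have : Finite V := Module.finite_of_finite F
  have : Finite ((V ⧸ A) →ₗ[F] A) := Module.finite_of_finite F
  have : Finite (Set.range (ρ.quotient A hA)) := Set.finite_range _
  have h5 := Nat.card_le_card_of_injective _ hinj
  rw [Nat.card_prod] at h5
  refine h5.trans (Nat.mul_le_mul_left _ ?_)
  rw [Module.natCard_eq_pow_finrank (K := F) (V := (V ⧸ A) →ₗ[F] A), Nat.card_eq_fintype_card,
    Module.finrank_linearMap, Submodule.finrank_quotient, mul_comm]

/-- `p`-groups of operators: the general bound, for a group generated by the `p`-group and an operator `T`. -/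
theorem card_triv {p : ℕ} (hp : p.Prime) (hpF : p ∣ Fintype.card F) :
    ∀ (n : ℕ) (V : Type) [AddCommGroup V] [Module F V] [FiniteDimensional F V], finrank F V = n →
      ∀ (ρ : Representation F P V), IsPGroup p P → Nat.card (Set.range ρ) ≤ Fintype.card F ^ (n * (n - 1) / 2) := by
  intro n
  induction n with
  | zero =>
    intro V _ _ _ hn ρ hP
    have hs : Subsingleton V := finrank_zero_iff.1 hn
    have : Subsingleton (Set.range ρ) := by
      constructor
      rintro ⟨a, ha⟩ ⟨b, hb⟩
      apply Subtype.ext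
      ext v
      exact Subsingleton.elim _ _
    have h1 : Nat.card (Set.range ρ) ≤ 1 := Finite.card_le_one_iff_subsingleton.2 this
    exact h1.trans (Nat.one_le_pow _ _ Fintype.card_pos)
  | succ n ih =>
    intro V _ _ _ hn ρ hP
    have hV : (⊤ : Submodule F V) ≠ ⊥ := by
      intro h
      rw [← finrank_top F V, h, finrank_bot] at hn
      omega
    have hP' : IsPGroup p (⊤ : Subgroup P) := hP.to_subgroup ⊤
    have h1 := fixSub_inf_ne_bot ρ hp hpF hP' ⊤ (fun _ _ _ _ => trivial) hV
    obtain ⟨a, ha, ha0⟩ := (Submodule.ne_bot_iff _).1 h1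
    have hfa : ∀ u : P, ρ u a = a := fun u => ha.2 u trivial
    have hfix : ∀ u : P, ∀ b ∈ (F ∙ a : Submodule F V), ρ u b = b := by
      intro u b hb
      obtain ⟨c, rfl⟩ := Submodule.mem_span_singleton.1 hb
      rw [map_smul, hfa]
    have hA : ∀ g : P, (F ∙ a : Submodule F V) ≤ (F ∙ a : Submodule F V).comap (ρ g) := by
      intro g b hb
      rw [Submodule.mem_comap, hfix g b hb]
      exact hb
    have h2 : finrank F (F ∙ a : Submodule F V) = 1 := finrank_span_singleton ha0
    have h3 := card_step ρ _ hA hfix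
    have h4 : finrank F (V ⧸ (F ∙ a : Submodule F V)) = n := by
      rw [Submodule.finrank_quotient, h2, hn]
      rfl
    have h5 := ih (V ⧸ (F ∙ a : Submodule F V)) h4 (ρ.quotient _ hA) hP
    refine h3.trans ((Nat.mul_le_mul_right _ h5).trans ?_)
    rw [← pow_add, h2, hn, one_mul]
    refine le_of_eq (congrArg _ ?_)
    have h6 : (n + 1) * (n + 1 - 1) = n * (n - 1) + n * 2 := by
      rw [Nat.add_sub_cancel]
      rcases n with _ | m
      · rfl
      · rw [Nat.add_sub_cancel]
        ring
    rw [h6, Nat.add_mul_div_right _ _ (by norm_num), Nat.add_sub_cancel]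

/-- The trick: an operator of order prime to the characteristic that acts trivially on `V / A` and on `A` is trivial. -/
theorem fix_of_sub {T : V →ₗ[F] V} {r : ℕ} (hrF : (r : F) ≠ 0) (hT : T ^ r = 1) {v : V} (h : T (T v - v) = T v - v) :
    T v = v := by
  have h1 : ∀ k : ℕ, (T ^ k) v = v + (k : F) • (T v - v) := by
    intro k
    induction k with
    | zero => simp
    | succ k ih =>
      rw [pow_succ', Module.End.mul_apply, ih, map_add, map_smul, h, Nat.cast_succ, add_smul, one_smul]
      abel
  have h2 := h1 r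
  rw [hT, Module.End.one_apply] at h2
  have h3 : (r : F) • (T v - v) = 0 := by
    have h4 : v + 0 = v + (r : F) • (T v - v) := by rw [add_zero]; exact h2
    exact (add_left_cancel h4).symm
  exact sub_eq_zero.1 ((smul_eq_zero.1 h3).resolve_left hrF)

end step

section main

variable {F : Type} [Field F] [Fintype F]

theorem choose_aux (a e : ℕ) : a * (a - 1) / 2 + e * a = (a + e) * (a + e - 1) / 2 - e * (e - 1) / 2 := by
  have h1 : ∀ m : ℕ, m * (m - 1) / 2 = m.choose 2 := fun m => (Nat.choose_two_right m).symm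
  rw [h1, h1, h1]
  have h2 : ∀ a e : ℕ, (a + e).choose 2 = a.choose 2 + e.choose 2 + e * a := by
    intro a e
    induction a with
    | zero => simp
    | succ a ih =>
      rw [Nat.add_right_comm, Nat.choose_succ_succ' (a + e) 1, ih, Nat.choose_one_right, Nat.choose_succ_succ' a 1,
        Nat.choose_one_right]
      ring
  rw [h2]
  omega

/-- **The bound for linear groups.** -/
theorem card_main {P : Type} [Group P] [Finite P] {p r e : ℕ} (hp : p.Prime) (hr : r.Prime) (hpF : p ∣ Fintype.card F)
    (hrF : ¬ r ∣ Fintype.card F) (he : orderOf ((Fintype.card F : ℕ) : ZMod r) = e) (hP : IsPGroup p P) :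
    ∀ (n : ℕ) (V : Type) [AddCommGroup V] [Module F V] [FiniteDimensional F V], finrank F V = n → n < 2 * e →
      ∀ (ρ : Representation F P V) (T : V →ₗ[F] V), T ^ r = 1 → T ≠ 1 → (∀ u, ∃ u', ρ u * T = T * ρ u') →
      e ≤ n ∧ Nat.card (Set.range ρ) ≤ Fintype.card F ^ (n * (n - 1) / 2 - e * (e - 1) / 2) := by
  have hrF' : (r : F) ≠ 0 := by
    intro h
    have := Nat.cast_card_eq_zero F
    obtain ⟨ℓ, hℓ⟩ := CharP.exists F
    have h1 : ℓ ∣ r := (CharP.cast_eq_zero_iff F ℓ r).1 h
    have h2 : ℓ ∣ Fintype.card F := (CharP.cast_eq_zero_iff F ℓ _).1 this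
    have h3 : ℓ.Prime := (CharP.char_is_prime_or_zero F ℓ).resolve_right fun h0 => by
      rw [h0, zero_dvd_iff] at h2
      exact Fintype.card_ne_zero h2
    exact hrF ((Nat.prime_dvd_prime_iff_eq h3 hr).1 h1 ▸ h2)
  intro n
  induction n with
  | zero =>
    intro V _ _ _ hn _ ρ T _ hT1
    exfalso
    apply hT1
    have hs : Subsingleton V := finrank_zero_iff.1 hn
    ext v
    exact Subsingleton.elim _ _
  | succ n ih =>
    intro V _ _ _ hn hne ρ T hT hT1 hc
    have hTk : T ^ r ^ 1 = 1 := by rw [pow_one, hT]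
    have hV : (⊤ : Submodule F V) ≠ ⊥ := by
      intro h
      rw [← finrank_top F V, h, finrank_bot] at hn
      omega
    have hP' : IsPGroup p (⊤ : Subgroup P) := hP.to_subgroup ⊤
    have h1 : fixSub ρ (⊤ : Subgroup P) ≠ ⊥ := by
      have := fixSub_inf_ne_bot ρ hp hpF hP' ⊤ (fun _ _ _ _ => trivial) hV
      rwa [top_inf_eq] at this
    have hfixU : ∀ u : P, ∀ b ∈ fixSub ρ (⊤ : Subgroup P), ρ u b = b := fun u b hb => hb u trivial
    have hWT : ∀ v ∈ fixSub ρ (⊤ : Subgroup P), T v ∈ fixSub ρ (⊤ : Subgroup P) := by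
      intro v hv u _
      obtain ⟨u', hu'⟩ := hc u
      have h2 : (ρ u * T) v = (T * ρ u') v := by rw [hu']
      rw [Module.End.mul_apply, Module.End.mul_apply, hfixU u' v hv] at h2
      exact h2
    -- the general dimension facts
    have hee : ∀ (V' : Type) [AddCommGroup V'] [Module F V'] [FiniteDimensional F V'] (T' : V' →ₗ[F] V'),
        T' ^ r = 1 → T' ≠ 1 → e ≤ finrank F V' := by
      intro V' _ _ _ T' hT' hT1'
      have h2 := finrank_fix (f := T') (k := 1) hr hrF (by rw [pow_one, hT']) ⊤ (fun _ _ => trivial)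
      rw [top_inf_eq, finrank_top, he] at h2
      have h3 : finrank F (fixS T') < finrank F V' := by
        refine lt_of_le_of_ne (Submodule.finrank_le _) fun h => hT1' ?_
        exact fixS_eq_top_iff.1 (Submodule.eq_top_of_finrank_eq h)
      have := Nat.le_of_dvd (by omega) h2
      omega
    have hen : e ≤ n + 1 := hn ▸ hee V T hT hT1
    refine ⟨hen, ?_⟩
    by_cases hcase : fixSub ρ (⊤ : Subgroup P) ⊓ fixS T = ⊥
    · -- the fixed space has dimension at least `e`
      set A := fixSub ρ (⊤ : Subgroup P) with hAdef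
      have hA : ∀ g : P, A ≤ A.comap (ρ g) := by
        intro g b hb
        rw [Submodule.mem_comap, hfixU g b hb]
        exact hb
      have h3 := finrank_fix hr hrF hTk A hWT
      rw [hcase, finrank_bot, Nat.sub_zero, he] at h3
      have h4 : finrank F A ≠ 0 := fun h => h1 (Submodule.finrank_eq_zero.1 h)
      have h5 : finrank F A ≤ n + 1 := hn ▸ Submodule.finrank_le A
      have h6 : finrank F A = e := by
        obtain ⟨m, hm⟩ := h3
        rcases m with _ | _ | m
        · exact absurd hm h4
        · rw [hm]; ring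
        · exfalso
          have : e * 2 ≤ e * (m + 1 + 1) := Nat.mul_le_mul_left _ (by omega)
          omega
      have h7 := card_step ρ A hA hfixU
      obtain ⟨a, ha⟩ : ∃ a, n + 1 = a + e := ⟨n + 1 - e, by omega⟩
      have h8 : finrank F (V ⧸ A) = a := by
        rw [Submodule.finrank_quotient, h6, hn]
        omega
      have h9 := card_triv hp hpF a (V ⧸ A) h8 (ρ.quotient A hA) hP
      rw [hn, h6, ha, Nat.add_sub_cancel] at h7
      refine h7.trans ((Nat.mul_le_mul_right _ h9).trans ?_)
      rw [← pow_add, ha, choose_aux]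
    · obtain ⟨a, ha, ha0⟩ := (Submodule.ne_bot_iff _).1 hcase
      set A := (F ∙ a : Submodule F V) with hAdef
      have hfix : ∀ u : P, ∀ b ∈ A, ρ u b = b := by
        intro u b hb
        obtain ⟨c, rfl⟩ := Submodule.mem_span_singleton.1 hb
        rw [map_smul, hfixU u a ha.1]
      have hfixT : ∀ b ∈ A, T b = b := by
        intro b hb
        obtain ⟨c, rfl⟩ := Submodule.mem_span_singleton.1 hb
        have h3 : T a = a := ha.2
        rw [map_smul, h3]
      have hA : ∀ g : P, A ≤ A.comap (ρ g) := by
        intro g b hb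
        rw [Submodule.mem_comap, hfix g b hb]
        exact hb
      have hAT : A ≤ A.comap T := by
        intro b hb
        rw [Submodule.mem_comap, hfixT b hb]
        exact hb
      have h2 : finrank F A = 1 := finrank_span_singleton ha0
      have h3 := card_step ρ A hA hfix
      have h4 : finrank F (V ⧸ A) = n := by
        rw [Submodule.finrank_quotient, h2, hn]
        rfl
      have h5 : (A.mapQ A T hAT) ^ r = 1 := by
        rw [← Submodule.mapQ_pow]
        apply Submodule.linearMap_qext
        ext v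
        have h8 : (T ^ r) v = v := by rw [hT]; rfl
        show A.mkQ ((T ^ r) v) = A.mkQ v
        rw [h8]
      have h6 : A.mapQ A T hAT ≠ 1 := by
        intro h
        apply hT1
        ext v
        refine fix_of_sub hrF' hT (hfixT _ ?_)
        rw [← Submodule.ker_mkQ A, LinearMap.mem_ker, map_sub]
        have h7 : A.mapQ A T hAT (A.mkQ v) = A.mkQ v := by rw [h]; rfl
        rw [← h7]
        exact sub_self _
      have h7 : ∀ u, ∃ u', ρ.quotient A hA u * A.mapQ A T hAT = A.mapQ A T hAT * ρ.quotient A hA u' := by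
        intro u
        obtain ⟨u', hu'⟩ := hc u
        refine ⟨u', ?_⟩
        apply Submodule.linearMap_qext
        ext v
        have h8 : (ρ u * T) v = (T * ρ u') v := by rw [hu']
        exact congrArg A.mkQ h8
      obtain ⟨h8, h9⟩ := ih (V ⧸ A) h4 (by omega) (ρ.quotient A hA) _ h5 h6 h7
      rw [h2, hn, one_mul, Nat.add_sub_cancel] at h3
      refine h3.trans ((Nat.mul_le_mul_right _ h9).trans ?_)
      rw [← pow_add]
      obtain ⟨b, rfl⟩ := Nat.exists_eq_add_of_le' h8
      have h10 := choose_aux b e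
      have h11 := choose_aux (b + 1) e
      have h12 : (b + 1) * (b + 1 - 1) / 2 = b * (b - 1) / 2 + b := by
        rw [← Nat.choose_two_right, ← Nat.choose_two_right, Nat.choose_succ_succ' b 1, Nat.choose_one_right]
        ring
      have h13 : b + e + 1 = b + 1 + e := by ring
      rw [h13, ← h10, ← h11, h12]
      refine le_of_eq (congrArg _ ?_)
      ring

/-- The subgroup acting, as a representation. -/
theorem unipLin : Cfsg.Agent.H176.NF.UnipLin := by
  intro G _ _ F _ _ n φ hφ r p e k hr hp hrp hF he hn x hx U hU hxU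
  have hk : k ≠ 0 := by
    rintro rfl
    have := Fintype.one_lt_card (α := F)
    rw [hF, pow_zero] at this
    exact lt_irrefl _ this
  have hpF : p ∣ Fintype.card F := hF ▸ dvd_pow_self p hk
  have hrF : ¬ r ∣ Fintype.card F := by
    rw [hF]
    intro h
    exact hrp ((Nat.prime_dvd_prime_iff_eq hr hp).1 (hr.dvd_of_dvd_pow h))
  have : Fact p.Prime := ⟨hp⟩
  let L : Matrix (Fin n) (Fin n) F ≃ₐ[F] ((Fin n → F) →ₗ[F] (Fin n → F)) := Matrix.toLinAlgEquiv'
  let ψ : G →* ((Fin n → F) →ₗ[F] (Fin n → F)) := (L : _ →* _).comp φ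
  have hψ : Function.Injective ψ := L.injective.comp hφ
  let ρ : Representation F U (Fin n → F) := ψ.comp U.subtype
  have hρ : Function.Injective ρ := hψ.comp U.subtype_injective
  have hT : ψ x ^ r = 1 := by rw [← map_pow, ← hx, pow_orderOf_eq_one, map_one]
  have hT1 : ψ x ≠ 1 := by
    intro h
    have h1 : x = 1 := hψ (by rw [h, map_one])
    rw [h1, orderOf_one] at hx
    exact hr.one_lt.ne hx
  have hc : ∀ u : U, ∃ u' : U, ρ u * ψ x = ψ x * ρ u' := by
    intro u
    have h1 : x⁻¹ * (u : G) * x ∈ U := by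
      have := (Subgroup.mem_normalizer_iff''.1 hxU (u : G)).1 u.2
      exact this
    refine ⟨⟨_, h1⟩, ?_⟩
    show ψ u * ψ x = ψ x * ψ (x⁻¹ * (u : G) * x)
    rw [← map_mul, ← map_mul]
    congr 1
    group
  obtain ⟨h1, h2⟩ := card_main hp hr hpF hrF he hU n (Fin n → F) (by simp) hn ρ (ψ x) hT hT1 hc
  have h3 : Nat.card (Set.range ρ) = Nat.card U := Nat.card_congr (Equiv.ofInjective ρ hρ).symm
  rw [h3, hF, ← pow_mul] at h2
  obtain ⟨m, hm⟩ := IsPGroup.iff_card.1 hU
  rw [hm] at h2 ⊢
  rw [Nat.factorization_pow, Finsupp.smul_apply, hp.factorization_self, smul_eq_mul, mul_one]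
  exact (Nat.pow_le_pow_iff_right hp.one_lt).1 h2

end main

end Cfsg.Agent.H222.NFLin
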