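import Mathlib
import Cfsg.Agent.H222.NFLinC

/-!
# S5773, NF-LIND (helper222)

The `p`-subgroups of an isometry group normalized by an element of order `r`.
-/

set_option autoImplicit false

namespace Cfsg.Agent.H222.NFLin

open Module Cfsg.Agent.H518.DghpFix Cfsg.Agent.H518.SU Cfsg.Agent.H176.NF

universe u

namespace Pol

variable {F : Type} [Field F] {V : Type} [AddCommGroup V] [Module F V] (P : Pol F V)

theorem zero_left (v : V) : P.β 0 v = 0 := by
  have := P.smul_left 0 v v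
  rwa [zero_smul, zero_mul] at this

theorem zero_right (v : V) : P.β v 0 = 0 := by
  have := P.smul_right 0 v v
  rwa [zero_smul, map_zero, zero_mul] at this

theorem sub_left (u v w : V) : P.β (u - v) w = P.β u w - P.β v w := by
  rw [eq_sub_iff_add_eq, ← P.add_left, sub_add_cancel]

theorem sub_right (u v w : V) : P.β u (v - w) = P.β u v - P.β u w := by
  rw [eq_sub_iff_add_eq, ← P.add_right, sub_add_cancel]

/-- The orthogonal space. -/
def perp (A : Submodule F V) : Submodule F V where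
  carrier := {v | ∀ a ∈ A, P.β v a = 0}
  zero_mem' := fun a _ => zero_left P a
  add_mem' := fun {u v} hu hv a ha => by rw [P.add_left, hu a ha, hv a ha, add_zero]
  smul_mem' := fun c u hu a ha => by rw [P.smul_left, hu a ha, mul_zero]

theorem mem_perp {A : Submodule F V} {v : V} : v ∈ perp P A ↔ ∀ a ∈ A, P.β v a = 0 := Iff.rfl

/-- The right orthogonal space of a vector. -/
def rperp (v : V) : Submodule F V where
  carrier := {a | P.β v a = 0}
  zero_mem' := zero_right P v
  add_mem' := fun {a b} ha hb => by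
    show P.β v (a + b) = 0
    rw [P.add_right, show P.β v a = 0 from ha, show P.β v b = 0 from hb, add_zero]
  smul_mem' := fun c a ha => by
    show P.β v (c • a) = 0
    rw [P.smul_right, show P.β v a = 0 from ha, mul_zero]

theorem finrank_perp [FiniteDimensional F V] (A : Submodule F V) :
    finrank F V ≤ finrank F A + finrank F (perp P A) := by
  let b := Module.finBasis F A
  let L : V →ₗ[F] (Fin (finrank F A) → F) :=
    { toFun := fun v i => P.β v (b i : V)
      map_add' := fun u v => by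
        funext i
        exact P.add_left _ _ _
      map_smul' := fun c u => by
        funext i
        exact P.smul_left _ _ _ }
  have h1 : LinearMap.ker L ≤ perp P A := by
    intro v hv a ha
    have h2 : ∀ i, P.β v (b i : V) = 0 := fun i => congrFun (LinearMap.mem_ker.1 hv) i
    have h3 : (⊤ : Submodule F A) ≤ (rperp P v).comap A.subtype := by
      rw [← b.span_eq, Submodule.span_le]
      rintro _ ⟨i, rfl⟩
      exact h2 i
    exact h3 (x := ⟨a, ha⟩) trivial
  have h2 := LinearMap.finrank_range_add_finrank_ker L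
  have h3 : finrank F (LinearMap.range L) ≤ finrank F A := by
    refine (Submodule.finrank_le _).trans ?_
    rw [finrank_fin_fun]
  have h4 := Submodule.finrank_mono h1
  omega

end Pol

section core

variable {F : Type} [Field F] [Fintype F] {V : Type} [AddCommGroup V] [Module F V] [FiniteDimensional F V]
variable {Q : Type u} [Group Q] [Finite Q]

/-- Invariant totally isotropic subspaces are fixed. -/
theorem ti_le_fix (P : Pol F V) {T : V →ₗ[F] V} {r : ℕ} (hr : r.Prime) (hrF : ¬ r ∣ Fintype.card F)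
    (hT : T ^ r = 1) (hTβ : ∀ u v, P.β (T u) (T v) = P.β u v)
    (hne : finrank F V < 2 * orderOf ((Fintype.card F : ℕ) : ZMod r)) (A : Submodule F V)
    (hA : ∀ v ∈ A, T v ∈ A) (hti : ∀ u ∈ A, ∀ v ∈ A, P.β u v = 0) : ∀ v ∈ A, T v = v := by
  by_contra hcon
  have hTk : T ^ r ^ 1 = 1 := by rw [pow_one, hT]
  have h1 := finrank_fix hr hrF hTk ⊤ (fun _ _ => trivial)
  have h2 := finrank_fix hr hrF hTk A hA
  rw [top_inf_eq, finrank_top] at h1
  have h3 : finrank F ↥(A ⊓ fixS T) < finrank F A := by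
    refine lt_of_le_of_ne (Submodule.finrank_mono inf_le_left) fun h => hcon ?_
    have h4 : A ⊓ fixS T = A := Submodule.eq_of_le_of_finrank_eq inf_le_left h
    intro v hv
    have h5 : v ∈ A ⊓ fixS T := by rw [h4]; exact hv
    exact h5.2
  have h4 := Nat.le_of_dvd (by omega) h2
  have h5 : finrank F (fixS T) ≤ finrank F V := Submodule.finrank_le _
  have h6 : finrank F V - finrank F (fixS T) ≤ orderOf ((Fintype.card F : ℕ) : ZMod r) := by
    obtain ⟨m, hm⟩ := h1
    rcases m with _ | _ | m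
    · rw [mul_zero] at hm
      omega
    · rw [zero_add, mul_one] at hm
      omega
    · exfalso
      have : orderOf ((Fintype.card F : ℕ) : ZMod r) * 2 ≤ orderOf ((Fintype.card F : ℕ) : ZMod r) * (m + 1 + 1) :=
        Nat.mul_le_mul_left _ (by omega)
      omega
  have h7 := Submodule.finrank_sup_add_finrank_inf_eq A (fixS T)
  have h8 : A ⊔ fixS T = ⊤ := by
    apply Submodule.eq_top_of_finrank_eq
    have := Submodule.finrank_le (A ⊔ fixS T)
    omega
  have h9 : ∀ v, T v - v ∈ A := by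
    intro v
    have h10 : v ∈ A ⊔ fixS T := by rw [h8]; trivial
    obtain ⟨a, ha, c, hc, rfl⟩ := Submodule.mem_sup.1 h10
    have h11 : T c = c := hc
    rw [map_add, h11, add_sub_add_right_eq_sub]
    exact A.sub_mem (hA a ha) ha
  apply hcon
  intro u hu
  refine sub_eq_zero.1 (P.nondeg _ fun v => P.refl _ _ ?_)
  rw [Pol.sub_right]
  have h10 := hti _ (h9 v) _ (hA u hu)
  rw [Pol.sub_left, hTβ] at h10
  rw [← neg_eq_zero, neg_sub]
  exact h10

/-- The sum over the powers. -/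
theorem sum_fix {T : V →ₗ[F] V} {r : ℕ} (hT : T ^ r = 1) (v : V) :
    T (∑ i ∈ Finset.range r, (T ^ i) v) = ∑ i ∈ Finset.range r, (T ^ i) v := sum_pow_mem_fixS hT v

theorem sum_sub_mem {T : V →ₗ[F] V} (r : ℕ) (v : V) :
    (r : F) • v - ∑ i ∈ Finset.range r, (T ^ i) v ∈ LinearMap.range (T - 1) := by
  have h1 : ∀ i : ℕ, v - (T ^ i) v ∈ LinearMap.range (T - 1) := by
    intro i
    induction i with
    | zero => simp
    | succ i ih =>
      have h2 : v - (T ^ (i + 1)) v = (v - (T ^ i) v) - (T - 1) ((T ^ i) v) := by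
        rw [pow_succ', Module.End.mul_apply, LinearMap.sub_apply, Module.End.one_apply]
        abel
      rw [h2]
      exact Submodule.sub_mem _ ih ⟨_, rfl⟩
  have h2 : (r : F) • v - ∑ i ∈ Finset.range r, (T ^ i) v = ∑ i ∈ Finset.range r, (v - (T ^ i) v) := by
    rw [Finset.sum_sub_distrib, Finset.sum_const, Finset.card_range, Nat.cast_smul_eq_nsmul]
  rw [h2]
  exact Submodule.sum_mem _ fun i _ => h1 i

/-- The computation. -/
theorem comp_aux (P : Pol F V) {C D : Submodule F V} (hCD : ∀ c ∈ C, ∀ d ∈ D, P.β c d = 0) {w v0 d0 d1 : V}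
    (hw : w ∈ C) (hv0 : v0 ∈ C) (hd0 : d0 ∈ D) (hd1 : d1 ∈ D) (hww : P.β w w = 0) (hκw : P.κ w ≠ 0)
    (hd : P.β d0 d1 = - P.β v0 w) (h1 : P.κ (v0 + w) = P.κ v0) {c : F} (hc0 : c ≠ 0)
    (hc : P.κ (v0 + c • w) = P.κ v0) : c = 1 := by
  have hDC : ∀ d ∈ D, ∀ c ∈ C, P.β d c = 0 := fun d hd c hc => P.refl _ _ (hCD c hc d hd)
  -- the formula
  have hform : ∀ (a : F) (d d' : V), d ∈ D → d' ∈ D → P.β d d' = - P.β v0 w → P.κ (v0 + a • w) = P.κ v0 →
      P.κ (d + a • d') = P.κ d + P.N a * P.κ d' + P.N a * P.κ w := by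
    intro a d d' hd hd' hdd ha
    have e1 : P.β (v0 + d) (a • (w + d')) = 0 := by
      rw [P.smul_right, P.add_left, P.add_right, P.add_right, hdd, hCD v0 hv0 d' hd', hDC d hd w hw]
      ring
    have e2 := P.κ_add _ _ e1
    rw [P.κ_smul, P.κ_add v0 d (hCD v0 hv0 d hd), P.κ_add w d' (hCD w hw d' hd')] at e2
    have e3 : v0 + d + a • (w + d') = (v0 + a • w) + (d + a • d') := by
      rw [smul_add]
      abel
    rw [e3, P.κ_add _ _ (hCD _ (C.add_mem hv0 (C.smul_mem a hw)) _ (D.add_mem hd (D.smul_mem a hd'))), ha] at e2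
    have e4 : P.κ v0 + P.κ (d + a • d') = P.κ v0 + (P.κ d + P.N a * P.κ d' + P.N a * P.κ w) := by
      rw [e2]
      ring
    exact add_left_cancel e4
  -- the norm
  have hN1 : P.N 1 = 1 := by
    have := P.κ_smul 1 w
    rw [one_smul] at this
    exact mul_right_cancel₀ hκw (by rw [← this, one_mul])
  have hNm : ∀ a b, P.N (a * b) = P.N a * P.N b := by
    intro a b
    have e1 := P.κ_smul (a * b) w
    rw [mul_smul, P.κ_smul, P.κ_smul, ← mul_assoc] at e1
    exact (mul_right_cancel₀ hκw e1).symm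
  have hNi : ∀ a b, P.N a = P.N b → a = b := by
    intro a b hab
    have e1 : P.β ((a - b) • w) (b • w) = 0 := by rw [P.smul_left, P.smul_right, hww, mul_zero, mul_zero]
    have e2 := P.κ_add _ _ e1
    rw [← add_smul, sub_add_cancel, P.κ_smul, P.κ_smul, P.κ_smul, hab] at e2
    have e3 : P.N (a - b) * P.κ w = 0 := by
      have e4 : 0 + P.N b * P.κ w = P.N (a - b) * P.κ w + P.N b * P.κ w := by rw [zero_add]; exact e2
      exact (add_right_cancel e4).symm
    exact sub_eq_zero.1 (P.N_zero _ ((mul_eq_zero.1 e3).resolve_right hκw))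
  have hσ0 : ∀ a, P.σ a = 0 → a = 0 := fun a ha => (map_eq_zero P.σ).1 ha
  -- the formula for `a = 1` and multiples
  have hν : ∀ ν : F, ν ≠ 0 → P.κ (d0 + (ν * P.σ ν) • d1) =
      P.κ d0 + P.N (ν * P.σ ν) * P.κ d1 + P.N (P.σ ν) * P.κ w := by
    intro ν hν0
    have hσν : P.σ ν ≠ 0 := fun h => hν0 (hσ0 _ h)
    have e1 : P.β ((P.σ ν)⁻¹ • d0) (ν • d1) = - P.β v0 w := by
      rw [P.smul_left, P.smul_right, ← mul_assoc, inv_mul_cancel₀ hσν, one_mul, hd]
    have e2 := hform 1 _ _ (D.smul_mem _ hd0) (D.smul_mem _ hd1) e1 (by rw [one_smul]; exact h1)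
    rw [one_smul, hN1, one_mul, one_mul] at e2
    have e3 : (P.σ ν)⁻¹ • d0 + ν • d1 = (P.σ ν)⁻¹ • (d0 + (ν * P.σ ν) • d1) := by
      rw [smul_add, smul_smul]
      congr 2
      field_simp
    rw [e3, P.κ_smul, P.κ_smul, P.κ_smul] at e2
    have e4 : P.N (P.σ ν) * P.N ((P.σ ν)⁻¹) = 1 := by rw [← hNm, mul_inv_cancel₀ hσν, hN1]
    have e5 : P.N (P.σ ν) * (P.N ((P.σ ν)⁻¹) * P.κ (d0 + (ν * P.σ ν) • d1)) =
        P.N (P.σ ν) * (P.N ((P.σ ν)⁻¹) * P.κ d0 + P.N ν * P.κ d1 + P.κ w) := by rw [e2]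
    rw [← mul_assoc, e4, one_mul] at e5
    rw [e5, hNm ν]
    have e6 : P.N (P.σ ν) * (P.N (P.σ ν)⁻¹ * P.κ d0 + P.N ν * P.κ d1 + P.κ w) =
        (P.N (P.σ ν) * P.N (P.σ ν)⁻¹) * P.κ d0 + P.N ν * P.N (P.σ ν) * P.κ d1 + P.N (P.σ ν) * P.κ w := by ring
    rw [e6, e4, one_mul]
  -- injectivity
  have hinj : Function.Injective fun ν : F => ν * P.σ ν := by
    intro ν ν' h
    have h : ν * P.σ ν = ν' * P.σ ν' := h
    by_cases h0 : ν = 0
    · rw [h0, zero_mul] at h
      rcases mul_eq_zero.1 h.symm with h2 | h2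
      · rw [h0, h2]
      · rw [h0, hσ0 _ h2]
    by_cases h0' : ν' = 0
    · rw [h0', zero_mul] at h
      rcases mul_eq_zero.1 h with h2 | h2
      · rw [h0', h2]
      · rw [h0', hσ0 _ h2]
    have e1 := hν ν h0
    have e2 := hν ν' h0'
    rw [← h, e1] at e2
    have e3 := hNi _ _ (mul_right_cancel₀ hκw (add_left_cancel e2))
    exact P.σ.injective e3
  have hsurj : Function.Surjective fun ν : F => ν * P.σ ν := Finite.injective_iff_surjective.1 hinj
  obtain ⟨ν, hν'⟩ := hsurj c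
  have hν' : ν * P.σ ν = c := hν'
  have hν0 : ν ≠ 0 := by
    rintro rfl
    rw [zero_mul] at hν'
    exact hc0 hν'.symm
  have e1 := hν ν hν0
  have e2 := hform c d0 d1 hd0 hd1 hd hc
  rw [hν', e2] at e1
  have e3 := hNi _ _ (mul_right_cancel₀ hκw (add_left_cancel e1))
  rw [e3] at hν'
  have e4 : ν = 1 := mul_right_cancel₀ (fun h => hν0 (hσ0 _ h)) (hν'.trans (one_mul _).symm)
  rw [e3, e4, map_one]

/-- **The core.** -/
theorem core_aniso (P : Pol F V) {p r : ℕ} (hp : p.Prime) (hr : r.Prime) (hpF : p ∣ Fintype.card F)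
    (hrF : ¬ r ∣ Fintype.card F) (hrF' : (r : F) ≠ 0) (hQ : IsPGroup p Q) (ρ : Representation F Q V)
    (hρβ : ∀ g u v, P.β (ρ g u) (ρ g v) = P.β u v) (hρκ : ∀ g u, P.κ (ρ g u) = P.κ u)
    {T : V →ₗ[F] V} (hT : T ^ r = 1) (hT1 : T ≠ 1) (hTβ : ∀ u v, P.β (T u) (T v) = P.β u v)
    (hne : finrank F V < 2 * orderOf ((Fintype.card F : ℕ) : ZMod r))
    (hWT : ∀ v, (∀ g, ρ g v = v) → (∀ a, (∀ g, ρ g a = a) → P.β v a = 0) → T v = v)
    (hW : ∀ v, (∀ g, ρ g v = v) → (∀ a, (∀ g, ρ g a = a) → P.β v a = 0) → P.κ v = 0 → v = 0) :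
    Nat.card (Set.range ρ) ≤ 2 := by
  set E := fixSub ρ (⊤ : Subgroup Q) with hE
  have hEm : ∀ {v}, v ∈ E ↔ ∀ g, ρ g v = v := fun {v} => ⟨fun h g => h g trivial, fun h g _ => h g⟩
  set Y := Pol.perp P E with hY
  have hYm : ∀ {v}, v ∈ Y ↔ ∀ a ∈ E, P.β v a = 0 := fun {v} => Iff.rfl
  have hWT' : ∀ v ∈ E, v ∈ Y → T v = v := fun v hv hv' => hWT v (hEm.1 hv) fun a ha => hv' a (hEm.2 ha)
  have hW' : ∀ v ∈ E, v ∈ Y → P.κ v = 0 → v = 0 := fun v hv hv' h => hW v (hEm.1 hv) (fun a ha => hv' a (hEm.2 ha)) h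
  have hYρ : ∀ g, ∀ v ∈ Y, ρ g v ∈ Y := by
    intro g v hv a ha
    rw [← hEm.1 ha g, hρβ]
    exact hv a ha
  have hQ' : IsPGroup p (⊤ : Subgroup Q) := hQ.to_subgroup ⊤
  have hone : ∀ u, (∀ v, ρ u v = v) → ρ u = 1 := fun u h => LinearMap.ext h
  by_cases hbot : E ⊓ Y = ⊥
  · -- the action is trivial
    have h1 : Y = ⊥ := by
      by_contra h
      have := fixSub_inf_ne_bot ρ hp hpF hQ' Y (fun m _ v hv => hYρ m v hv) h
      rw [inf_comm] at this
      exact this hbot
    have h2 := Pol.finrank_perp P E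
    rw [← hY, h1, finrank_bot, add_zero] at h2
    have h3 : E = ⊤ := Submodule.eq_top_of_finrank_eq (le_antisymm (Submodule.finrank_le E) h2)
    have h4 : ∀ u, ρ u = 1 := fun u => hone u fun v => by
      have : v ∈ E := by rw [h3]; trivial
      exact hEm.1 this u
    have h5 : Subsingleton (Set.range ρ) := by
      constructor
      rintro ⟨_, a, rfl⟩ ⟨_, b, rfl⟩
      apply Subtype.ext
      show ρ a = ρ b
      rw [h4, h4]
    have h6 : Nat.card (Set.range ρ) ≤ 1 := Finite.card_le_one_iff_subsingleton.2 h5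
    omega
  obtain ⟨w, ⟨hwE, hwY⟩, hw0⟩ := (Submodule.ne_bot_iff _).1 hbot
  have hti : ∀ u ∈ E, u ∈ Y → ∀ v ∈ E, v ∈ Y → P.β u v = 0 := fun u _ hu v hv _ => hu v hv
  have hκw : P.κ w ≠ 0 := fun h => hw0 (hW' w hwE hwY h)
  -- `W` is one-dimensional
  have hW1 : ∀ v ∈ E, v ∈ Y → v ∈ (F ∙ w : Submodule F V) := by
    intro v hv hvY
    obtain ⟨a, b, hab, h⟩ := P.κ_iso w v (hti w hwE hwY w hwE hwY) (hti v hv hvY v hv hvY) (hti w hwE hwY v hv hvY)
    have h1 := hW' _ (E.add_mem (E.smul_mem a hwE) (E.smul_mem b hv)) (Y.add_mem (Y.smul_mem a hwY) (Y.smul_mem b hvY)) h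
    have hb : b ≠ 0 := by
      rintro rfl
      rw [zero_smul, add_zero] at h1
      rcases smul_eq_zero.1 h1 with h2 | h2
      · rcases hab with h3 | h3
        · exact h3 h2
        · exact h3 rfl
      · exact hw0 h2
    rw [Submodule.mem_span_singleton]
    refine ⟨-(b⁻¹ * a), ?_⟩
    have h2 : b⁻¹ • (a • w + b • v) = 0 := by rw [h1, smul_zero]
    rw [smul_add, smul_smul, smul_smul, inv_mul_cancel₀ hb, one_smul] at h2
    rw [neg_smul]
    exact (eq_neg_of_add_eq_zero_right h2).symm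
  -- `Y` is one-dimensional
  have hwρ : ∀ g, ρ g w = w := hEm.1 hwE
  have hYw : Y ≤ (F ∙ w : Submodule F V) := by
    set A := (F ∙ w : Submodule F V) with hAdef
    have hfix : ∀ u : Q, ∀ b ∈ A, ρ u b = b := by
      intro u b hb
      obtain ⟨c, rfl⟩ := Submodule.mem_span_singleton.1 hb
      rw [map_smul, hwρ]
    have hA : ∀ g : Q, A ≤ A.comap (ρ g) := by
      intro g b hb
      rw [Submodule.mem_comap, hfix g b hb]
      exact hb
    have hAY : A ≤ Y := by
      rw [hAdef, Submodule.span_singleton_le_iff_mem]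
      exact hwY
    by_contra hcon
    have h1 : Y.map A.mkQ ≠ ⊥ := by
      intro h
      apply hcon
      intro v hv
      have h2 : A.mkQ v ∈ Y.map A.mkQ := ⟨v, hv, rfl⟩
      rw [h, Submodule.mem_bot] at h2
      rwa [← Submodule.ker_mkQ A, LinearMap.mem_ker]
    have h2 := fixSub_inf_ne_bot (ρ.quotient A hA) hp hpF hQ' (Y.map A.mkQ) (by
      rintro m _ _ ⟨v, hv, rfl⟩
      exact ⟨ρ m v, hYρ m v hv, rfl⟩) h1
    obtain ⟨_, ⟨⟨v, hv, rfl⟩, hvf⟩, hv0⟩ := (Submodule.ne_bot_iff _).1 h2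
    have h3 : ∀ g, ρ g v - v ∈ A := by
      intro g
      rw [← Submodule.ker_mkQ A, LinearMap.mem_ker, map_sub]
      exact sub_eq_zero.2 (hvf g trivial)
    have h4 : v ∈ E := by
      rw [hEm]
      intro g
      obtain ⟨c, hc⟩ := Submodule.mem_span_singleton.1 (h3 g)
      have e1 : ρ g v = v + c • w := by rw [hc]; abel
      have e2 : P.β v (c • w) = 0 := by rw [P.smul_right, hv w hwE, mul_zero]
      have e3 := P.κ_add _ _ e2
      rw [← e1, hρκ, P.κ_smul] at e3
      have e4 : P.N c * P.κ w = 0 := by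
        have e5 : P.κ v + 0 = P.κ v + P.N c * P.κ w := by rw [add_zero]; exact e3
        exact (add_left_cancel e5).symm
      have e5 : c = 0 := P.N_zero _ ((mul_eq_zero.1 e4).resolve_right hκw)
      rw [e1, e5, zero_smul, add_zero]
    apply hv0
    have h5 : v ∈ A := hW1 v h4 hv
    rwa [← Submodule.ker_mkQ A, LinearMap.mem_ker] at h5
  have hfr : finrank F V ≤ finrank F E + 1 := by
    have h1 := Pol.finrank_perp P E
    have h2 : finrank F Y ≤ 1 := by
      rw [← finrank_span_singleton (K := F) hw0]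
      exact Submodule.finrank_mono hYw
    rw [← hY] at h1
    omega
  -- the vector `v0`
  obtain ⟨v1, hv1⟩ : ∃ v, P.β v w ≠ 0 := by
    by_contra h
    push Not at h
    exact hw0 (P.nondeg w fun v => P.refl _ _ (h v))
  set v0 := ∑ i ∈ Finset.range r, (T ^ i) v1 with hv0
  have hTw : T w = w := hWT' w hwE hwY
  have hTv0 : T v0 = v0 := sum_fix hT v1
  have hTiw : ∀ i : ℕ, (T ^ i) w = w := by
    intro i
    induction i with
    | zero => rfl
    | succ i ih => rw [pow_succ, Module.End.mul_apply, hTw, ih]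
  have hTiβ : ∀ (i : ℕ) (u v : V), P.β ((T ^ i) u) ((T ^ i) v) = P.β u v := by
    intro i
    induction i with
    | zero => intro u v; rfl
    | succ i ih =>
      intro u v
      rw [pow_succ, Module.End.mul_apply, Module.End.mul_apply, ih, hTβ]
  have hβ0 : P.β v0 w ≠ 0 := by
    have h1 : ∀ s : Finset ℕ, P.β (∑ i ∈ s, (T ^ i) v1) w = (s.card : F) * P.β v1 w := by
      intro s
      classical
      induction s using Finset.induction_on with
      | empty => rw [Finset.sum_empty, Pol.zero_left, Finset.card_empty, Nat.cast_zero, zero_mul]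
      | insert a s ha ih =>
        rw [Finset.sum_insert ha, P.add_left, ih, Finset.card_insert_of_notMem ha, Nat.cast_succ]
        have h2 : P.β ((T ^ a) v1) w = P.β v1 w := by
          conv_lhs => rw [← hTiw a]
          exact hTiβ a v1 w
        rw [h2]
        ring
    rw [hv0, h1, Finset.card_range]
    exact mul_ne_zero hrF' hv1
  have hv0E : v0 ∉ E := fun h => hβ0 (P.refl _ _ (hwY v0 h))
  have htop : E ⊔ (F ∙ v0 : Submodule F V) = ⊤ := by
    apply Submodule.eq_top_of_finrank_eq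
    have h1 : E < E ⊔ (F ∙ v0 : Submodule F V) := by
      refine lt_of_le_of_ne le_sup_left fun h => hv0E ?_
      rw [h]
      exact Submodule.mem_sup_right (Submodule.mem_span_singleton_self v0)
    have h2 := Submodule.finrank_lt_finrank_of_lt h1
    have h3 := Submodule.finrank_le (E ⊔ (F ∙ v0 : Submodule F V))
    omega
  -- operators are determined by the image of `v0`
  have hext : ∀ g g' : Q, ρ g v0 = ρ g' v0 → ρ g = ρ g' := by
    intro g g' h
    ext v
    have h1 : v ∈ E ⊔ (F ∙ v0 : Submodule F V) := by rw [htop]; trivial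
    obtain ⟨a, ha, b, hb, rfl⟩ := Submodule.mem_sup.1 h1
    obtain ⟨c, rfl⟩ := Submodule.mem_span_singleton.1 hb
    rw [map_add, map_add, map_smul, map_smul, h, hEm.1 ha g, hEm.1 ha g']
  have hsub : ∀ g : Q, ρ g v0 - v0 ∈ (F ∙ w : Submodule F V) := by
    intro g
    apply hYw
    intro a ha
    rw [Pol.sub_left]
    have h1 : P.β (ρ g v0) a = P.β v0 a := by
      conv_lhs => rw [← hEm.1 ha g]
      exact hρβ g v0 a
    rw [h1, sub_self]
  -- the space `D`
  set D := LinearMap.range (T - 1) with hD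
  set C := fixS T with hC
  have hCD : ∀ c ∈ C, ∀ d ∈ D, P.β c d = 0 := by
    rintro c hc _ ⟨y, rfl⟩
    have hc' : T c = c := hc
    have h1 : P.β c (T y) = P.β c y := by
      conv_lhs => rw [← hc']
      exact hTβ c y
    rw [LinearMap.sub_apply, Module.End.one_apply, Pol.sub_right, h1, sub_self]
  obtain ⟨d0, hd0, d1, hd1, hdd⟩ : ∃ d0 ∈ D, ∃ d1 ∈ D, P.β d0 d1 ≠ 0 := by
    by_contra hcon
    push Not at hcon
    apply hT1
    have h1 : ∀ d ∈ D, d = 0 := by
      intro d hd
      refine P.nondeg d fun v => ?_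
      have h2 := sum_sub_mem (T := T) r v
      have h3 : P.β d ((r : F) • v) = 0 := by
        have h4 : (r : F) • v = ((r : F) • v - ∑ i ∈ Finset.range r, (T ^ i) v) + ∑ i ∈ Finset.range r, (T ^ i) v := by
          abel
        rw [h4, P.add_right, hcon d hd _ h2, P.refl _ _ (hCD _ (sum_fix hT v) d hd), add_zero]
      rw [P.smul_right] at h3
      refine (mul_eq_zero.1 h3).resolve_left ?_
      rw [map_natCast]
      exact hrF'
    ext v
    have h2 := h1 _ ⟨v, rfl⟩
    rw [LinearMap.sub_apply, Module.End.one_apply, sub_eq_zero] at h2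
    exact h2
  -- any two nontrivial operators are equal
  have hkey : ∀ g g' : Q, ρ g ≠ 1 → ρ g' ≠ 1 → ρ g' = ρ g := by
    intro g g' hg hg'
    set w' := ρ g v0 - v0 with hw'
    obtain ⟨a, ha⟩ := Submodule.mem_span_singleton.1 (hsub g)
    have ha0 : a ≠ 0 := by
      rintro rfl
      rw [zero_smul] at ha
      apply hg
      have h1 : ρ g v0 = ρ 1 v0 := by
        rw [map_one]
        exact sub_eq_zero.1 ha.symm
      rw [hext g 1 h1, map_one]
    obtain ⟨b, hb⟩ := Submodule.mem_span_singleton.1 (hsub g')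
    have hb0 : b ≠ 0 := by
      rintro rfl
      rw [zero_smul] at hb
      apply hg'
      have h1 : ρ g' v0 = ρ 1 v0 := by
        rw [map_one]
        exact sub_eq_zero.1 hb.symm
      rw [hext g' 1 h1, map_one]
    have hw'E : w' ∈ E := by rw [hw', ← ha]; exact E.smul_mem a hwE
    have hw'Y : w' ∈ Y := by rw [hw', ← ha]; exact Y.smul_mem a hwY
    have hw'0 : w' ≠ 0 := by
      rw [hw', ← ha]
      exact smul_ne_zero ha0 hw0
    have hβ0' : P.β v0 w' ≠ 0 := by
      rw [hw', ← ha, P.smul_right]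
      exact mul_ne_zero (fun h => ha0 ((map_eq_zero P.σ).1 h)) hβ0
    have h1 : P.κ (v0 + w') = P.κ v0 := by
      rw [hw', add_sub_cancel, hρκ]
    have hc : ρ g' v0 = v0 + (b * a⁻¹) • w' := by
      rw [hw', ← ha, smul_smul, mul_assoc, inv_mul_cancel₀ ha0, mul_one, hb]
      abel
    have hc' : P.κ (v0 + (b * a⁻¹) • w') = P.κ v0 := by rw [← hc, hρκ]
    have h2 := comp_aux P hCD (w := w') (v0 := v0) (d0 := (-(P.β v0 w') * (P.β d0 d1)⁻¹) • d0) (d1 := d1)
      (hWT' w' hw'E hw'Y) hTv0 (D.smul_mem _ hd0) hd1 (hti w' hw'E hw'Y w' hw'E hw'Y)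
      (fun h => hw'0 (hW' w' hw'E hw'Y h)) (by rw [P.smul_left, mul_assoc, inv_mul_cancel₀ hdd, mul_one]) h1
      (mul_ne_zero hb0 (inv_ne_zero ha0)) hc'
    rw [h2, one_smul] at hc
    apply hext
    rw [hc, hw']
    abel
  by_cases hall : ∀ g : Q, ρ g = 1
  · have h5 : Subsingleton (Set.range ρ) := by
      constructor
      rintro ⟨_, a, rfl⟩ ⟨_, b, rfl⟩
      apply Subtype.ext
      show ρ a = ρ b
      rw [hall, hall]
    have h6 : Nat.card (Set.range ρ) ≤ 1 := Finite.card_le_one_iff_subsingleton.2 h5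
    omega
  · push Not at hall
    obtain ⟨g, hg⟩ := hall
    have h1 : Set.range ρ ⊆ {1, ρ g} := by
      rintro _ ⟨a, rfl⟩
      by_cases ha : ρ a = 1
      · left; exact ha
      · right; exact hkey g a hg ha
    rw [Nat.card_coe_set_eq]
    refine (Set.ncard_le_ncard h1 (Set.toFinite _)).trans ((Set.ncard_insert_le _ _).trans ?_)
    rw [Set.ncard_singleton]

/-- The radical of the fixed space of `Q` is fixed by `T`. -/
theorem rad_fix (P : Pol F V) {r : ℕ} (hr : r.Prime)
    (hrF : ¬ r ∣ Fintype.card F) (ρ : Representation F Q V)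
    {T : V →ₗ[F] V} (hT : T ^ r = 1) (hTβ : ∀ u v, P.β (T u) (T v) = P.β u v)
    (hne : finrank F V < 2 * orderOf ((Fintype.card F : ℕ) : ZMod r))
    (hc : ∀ u, ∃ u', ρ u * T = T * ρ u') :
    ∀ v, (∀ g, ρ g v = v) → (∀ a, (∀ g, ρ g a = a) → P.β v a = 0) → T v = v := by
  set E := fixSub ρ (⊤ : Subgroup Q) with hE
  have hEm : ∀ {v}, v ∈ E ↔ ∀ g, ρ g v = v := fun {v} => ⟨fun h g => h g trivial, fun h g _ => h g⟩
  set Y := Pol.perp P E with hY
  have hET : ∀ v ∈ E, T v ∈ E := by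
    intro v hv
    rw [hEm]
    intro u
    obtain ⟨u', hu'⟩ := hc u
    have h2 : (ρ u * T) v = (T * ρ u') v := by rw [hu']
    rw [Module.End.mul_apply, Module.End.mul_apply, hEm.1 hv u'] at h2
    exact h2
  have hETi : ∀ i : ℕ, ∀ v ∈ E, (T ^ i) v ∈ E := by
    intro i
    induction i with
    | zero => intro v hv; exact hv
    | succ i ih =>
      intro v hv
      rw [pow_succ, Module.End.mul_apply]
      exact ih _ (hET v hv)
  have hYT : ∀ v ∈ Y, T v ∈ Y := by
    intro v hv a ha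
    have h1 : a = T ((T ^ (r - 1)) a) := by
      have h2 : (T ^ r) a = a := by rw [hT]; rfl
      obtain ⟨m, hm⟩ := Nat.exists_eq_succ_of_ne_zero hr.ne_zero
      rw [hm, Nat.succ_sub_one, ← Module.End.mul_apply, ← pow_succ', ← Nat.succ_eq_add_one, ← hm, h2]
    rw [h1, hTβ]
    exact hv _ (hETi _ a ha)
  intro v hv hv'
  refine ti_le_fix P hr hrF hT hTβ hne (E ⊓ Y) (fun v hv => ⟨hET v hv.1, hYT v hv.2⟩)
    (fun u hu v hv => hu.2 v hv.1) v ⟨hEm.2 hv, fun a ha => hv' a (hEm.1 ha)⟩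

/-- The anisotropic case, for representations. -/
theorem aniso_rep (P : Pol F V) {p r : ℕ} (hp : p.Prime) (hr : r.Prime) (hpF : p ∣ Fintype.card F)
    (hrF : ¬ r ∣ Fintype.card F) (hrF' : (r : F) ≠ 0) (hQ : IsPGroup p Q) (ρ : Representation F Q V)
    (hρβ : ∀ g u v, P.β (ρ g u) (ρ g v) = P.β u v) (hρκ : ∀ g u, P.κ (ρ g u) = P.κ u)
    {T : V →ₗ[F] V} (hT : T ^ r = 1) (hT1 : T ≠ 1) (hTβ : ∀ u v, P.β (T u) (T v) = P.β u v)
    (hne : finrank F V < 2 * orderOf ((Fintype.card F : ℕ) : ZMod r))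
    (hc : ∀ u, ∃ u', ρ u * T = T * ρ u') (hC : ∀ v, T v = v → P.κ v = 0 → v = 0) :
    Nat.card (Set.range ρ) ≤ 2 := by
  have h1 := rad_fix P hr hrF ρ hT hTβ hne hc
  exact core_aniso P hp hr hpF hrF hrF' hQ ρ hρβ hρκ hT hT1 hTβ hne h1 fun v hv hv' h => hC v (h1 v hv hv') h

/-- Vectors orthogonal to `w^⊥`. -/
theorem mem_span_of_perp (P : Pol F V) {w : V} (hw0 : w ≠ 0) {z : V}
    (hz : ∀ y, P.β y w = 0 → P.β y z = 0) : ∃ c : F, z = c • w := by
  obtain ⟨v0, hv0⟩ : ∃ v, P.β v w ≠ 0 := by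
    by_contra h
    push Not at h
    exact hw0 (P.nondeg w fun v => P.refl _ _ (h v))
  have hsurj : Function.Surjective P.σ := Finite.injective_iff_surjective.1 P.σ.injective
  obtain ⟨c, hc⟩ := hsurj (P.β v0 z * (P.β v0 w)⁻¹)
  refine ⟨c, sub_eq_zero.1 (P.nondeg _ fun v => P.refl _ _ ?_)⟩
  have h1 : P.β (v - (P.β v w * (P.β v0 w)⁻¹) • v0) w = 0 := by
    rw [Pol.sub_left, P.smul_left, mul_assoc, inv_mul_cancel₀ hv0, mul_one, sub_self]
  have h2 := hz _ h1
  rw [Pol.sub_left, P.smul_left, sub_eq_zero] at h2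
  rw [Pol.sub_right, P.smul_right, hc, h2]
  ring

end core

section sub

variable {F : Type} [Field F] [Fintype F] {V : Type} [AddCommGroup V] [Module F V]

/-- The space `w^⊥`. -/
def wperp (P : Pol F V) (w : V) : Submodule F V where
  carrier := {v | P.β v w = 0}
  zero_mem' := Pol.zero_left P w
  add_mem' := fun {u v} hu hv => by
    show P.β (u + v) w = 0
    rw [P.add_left, show P.β u w = 0 from hu, show P.β v w = 0 from hv, add_zero]
  smul_mem' := fun c u hu => by
    show P.β (c • u) w = 0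
    rw [P.smul_left, show P.β u w = 0 from hu, mul_zero]

/-- The line in `w^⊥`. -/
def wline (P : Pol F V) (w : V) : Submodule F ↥(wperp P w) := (F ∙ w : Submodule F V).comap (wperp P w).subtype

/-- A representative. -/
noncomputable def wout (P : Pol F V) (w : V) (a : ↥(wperp P w) ⧸ wline P w) : V :=
  (Function.surjInv (wline P w).mkQ_surjective a : ↥(wperp P w))

theorem wout_mem (P : Pol F V) (w : V) (a : ↥(wperp P w) ⧸ wline P w) : P.β (wout P w a) w = 0 :=
  (Function.surjInv (wline P w).mkQ_surjective a : ↥(wperp P w)).2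

theorem wout_mk (P : Pol F V) (w : V) (x : ↥(wperp P w)) :
    ∃ c : F, wout P w ((wline P w).mkQ x) = (x : V) + c • w := by
  obtain ⟨z, hz⟩ : ∃ z, z = Function.surjInv (wline P w).mkQ_surjective ((wline P w).mkQ x) := ⟨_, rfl⟩
  have h1 : (wline P w).mkQ z = (wline P w).mkQ x := by
    rw [hz]
    exact Function.surjInv_eq _ _
  have h0 : wout P w ((wline P w).mkQ x) = z := by
    rw [hz]
    rfl
  have h2 : z - x ∈ wline P w := by
    have h3 : z - x ∈ LinearMap.ker (wline P w).mkQ := by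
      rw [LinearMap.mem_ker, map_sub, h1, sub_self]
    rwa [Submodule.ker_mkQ] at h3
  obtain ⟨c, hc⟩ := Submodule.mem_span_singleton.1 (show ((z - x : ↥(wperp P w)) : V) ∈ (F ∙ w : Submodule F V) from h2)
  refine ⟨c, ?_⟩
  rw [hc, h0, Submodule.coe_sub]
  abel

theorem wout_β (P : Pol F V) {w : V} (hw : P.β w w = 0) (x y : ↥(wperp P w)) :
    P.β (wout P w ((wline P w).mkQ x)) (wout P w ((wline P w).mkQ y)) = P.β x y := by
  obtain ⟨c, hc⟩ := wout_mk P w x
  obtain ⟨d, hd⟩ := wout_mk P w y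
  have hx : P.β x w = 0 := x.2
  have hy : P.β w y = 0 := P.refl _ _ y.2
  rw [hc, hd, P.add_left, P.add_right, P.add_right, P.smul_right, P.smul_left, P.smul_left, P.smul_right, hx, hy, hw]
  ring

theorem wout_κ (P : Pol F V) {w : V} (hw : P.κ w = 0) (x : ↥(wperp P w)) :
    P.κ (wout P w ((wline P w).mkQ x)) = P.κ x := by
  obtain ⟨c, hc⟩ := wout_mk P w x
  have hx : P.β x w = 0 := x.2
  rw [hc, P.κ_add _ _ (by rw [P.smul_right, hx, mul_zero]), P.κ_smul, hw, mul_zero, add_zero]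

/-- The form on `w^⊥ / w`. -/
noncomputable def wPol [FiniteDimensional F V] (P : Pol F V) {w : V} (hw0 : w ≠ 0) (hw : P.κ w = 0) :
    Pol F (↥(wperp P w) ⧸ wline P w) where
  β := fun a b => P.β (wout P w a) (wout P w b)
  κ := fun a => P.κ (wout P w a)
  σ := P.σ
  N := P.N
  add_left := fun a b c => by
    obtain ⟨x, rfl⟩ := (wline P w).mkQ_surjective a
    obtain ⟨y, rfl⟩ := (wline P w).mkQ_surjective b
    obtain ⟨z, rfl⟩ := (wline P w).mkQ_surjective c
    rw [← map_add, wout_β P (P.κ_zero w hw), wout_β P (P.κ_zero w hw), wout_β P (P.κ_zero w hw)]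
    exact P.add_left _ _ _
  smul_left := fun a b c => by
    obtain ⟨y, rfl⟩ := (wline P w).mkQ_surjective b
    obtain ⟨z, rfl⟩ := (wline P w).mkQ_surjective c
    rw [← map_smul, wout_β P (P.κ_zero w hw), wout_β P (P.κ_zero w hw)]
    exact P.smul_left _ _ _
  add_right := fun a b c => by
    obtain ⟨x, rfl⟩ := (wline P w).mkQ_surjective a
    obtain ⟨y, rfl⟩ := (wline P w).mkQ_surjective b
    obtain ⟨z, rfl⟩ := (wline P w).mkQ_surjective c
    rw [← map_add, wout_β P (P.κ_zero w hw), wout_β P (P.κ_zero w hw), wout_β P (P.κ_zero w hw)]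
    exact P.add_right _ _ _
  smul_right := fun a b c => by
    obtain ⟨y, rfl⟩ := (wline P w).mkQ_surjective b
    obtain ⟨z, rfl⟩ := (wline P w).mkQ_surjective c
    rw [← map_smul, wout_β P (P.κ_zero w hw), wout_β P (P.κ_zero w hw)]
    exact P.smul_right _ _ _
  refl := fun a b h => P.refl _ _ h
  nondeg := fun a h => by
    obtain ⟨x, rfl⟩ := (wline P w).mkQ_surjective a
    rw [← LinearMap.mem_ker, Submodule.ker_mkQ]
    have h1 : ∀ y, P.β y w = 0 → P.β y x = 0 := by
      intro y hy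
      have h2 := h ((wline P w).mkQ ⟨y, hy⟩)
      rw [wout_β P (P.κ_zero w hw)] at h2
      exact P.refl _ _ h2
    obtain ⟨c, hc⟩ := mem_span_of_perp P hw0 h1
    exact Submodule.mem_span_singleton.2 ⟨c, hc.symm⟩
  κ_add := fun a b h => by
    obtain ⟨x, rfl⟩ := (wline P w).mkQ_surjective a
    obtain ⟨y, rfl⟩ := (wline P w).mkQ_surjective b
    rw [wout_β P (P.κ_zero w hw)] at h
    rw [← map_add, wout_κ P hw, wout_κ P hw, wout_κ P hw]
    exact P.κ_add _ _ h
  κ_smul := fun c a => by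
    obtain ⟨x, rfl⟩ := (wline P w).mkQ_surjective a
    rw [← map_smul, wout_κ P hw, wout_κ P hw]
    exact P.κ_smul _ _
  N_zero := P.N_zero
  κ_zero := fun a h => P.κ_zero _ h
  κ_iso := fun a b h1 h2 h3 => by
    obtain ⟨x, rfl⟩ := (wline P w).mkQ_surjective a
    obtain ⟨y, rfl⟩ := (wline P w).mkQ_surjective b
    rw [wout_β P (P.κ_zero w hw)] at h1 h2 h3
    obtain ⟨c, d, hcd, h⟩ := P.κ_iso _ _ h1 h2 h3
    refine ⟨c, d, hcd, ?_⟩
    rw [← map_smul, ← map_smul, ← map_add, wout_κ P hw]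
    exact h

end sub

section witt

variable {F : Type} [Field F] [Fintype F] {V : Type} [AddCommGroup V] [Module F V] [FiniteDimensional F V]
variable {Q : Type u} [Group Q] [Finite Q]

/-- Restriction to a subspace of fixed points of codimension one. -/
theorem card_restrict (P : Pol F V) (ρ : Representation F Q V) (hρβ : ∀ g u v, P.β (ρ g u) (ρ g v) = P.β u v)
    {w : V} (hw0 : w ≠ 0) (hw : ∀ g, ρ g w = w) (hX : ∀ g, wperp P w ≤ (wperp P w).comap (ρ g)) :
    Nat.card (Set.range ρ) ≤ Nat.card (Set.range (ρ.subrepresentation (wperp P w) hX)) * Fintype.card F := by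
  classical
  set X := wperp P w with hXdef
  obtain ⟨v0, hv0⟩ : ∃ v, P.β v w ≠ 0 := by
    by_contra h
    push Not at h
    exact hw0 (P.nondeg w fun v => P.refl _ _ (h v))
  have htop : ∀ v, v - (P.β v w * (P.β v0 w)⁻¹) • v0 ∈ X := by
    intro v
    show P.β _ w = 0
    rw [Pol.sub_left, P.smul_left, mul_assoc, inv_mul_cancel₀ hv0, mul_one, sub_self]
  have h0 : ∀ f : Set.range ρ, ∃ u : Q, ρ u = f := fun f => f.2
  choose g hg using h0
  let t : Set.range ρ → Set.range (ρ.subrepresentation X hX) := fun f => ⟨ρ.subrepresentation X hX (g f), g f, rfl⟩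
  have h1 : ∀ f : Set.range (ρ.subrepresentation X hX), ∃ u : Q, ρ.subrepresentation X hX u = f := fun f => f.2
  choose s hs using h1
  have hagree : ∀ (f : Set.range ρ), ∀ x ∈ X, ρ (g f) x = ρ (s (t f)) x := by
    intro f x hx
    have h2 : ρ.subrepresentation X hX (s (t f)) = ρ.subrepresentation X hX (g f) := hs (t f)
    have h3 : ρ.subrepresentation X hX (s (t f)) ⟨x, hx⟩ = ρ.subrepresentation X hX (g f) ⟨x, hx⟩ := by rw [h2]
    exact (congrArg Subtype.val h3).symm
  have hd : ∀ f : Set.range ρ, ∃ c : F, ρ (g f) v0 - ρ (s (t f)) v0 = c • w := by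
    intro f
    refine mem_span_of_perp P hw0 fun y hy => P.refl _ _ ?_
    -- write `y = ρ (g f) x`
    have h2 : ρ (g f) (ρ (g f)⁻¹ y) = y := by
      rw [← Module.End.mul_apply, ← map_mul, mul_inv_cancel, map_one, Module.End.one_apply]
    have h3 : ρ (g f)⁻¹ y ∈ X := hX _ hy
    have h4 : P.β (ρ (g f) v0) y = P.β v0 (ρ (g f)⁻¹ y) := by
      conv_lhs => rw [← h2]
      exact hρβ _ _ _
    have h5 : P.β (ρ (s (t f)) v0) y = P.β v0 (ρ (g f)⁻¹ y) := by
      conv_lhs => rw [← h2, hagree f _ h3]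
      exact hρβ _ _ _
    rw [Pol.sub_left, h4, h5, sub_self]
  choose d hd using hd
  have hinj : Function.Injective fun f : Set.range ρ => (t f, d f) := by
    intro f f' hff
    obtain ⟨e1, e2⟩ := Prod.mk.inj hff
    apply Subtype.ext
    rw [← hg f, ← hg f']
    have h2 : ρ (g f) v0 = ρ (g f') v0 := by
      have h3 := hd f
      have h4 := hd f'
      rw [e1, e2] at h3
      exact sub_left_injective (h3.trans h4.symm)
    ext v
    have h3 : v = (v - (P.β v w * (P.β v0 w)⁻¹) • v0) + (P.β v w * (P.β v0 w)⁻¹) • v0 := by abel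
    rw [h3, map_add, map_add, map_smul, map_smul, h2, hagree f _ (htop v), hagree f' _ (htop v), e1]
  have : Finite (Set.range (ρ.subrepresentation X hX)) := Set.finite_range _
  have h5 := Nat.card_le_card_of_injective _ hinj
  rw [Nat.card_prod, Nat.card_eq_fintype_card (α := F)] at h5
  exact h5

/-- The Witt index one case, for representations. -/
theorem witt_rep (P : Pol F V) {p r : ℕ} (hp : p.Prime) (hr : r.Prime) (hpF : p ∣ Fintype.card F)
    (hrF : ¬ r ∣ Fintype.card F) (hrF' : (r : F) ≠ 0) (hQ : IsPGroup p Q) (ρ : Representation F Q V)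
    (hρβ : ∀ g u v, P.β (ρ g u) (ρ g v) = P.β u v) (hρκ : ∀ g u, P.κ (ρ g u) = P.κ u)
    {T : V →ₗ[F] V} (hT : T ^ r = 1) (hT1 : T ≠ 1) (hTβ : ∀ u v, P.β (T u) (T v) = P.β u v)
    (hne : finrank F V < 2 * orderOf ((Fintype.card F : ℕ) : ZMod r))
    (hc : ∀ u, ∃ u', ρ u * T = T * ρ u')
    (hC : ∀ u v, T u = u → T v = v → P.κ u = 0 → P.κ v = 0 → P.β u v = 0 →
      ∃ a b : F, (a ≠ 0 ∨ b ≠ 0) ∧ a • u + b • v = 0) :
    Nat.card (Set.range ρ) ≤ 2 * Fintype.card F ^ (finrank F V - 1) := by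
  have hrad := rad_fix P hr hrF ρ hT hTβ hne hc
  by_cases hW : ∀ v, (∀ g, ρ g v = v) → (∀ a, (∀ g, ρ g a = a) → P.β v a = 0) → P.κ v = 0 → v = 0
  · have h1 := core_aniso P hp hr hpF hrF hrF' hQ ρ hρβ hρκ hT hT1 hTβ hne hrad hW
    have h2 : 1 ≤ Fintype.card F ^ (finrank F V - 1) := Nat.one_le_pow _ _ Fintype.card_pos
    omega
  push Not at hW
  obtain ⟨w, hwf, hwp, hκw, hw0⟩ := hW
  have hTw : T w = w := hrad w hwf hwp
  have hww : P.β w w = 0 := P.κ_zero w hκw
  set X := wperp P w with hXdef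
  have hXmem : ∀ {v}, v ∈ X ↔ P.β v w = 0 := Iff.rfl
  have hX : ∀ g, X ≤ X.comap (ρ g) := by
    intro g v hv
    show P.β (ρ g v) w = 0
    conv_lhs => rw [← hwf g]
    rw [hρβ]
    exact hv
  have hXT : X ≤ X.comap T := by
    intro v hv
    show P.β (T v) w = 0
    conv_lhs => rw [← hTw]
    rw [hTβ]
    exact hv
  have hstep1 := card_restrict P ρ hρβ hw0 hwf hX
  set A := wline P w with hAdef
  have hAmem : ∀ {x : X}, x ∈ A ↔ (x : V) ∈ (F ∙ w : Submodule F V) := Iff.rfl
  set ρX := ρ.subrepresentation X hX with hρX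
  have hρXv : ∀ (g : Q) (x : X), ((ρX g x : X) : V) = ρ g x := fun g x => rfl
  have hfixA : ∀ u : Q, ∀ b ∈ A, ρX u b = b := by
    intro u b hb
    apply Subtype.ext
    rw [hρXv]
    obtain ⟨c, hc⟩ := Submodule.mem_span_singleton.1 (hAmem.1 hb)
    rw [← hc, map_smul, hwf]
  have hA : ∀ g : Q, A ≤ A.comap (ρX g) := by
    intro g b hb
    rw [Submodule.mem_comap, hfixA g b hb]
    exact hb
  have hstep2 := card_step ρX A hA hfixA
  have hfrA : finrank F A = 1 := by
    have hwX : w ∈ X := hww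
    have h1 : A = (F ∙ (⟨w, hwX⟩ : X) : Submodule F X) := by
      ext x
      rw [hAmem, Submodule.mem_span_singleton, Submodule.mem_span_singleton]
      constructor
      · rintro ⟨c, hc⟩
        exact ⟨c, Subtype.ext hc⟩
      · rintro ⟨c, hc⟩
        exact ⟨c, congrArg Subtype.val hc⟩
    rw [h1]
    exact finrank_span_singleton fun h => hw0 (congrArg Subtype.val h)
  have hfrX : finrank F X < finrank F V := by
    refine Submodule.finrank_lt fun h => hw0 (P.nondeg w fun v => P.refl _ _ ?_)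
    have : v ∈ X := by rw [h]; trivial
    exact this
  -- the operator on the quotient
  set TX : X →ₗ[F] X := T.restrict hXT with hTX
  have hTXv : ∀ x : X, ((TX x : X) : V) = T x := fun x => rfl
  have hTXi : ∀ (i : ℕ) (x : X), (((TX ^ i) x : X) : V) = (T ^ i) x := by
    intro i
    induction i with
    | zero => intro x; rfl
    | succ i ih =>
      intro x
      rw [pow_succ, pow_succ, Module.End.mul_apply, Module.End.mul_apply, ih, hTXv]
  have hAT : A ≤ A.comap TX := by
    intro b hb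
    have h1 : TX b = b := by
      apply Subtype.ext
      rw [hTXv]
      obtain ⟨c, hc⟩ := Submodule.mem_span_singleton.1 (hAmem.1 hb)
      rw [← hc, map_smul, hTw]
    rw [Submodule.mem_comap, h1]
    exact hb
  set TT := A.mapQ A TX hAT with hTT
  have hTTv : ∀ x : X, TT (A.mkQ x) = A.mkQ (TX x) := fun x => rfl
  have hTTr : TT ^ r = 1 := by
    rw [hTT, ← Submodule.mapQ_pow]
    apply Submodule.linearMap_qext
    ext x
    have h8 : (TX ^ r) x = x := by
      apply Subtype.ext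
      rw [hTXi, hT]
      rfl
    show A.mkQ ((TX ^ r) x) = A.mkQ x
    rw [h8]
  have hTT1 : TT ≠ 1 := by
    intro h
    have h1 : ∀ x ∈ X, T x = x := by
      intro x hx
      apply fix_of_sub hrF' hT
      have h2 : TX ⟨x, hx⟩ - ⟨x, hx⟩ ∈ A := by
        rw [← Submodule.ker_mkQ A, LinearMap.mem_ker, map_sub, ← hTTv, h]
        exact sub_self _
      obtain ⟨c, hc⟩ := Submodule.mem_span_singleton.1 (hAmem.1 h2)
      have h3 : T x - x = c • w := by rw [hc]; rfl
      rw [h3, map_smul, hTw]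
    apply hT1
    ext v
    apply fix_of_sub hrF' hT
    obtain ⟨c, hc⟩ := mem_span_of_perp P hw0 (z := T v - v) (by
      intro y hy
      have h2 : P.β y (T v) = P.β y v := by
        conv_lhs => rw [← h1 y hy]
        exact hTβ _ _
      rw [Pol.sub_right, h2, sub_self])
    rw [hc, map_smul, hTw]
  let PP := wPol P hw0 hκw
  have hstep3 := aniso_rep (V := X ⧸ A) PP hp hr hpF hrF hrF' hQ (ρX.quotient A hA)
    (by
      intro g a b
      obtain ⟨x, rfl⟩ := A.mkQ_surjective a
      obtain ⟨y, rfl⟩ := A.mkQ_surjective b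
      exact (wout_β P hww (ρX g x) (ρX g y)).trans ((hρβ g x y).trans (wout_β P hww x y).symm))
    (by
      intro g a
      obtain ⟨x, rfl⟩ := A.mkQ_surjective a
      exact (wout_κ P hκw (ρX g x)).trans ((hρκ g x).trans (wout_κ P hκw x).symm))
    hTTr hTT1
    (by
      intro a b
      obtain ⟨x, rfl⟩ := A.mkQ_surjective a
      obtain ⟨y, rfl⟩ := A.mkQ_surjective b
      exact (wout_β P hww (TX x) (TX y)).trans ((hTβ x y).trans (wout_β P hww x y).symm))
    (by
      rw [Submodule.finrank_quotient]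
      omega)
    (by
      intro u
      obtain ⟨u', hu'⟩ := hc u
      refine ⟨u', ?_⟩
      apply Submodule.linearMap_qext
      ext x
      have h8 : ρX u (TX x) = TX (ρX u' x) := by
        apply Subtype.ext
        have h9 : (ρ u * T) x = (T * ρ u') x := by rw [hu']
        exact h9
      exact congrArg A.mkQ h8)
    (by
      intro a ha hκa
      obtain ⟨x, rfl⟩ := A.mkQ_surjective a
      have h1 : P.κ x = 0 := (wout_κ P hκw x).symm.trans hκa
      have h2 : T x = x := by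
        apply fix_of_sub hrF' hT
        have h3 : TX x - x ∈ A := by
          rw [← Submodule.ker_mkQ A, LinearMap.mem_ker, map_sub, ← hTTv, ha, sub_self]
        obtain ⟨c, hc⟩ := Submodule.mem_span_singleton.1 (hAmem.1 h3)
        have h4 : T x - x = c • w := by rw [hc]; rfl
        rw [h4, map_smul, hTw]
      obtain ⟨c, d, hcd, h⟩ := hC x w h2 hTw h1 hκw x.2
      have hc0 : c ≠ 0 := by
        rintro rfl
        rw [zero_smul, zero_add] at h
        rcases smul_eq_zero.1 h with h3 | h3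
        · rcases hcd with h4 | h4
          · exact h4 rfl
          · exact h4 h3
        · exact hw0 h3
      rw [← LinearMap.mem_ker, Submodule.ker_mkQ, hAmem, Submodule.mem_span_singleton]
      refine ⟨-(c⁻¹ * d), ?_⟩
      have h3 : c⁻¹ • (c • (x : V) + d • w) = 0 := by rw [h, smul_zero]
      rw [smul_add, smul_smul, smul_smul, inv_mul_cancel₀ hc0, one_smul] at h3
      rw [neg_smul]
      exact (eq_neg_of_add_eq_zero_left h3).symm)
  refine hstep1.trans ((Nat.mul_le_mul_right _ (hstep2.trans (Nat.mul_le_mul_right _ hstep3))).trans ?_)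
  rw [hfrA, one_mul, mul_assoc, ← pow_succ]
  refine Nat.mul_le_mul_left _ (Nat.pow_le_pow_right Fintype.card_pos ?_)
  have h1 : 1 ≤ finrank F X := by
    rw [← hfrA]
    exact Submodule.finrank_le A
  omega

end witt

section final

theorem natCast_ne_zero {F : Type} [Field F] [Fintype F] {r : ℕ} (hr : r.Prime) (hrF : ¬ r ∣ Fintype.card F) :
    (r : F) ≠ 0 := by
  intro h
  have := Nat.cast_card_eq_zero F
  obtain ⟨ℓ, hℓ⟩ := CharP.exists F
  have h1 : ℓ ∣ r := (CharP.cast_eq_zero_iff F ℓ r).1 h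
  have h2 : ℓ ∣ Fintype.card F := (CharP.cast_eq_zero_iff F ℓ _).1 this
  have h3 : ℓ.Prime := (CharP.char_is_prime_or_zero F ℓ).resolve_right fun h0 => by
    rw [h0, zero_dvd_iff] at h2
    exact Fintype.card_ne_zero h2
  exact hrF ((Nat.prime_dvd_prime_iff_eq h3 hr).1 h1 ▸ h2)

/-- The data from a linear group. -/
theorem data {G : Type} [Group G] [Finite G] {F : Type} [Field F] [Fintype F] {ι : Type} [Fintype ι]
    [DecidableEq ι] (φ : G →* Matrix ι ι F) (hφ : Function.Injective φ) {r p : ℕ} (hr : r.Prime) (hp : p.Prime)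
    (hrp : r ≠ p) (hF : CharP F p) {x : G} (hx : orderOf x = r) {U : Subgroup G}
    (hxU : x ∈ Subgroup.normalizer (U : Set G)) :
    ∃ (ρ : Representation F U (ι → F)) (T : (ι → F) →ₗ[F] (ι → F)), (∀ (u : U) v, ρ u v = (φ u).mulVec v) ∧
      (∀ v, T v = (φ x).mulVec v) ∧ Nat.card (Set.range ρ) = Nat.card U ∧ T ^ r = 1 ∧ T ≠ 1 ∧
      (∀ u : U, ∃ u' : U, ρ u * T = T * ρ u') ∧ p ∣ Fintype.card F ∧ ¬ r ∣ Fintype.card F ∧ (r : F) ≠ 0 := by
  let L : Matrix ι ι F ≃ₐ[F] ((ι → F) →ₗ[F] (ι → F)) := Matrix.toLinAlgEquiv'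
  let ψ : G →* ((ι → F) →ₗ[F] (ι → F)) := (L : _ →* _).comp φ
  have hψ : Function.Injective ψ := L.injective.comp hφ
  let ρ : Representation F U (ι → F) := ψ.comp U.subtype
  have hρ : Function.Injective ρ := hψ.comp U.subtype_injective
  have hT : ψ x ^ r = 1 := by rw [← map_pow, ← hx, pow_orderOf_eq_one, map_one]
  have hT1 : ψ x ≠ 1 := by
    intro h
    have h1 : x = 1 := hψ (by rw [h, map_one])
    rw [h1, orderOf_one] at hx
    exact hr.one_lt.ne hx
  have hc : ∀ u : U, ∃ u' : U, ρ u * ψ x = ψ x * ρ u' := by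
    intro u
    have h1 : x⁻¹ * (u : G) * x ∈ U := (Subgroup.mem_normalizer_iff''.1 hxU (u : G)).1 u.2
    refine ⟨⟨_, h1⟩, ?_⟩
    show ψ u * ψ x = ψ x * ψ (x⁻¹ * (u : G) * x)
    rw [← map_mul, ← map_mul]
    congr 1
    group
  have hpF : p ∣ Fintype.card F := (CharP.cast_eq_zero_iff F p _).1 (Nat.cast_card_eq_zero F)
  have hrF : ¬ r ∣ Fintype.card F := by
    obtain ⟨k, hp', hk⟩ := FiniteField.card F p
    rw [hk]
    intro h
    exact hrp ((Nat.prime_dvd_prime_iff_eq hr hp).1 (hr.dvd_of_dvd_pow h))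
  exact ⟨ρ, ψ x, fun u v => rfl, fun v => rfl, Nat.card_congr (Equiv.ofInjective ρ hρ).symm, hT, hT1, hc, hpF, hrF,
    natCast_ne_zero hr hrF⟩

theorem anisoForm : AnisoForm := by
  intro G _ _ F _ _ ι _ _ φ hφ P hβ hκ r p e hr hp hrp hF he hn x hx hC U hU hxU
  obtain ⟨ρ, T, hρ, hTv, hcard, hT, hT1, hc, hpF, hrF, hrF'⟩ := data φ hφ hr hp hrp hF hx hxU
  rw [← hcard]
  refine aniso_rep P hp hr hpF hrF hrF' hU ρ (fun g u v => ?_) (fun g u => ?_) hT hT1 (fun u v => ?_) ?_ hc
    (fun v hv hκv => hC v (by rw [← hTv]; exact hv) hκv)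
  · rw [hρ, hρ, hβ]
  · rw [hρ, hκ]
  · rw [hTv, hTv, hβ]
  · rw [he, Module.finrank_fintype_fun_eq_card]
    exact hn

theorem wittOneForm : WittOneForm := by
  intro G _ _ F _ _ ι _ _ φ hφ P hβ hκ r p e hr hp hrp hF he hn x hx hC U hU hxU
  obtain ⟨ρ, T, hρ, hTv, hcard, hT, hT1, hc, hpF, hrF, hrF'⟩ := data φ hφ hr hp hrp hF hx hxU
  rw [← hcard]
  have h1 := witt_rep P hp hr hpF hrF hrF' hU ρ (fun g u v => by rw [hρ, hρ, hβ]) (fun g u => by rw [hρ, hκ]) hT hT1
    (fun u v => by rw [hTv, hTv, hβ]) (by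
      rw [he, Module.finrank_fintype_fun_eq_card]
      exact hn) hc (fun u v hu hv h1 h2 h3 => hC u v (by rw [← hTv]; exact hu) (by rw [← hTv]; exact hv) h1 h2 h3)
  rw [Module.finrank_fintype_fun_eq_card] at h1
  exact h1

end final

end Cfsg.Agent.H222.NFLin
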