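import Cfsg.Agent.H222.GNSec2

/-!
# Uniform Glauberman–Niles, section (6): the two natural sections of `G`
-/

set_option autoImplicit false
set_option linter.unusedSectionVars false

namespace Cfsg.Agent.H222.GNSix

open Subgroup
open Cfsg.Agent.H260.Push
open Cfsg.Agent.H259.GN
open Cfsg.Agent.H222.GNTorus
open scoped commutatorElement

variable {X : Type*} [Group X]

variable {S G M Q H N P V U Z : Subgroup X} {q : ℕ}

section pu

variable (hp : PU S G M Q q) [Finite X]
include hp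

theorem cenQ_not_le (hq : 1 < q) : ¬ cen Q ≤ cen S := by
  intro h1
  have h2 := hp.cardV
  rw [le_antisymm h1 hp.ZV] at h2
  have h3 : 0 < Nat.card (cen S) := Nat.card_pos
  nlinarith

theorem SM (hq : 1 < q) : S ≤ M := by
  intro s₀ hs₀
  by_contra hsM
  have h1 := hp.gen s₀ (hp.SG hs₀) hsM
  rw [cj_eq_self hs₀, sup_idem] at h1
  obtain ⟨s, hs, hsQ⟩ := hp.exists_notMem_Q hq
  apply cenQ_not_le hp hq
  intro y hy
  apply hp.cmc s hs hsQ y hy
  have := hp.quad y hy s hs
  rwa [← h1]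

omit [Finite X] in
theorem cm_mul {y y' s : X} (hy : y ∈ cen Q) (hy' : y' ∈ cen Q) (hs : s ∈ S) :
    cm (y * y') s = cm y s * cm y' s := by
  have h1 : cm y' s ∈ cen S := hp.quad y' hy' s hs
  have h2 : y * cm y' s = cm y' s * y := cen_comm h1 (hp.VS hy)
  have h3 : y⁻¹ * cm y' s = cm y' s * y⁻¹ := cen_comm h1 (inv_mem (hp.VS hy))
  have e : cm (y * y') s = (s * y * s⁻¹) * (cm y' s * y⁻¹) := by
    unfold cm; group
  rw [e, ← h3]
  unfold cm; group

omit [Finite X] in
theorem cm_mul' {y s s' : X} (hy : y ∈ cen Q) (hs : s ∈ S) (hs' : s' ∈ S) :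
    cm y (s * s') = cm y s * cm y s' := by
  have h1 : cm y s' ∈ cen S := hp.quad y hy s' hs'
  have h2 : s * cm y s' = cm y s' * s := cen_comm h1 hs
  have h3 : cm y s * cm y s' = cm y s' * cm y s :=
    cen_comm h1 (cen_le S (hp.quad y hy s hs))
  have e : cm y (s * s') = (s * cm y s') * s⁻¹ * cm y s := by
    unfold cm; group
  rw [e, h2, h3]; group

omit [Finite X] in
theorem cm_pow {y s : X} (hy : y ∈ cen Q) (hs : s ∈ S) (n : ℕ) : cm y (s ^ n) = cm y s ^ n := by
  induction n with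
  | zero => unfold cm; simp
  | succ n ih => rw [pow_succ, cm_mul' hp hy (pow_mem hs n) hs, ih, pow_succ]

omit [Finite X] in
theorem cm_cen {y s : X} (hy : y ∈ cen S) (hs : s ∈ S) : cm y s = 1 := by
  unfold cm
  rw [cen_comm hy hs]; group

theorem card_cenS (hq : 1 < q) : Nat.card (cen S) = q * Nat.card (cen G) := by
  classical
  have hpos : 0 < Nat.card (cen G) := Nat.card_pos
  have hposS : 0 < Nat.card (cen S) := Nat.card_pos
  obtain ⟨g, hg, hgM⟩ := hp.exM
  apply le_antisymm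
  · -- two opposite conjugates
    have h1 : cj g (cen S) ≤ cen Q := by
      have := cj_mono (g := g) hp.ZV
      rwa [hp.cjV hg] at this
    have h2 : cj g (cen S) ≤ normalizer (cen S : Set X) := by
      have h3 : cen Q ≤ S := hp.VS
      intro y hy
      rw [← cj_eq_iff_mem_normalizer, cj_cen, cj_eq_self (h3 (h1 hy))]
    have h3 := card_mul_eq h2
    have h4 : Nat.card (cj g (cen S) ⊔ cen S : Subgroup X) ≤ Nat.card (cen Q) :=
      Nat.card_mono (Set.toFinite _) (sup_le h1 hp.ZV)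
    have h5 : Nat.card (cj g (cen S) ⊓ cen S : Subgroup X) ≤ Nat.card (cen G) := by
      apply Nat.card_mono (Set.toFinite _)
      rintro x ⟨hx1, hx2⟩
      apply hp.mem_cenG_of_two hg hgM hx2
      intro s hs
      have h7 : Cm (cj g S) (cj g (cen S)) := Cm.cj (fun s hs z hz => cen_comm hz hs) _
      exact h7 s hs x hx1
    rw [card_cj] at h3
    rw [hp.cardV] at h4
    have h6 : Nat.card (cen S) * Nat.card (cen S) ≤
        (q * Nat.card (cen G)) * Nat.card (cen S) := by
      rw [← h3]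
      calc _ ≤ (q * Nat.card (cen S)) * Nat.card (cen G) := Nat.mul_le_mul h4 h5
        _ = _ := by ring
    exact Nat.le_of_mul_le_mul_right h6 hposS
  · obtain ⟨s, hs, hsQ⟩ := hp.exists_notMem_Q hq
    let f : cen Q →* cen S := MonoidHom.mk' (fun y => ⟨cm (y : X) s, hp.quad y y.2 s hs⟩) (by
      intro y y'
      apply Subtype.ext
      exact cm_mul hp y.2 y'.2 hs)
    have hf : ∀ y : cen Q, ((f y : cen S) : X) = cm (y : X) s := fun y => rfl
    let K : Subgroup (cen Q) := ((cen G).subgroupOf (cen S)).comap f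
    have hK : K ≤ (cen S).subgroupOf (cen Q) := by
      intro y hy
      rw [Subgroup.mem_comap, mem_subgroupOf, hf] at hy
      rw [mem_subgroupOf]
      exact hp.cmc s hs hsQ y y.2 hy
    have h1 : ((cen S).subgroupOf (cen Q)).index ≤ K.index := by
      apply Nat.le_of_dvd
      · exact Nat.pos_of_ne_zero Subgroup.FiniteIndex.index_ne_zero
      · exact Subgroup.index_dvd_of_le hK
    haveI : ((cen G).subgroupOf (cen S)).Normal := ⟨fun n hn y => by
      rw [mem_subgroupOf] at hn ⊢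
      have h9 : (y : X) * n = n * y := cen_comm n.2 (cen_le S y.2)
      have e : ((y * n * y⁻¹ : cen S) : X) = n := by
        rw [Subgroup.coe_mul, Subgroup.coe_mul, h9, Subgroup.coe_inv]; group
      rw [e]
      exact hn⟩
    have h2 : K.index ≤ ((cen G).subgroupOf (cen S)).index := by
      rw [Subgroup.index_comap]
      exact Nat.le_of_dvd (Nat.pos_of_ne_zero Subgroup.FiniteIndex.index_ne_zero)
        (Subgroup.relIndex_dvd_index_of_normal _ _)
    have h3 : Nat.card ((cen S).subgroupOf (cen Q)) * ((cen S).subgroupOf (cen Q)).index =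
        Nat.card (cen Q) := Subgroup.card_mul_index _
    have h4 : Nat.card ((cen G).subgroupOf (cen S)) * ((cen G).subgroupOf (cen S)).index =
        Nat.card (cen S) := Subgroup.card_mul_index _
    rw [Nat.card_congr (subgroupOfEquivOfLe hp.ZV).toEquiv, hp.cardV] at h3
    rw [Nat.card_congr (subgroupOfEquivOfLe hp.cenG).toEquiv] at h4
    have h5 : ((cen S).subgroupOf (cen Q)).index = q := by
      apply Nat.eq_of_mul_eq_mul_left hposS
      rw [h3]; ring
    rw [h5] at h1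
    rw [← h4]
    calc q * Nat.card (cen G) ≤ ((cen G).subgroupOf (cen S)).index * Nat.card (cen G) :=
          Nat.mul_le_mul_right _ (h1.trans h2)
      _ = _ := by ring

/-- the first section -/
theorem sec1 (hq : 1 < q) : NSec S G M (cen Q) (cen S) (cen G) q where
  ZU := hp.cenG
  UV := hp.ZV
  VG := hp.VS.trans hp.SG
  Vn := hp.Vn
  Zn := by
    intro x hx
    rw [← cj_eq_iff_mem_normalizer]
    exact hp.cenG_norm hx le_rfl
  ab := by
    intro a ha b hb
    have h1 : a * b = b * a := (cen_comm ha (cen_le Q hb)).symm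
    have e : ⁅a, b⁆ = 1 := by rw [commutatorElement_def, h1]; group
    rw [e]
    exact one_mem _
  SU := by
    intro s hs u hu
    have h1 : s * u = u * s := cen_comm hu hs
    have e : s * u * s⁻¹ * u⁻¹ = 1 := by rw [h1]; group
    rw [e]
    exact one_mem _
  SV := by
    intro s hs v hv
    exact hp.quad v hv s hs
  ti := by
    rintro x hx hxM y ⟨hy1, hy2⟩
    apply hp.mem_cenG_of_two hx hxM hy1
    intro s hs
    have h7 : Cm (cj x S) (cj x (cen S)) := Cm.cj (fun s hs z hz => cen_comm hz hs) _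
    exact h7 s hs y hy2
  cardV := hp.cardV
  cardU := card_cenS hp hq

end pu

section pair

variable (h : Pair S G M Q H N P q) [Finite X]
include h

/-- commutators of `S` lie in `P` -/
theorem comm_S_P : ∀ a ∈ S, ∀ b ∈ S, ⁅a, b⁆ ∈ P := by
  obtain ⟨g, hg, hgM⟩ := h.hG.exM
  have hS := h.sup hg (h.ncG g hg hgM)
  rw [Subgroup.sup_eq_closure] at hS
  have hPn : S ≤ normalizer (P : Set X) := h.hH.SG.trans h.hH.Qn
  have hAS : cj g (cen P) ≤ S := (h.cj_le_Q hg).trans h.hG.QS
  have key : ∀ a ∈ closure ((cj g (cen P) : Set X) ∪ P), ∀ b ∈ closure ((cj g (cen P) : Set X) ∪ P),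
      ⁅a, b⁆ ∈ P := by
    apply comm_closure' (G := S)
    · rintro x (hx | hx)
      · exact hAS hx
      · exact h.hH.QS hx
    · exact hPn
    · have hP : ∀ x ∈ S, ∀ y ∈ P, ⁅x, y⁆ ∈ P := by
        intro x hx y hy
        have h1 := conj_mem_of_normalizer (hPn hx) hy
        rw [commutatorElement_def]
        exact mul_mem h1 (inv_mem hy)
      rintro a (ha | ha) b (hb | hb)
      · have h1 : Cm (cj g (cen P)) (cj g (cen P)) :=
          (h.hH.cm_VQ.mono le_rfl (cen_le P)).cj g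
        have h2 : a * b = b * a := h1 a ha b hb
        have e : ⁅a, b⁆ = 1 := by rw [commutatorElement_def, h2]; group
        rw [e]; exact one_mem _
      · exact hP a (hAS ha) b hb
      · rw [← commutatorElement_inv]
        exact inv_mem (hP b (hAS hb) a ha)
      · exact hP a (h.hH.QS ha) b hb
  rwa [hS] at key

/-- commutators of `S` lie in `Q` -/
theorem comm_S_Q : ∀ a ∈ S, ∀ b ∈ S, ⁅a, b⁆ ∈ Q := comm_S_P h.symm

variable {g : X} (hg : g ∈ G) (hgM : g ∉ M)
include hg hgM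

theorem E0_le_of {x : X} (hx : x ∈ G) (hxM : x ∉ M) : E0 Q P x ≤ E0 Q P g := by
  intro y hy
  rw [mem_E0]
  have h1 := mem_E0.1 hy
  refine ⟨h1.1, h1.2.1, ?_⟩
  have h2 : y ∈ cj g (E0 Q P x) := by rwa [cjE0 h hx hxM hg]
  rw [mem_cj] at h2 ⊢
  exact (mem_E0.1 h2).2.1

theorem ti2 {x : X} (hx : x ∈ G) (hxM : x ∉ M) : (Q ⊓ P) ⊓ cj x (Q ⊓ P) ≤ E0 Q P g := by
  intro y hy
  obtain ⟨hy1, hy2⟩ := mem_inf.1 hy
  apply E0_le_of h hg hgM hx hxM
  rw [mem_E0]
  rw [mem_cj] at hy2
  exact ⟨(mem_inf.1 hy1).1, (mem_inf.1 hy1).2, mem_cj.2 (mem_inf.1 hy2).2⟩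

omit hgM [Finite X] in
theorem cenS_E0 : cen S ≤ E0 Q P g := h.hG.ZV.trans (cenQ_E0 h hg)

/-- the second section -/
theorem sec2 : NSec S G M Q (Q ⊓ P) (E0 Q P g) q where
  ZU := fun y hy => mem_inf.2 ⟨(mem_E0.1 hy).1, (mem_E0.1 hy).2.1⟩
  UV := inf_le_left
  VG := h.hG.QG
  Vn := h.hG.Qn
  Zn := G_norm h hg hgM
  ab := by
    have hQ : Q ≤ closure ((cj g (cen P) : Set X) ∪ cen P ∪ E0 Q P g) := by
      intro x hx
      obtain ⟨a, ha, v, hv, r, hr, rfl⟩ := dec3 h hg hgM hx
      exact mul_mem (mul_mem (Subgroup.subset_closure (Or.inl (Or.inl ha)))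
        (Subgroup.subset_closure (Or.inl (Or.inr hv)))) (Subgroup.subset_closure (Or.inr hr))
    have key : ∀ a ∈ closure ((cj g (cen P) : Set X) ∪ cen P ∪ E0 Q P g),
        ∀ b ∈ closure ((cj g (cen P) : Set X) ∪ cen P ∪ E0 Q P g), ⁅a, b⁆ ∈ E0 Q P g := by
      have hA : ∀ a ∈ Wn G P, ∀ b ∈ Wn G P, ⁅a, b⁆ ∈ E0 Q P g := fun a ha b hb =>
        cenS_E0 h hg (h.hH.DZ (Wn_comm h a ha b hb))
      have hE : ∀ a ∈ Q, ∀ b ∈ E0 Q P g, ⁅a, b⁆ ∈ E0 Q P g := by
        intro a ha b hb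
        have h1 := Q_norm h hg hgM ha hb
        rw [commutatorElement_def]
        exact mul_mem h1 (inv_mem hb)
      have hE' : ∀ a ∈ E0 Q P g, ∀ b ∈ Q, ⁅a, b⁆ ∈ E0 Q P g := by
        intro a ha b hb
        rw [← commutatorElement_inv]
        exact inv_mem (hE b hb a ha)
      apply comm_closure' (G := Q)
      · rintro x ((hx | hx) | hx)
        · exact h.cj_le_Q hg hx
        · exact cenP_Q h hx
        · exact (mem_E0.1 hx).1
      · exact fun x hx => (G_norm h hg hgM) (h.hG.QG hx)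
      · rintro a ((ha | ha) | ha) b ((hb | hb) | hb)
        · exact hA a (cj_le_Wn hg ha) b (cj_le_Wn hg hb)
        · exact hA a (cj_le_Wn hg ha) b (cen_le_Wn G P hb)
        · exact hE a (h.cj_le_Q hg ha) b hb
        · exact hA a (cen_le_Wn G P ha) b (cj_le_Wn hg hb)
        · exact hA a (cen_le_Wn G P ha) b (cen_le_Wn G P hb)
        · exact hE a (cenP_Q h ha) b hb
        · exact hE' a ha b (h.cj_le_Q hg hb)
        · exact hE' a ha b (cenP_Q h hb)
        · exact hE a (mem_E0.1 ha).1 b hb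
    exact fun a ha b hb => key a (hQ ha) b (hQ hb)
  SU := by
    intro s hs u hu
    obtain ⟨v, hv, r, hr, rfl⟩ := dec1 h hg hgM (mem_inf.1 hu).1 (mem_inf.1 hu).2
    have h1 : cm v s ∈ cen S := h.hH.quad v hv s hs
    have h2 : s * r * s⁻¹ ∈ E0 Q P g := S_norm h hg hgM hs hr
    have e : s * (v * r) * s⁻¹ * (v * r)⁻¹ = cm v s * (v * (s * r * s⁻¹ * r⁻¹) * v⁻¹) := by
      unfold cm; group
    rw [e]
    apply mul_mem (cenS_E0 h hg h1)
    have h3 : s * r * s⁻¹ * r⁻¹ ∈ E0 Q P g := mul_mem h2 (inv_mem hr)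
    exact Q_norm h hg hgM (cenP_Q h hv) h3
  SV := by
    intro s hs v hv
    rw [mem_inf]
    have hvS := h.hG.QS hv
    exact ⟨comm_S_Q h s hs v hvS, comm_S_P h s hs v hvS⟩
  ti := fun x hx hxM => ti2 h hg hgM hx hxM
  cardV := by
    have h1 : cj g (cen P) ≤ normalizer ((Q ⊓ P : Subgroup X) : Set X) := by
      intro y hy
      have hyS : y ∈ S := h.hG.QS (h.cj_le_Q hg hy)
      rw [← cj_eq_iff_mem_normalizer, cj_inf, h.hG.cjQ (h.hG.SG hyS), h.hH.cjQ (h.hH.SG hyS)]
    have h2 := card_mul_eq h1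
    have h3 : cj g (cen P) ⊔ (Q ⊓ P) = Q := by
      apply le_antisymm (sup_le (h.cj_le_Q hg) inf_le_left)
      intro x hx
      obtain ⟨a, ha, r, hrQ, hrP, rfl⟩ := dec2 h hg hgM hx
      exact mul_mem (mem_sup_left ha) (mem_sup_right (mem_inf.2 ⟨hrQ, hrP⟩))
    have h4 : cj g (cen P) ⊓ (Q ⊓ P) = cj g (cen S) := by
      rw [← h.inf hg (h.ncG g hg hgM), ← inf_assoc, inf_eq_left.2 (h.cj_le_Q hg)]
    rw [h3, h4, card_cj, card_cj, h.hH.cardV] at h2
    have h5 : 0 < Nat.card (cen S) := Nat.card_pos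
    apply Nat.eq_of_mul_eq_mul_right h5
    rw [h2]; ring
  cardU := by
    have h1 : cen P ≤ normalizer (E0 Q P g : Set X) := fun y hy =>
      (G_norm h hg hgM) (h.hG.QG (cenP_Q h hy))
    have h2 := card_mul_eq h1
    have h3 : cen P ⊔ E0 Q P g = Q ⊓ P := by
      apply le_antisymm
      · apply sup_le
        · exact le_inf (cenP_Q h) (cen_le P)
        · exact fun y hy => mem_inf.2 ⟨(mem_E0.1 hy).1, (mem_E0.1 hy).2.1⟩
      · intro x hx
        obtain ⟨v, hv, r, hr, rfl⟩ := dec1 h hg hgM (mem_inf.1 hx).1 (mem_inf.1 hx).2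
        exact mul_mem (mem_sup_left hv) (mem_sup_right hr)
    have h4 : cen P ⊓ E0 Q P g = cen S := by
      apply le_antisymm
      · rintro x ⟨hx1, hx2⟩
        exact cap h.symm hg hgM hx1 (mem_E0.1 hx2).2.2
      · exact le_inf h.hH.ZV (cenS_E0 h hg)
    rw [h3, h4, h.hH.cardV] at h2
    have h5 : 0 < Nat.card (cen S) := Nat.card_pos
    apply Nat.eq_of_mul_eq_mul_right h5
    rw [h2]; ring

end pair

end Cfsg.Agent.H222.GNSix
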