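import Cfsg.Agent.H222.GNFive

/-!
# Uniform Glauberman–Niles, section (6): the torus element in `N(S)`
-/

set_option autoImplicit false
set_option linter.unusedSectionVars false

namespace Cfsg.Agent.H222.GNSix

open Subgroup
open Cfsg.Agent.H260.Push
open Cfsg.Agent.H259.GN
open Cfsg.Agent.H222.GNTorus
open scoped commutatorElement

variable {X : Type*} [Group X]

variable {S G M Q H N P V U Z : Subgroup X} {q : ℕ}

/-- `m` acts trivially on `U / Z` and `V / U` -/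
structure Triv (V U Z : Subgroup X) (m : X) : Prop where
  a : ∀ u ∈ U, m * u * m⁻¹ * u⁻¹ ∈ Z
  b : ∀ v ∈ V, m * v * m⁻¹ * v⁻¹ ∈ U

/-- `τ` acts as `2` on `U / Z` and as `1 / 2` on `V / U` -/
structure Tor (V U Z : Subgroup X) (τ : X) : Prop where
  a : ∀ u ∈ U, τ * u * τ⁻¹ * (u * u)⁻¹ ∈ Z
  b : ∀ v ∈ V, (τ * v * τ⁻¹) * (τ * v * τ⁻¹) * v⁻¹ ∈ U

theorem Tor.cjU_le (hZU : Z ≤ U) {τ : X} (hτ : Tor V U Z τ) : cj τ U ≤ U := by
  intro x hx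
  rw [mem_cj] at hx
  have h1 := hτ.a _ hx
  have e : x = (τ * (τ⁻¹ * x * τ) * τ⁻¹ * ((τ⁻¹ * x * τ) * (τ⁻¹ * x * τ))⁻¹) *
      ((τ⁻¹ * x * τ) * (τ⁻¹ * x * τ)) := by group
  rw [e]
  exact mul_mem (hZU h1) (mul_mem hx hx)

namespace NSec

variable (h : NSec S G M V U Z q)
include h

/-- the subgroup acting trivially on the two halves of the section -/
def triv : Subgroup X where
  carrier := {m | m ∈ G ∧ Triv V U Z m}
  one_mem' := ⟨one_mem _, ⟨fun u _ => by simp, fun v _ => by simp⟩⟩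
  mul_mem' := by
    rintro m m' ⟨hm, h1⟩ ⟨hm', h2⟩
    refine ⟨mul_mem hm hm', ⟨?_, ?_⟩⟩
    · intro u hu
      have e : m * m' * u * (m * m')⁻¹ * u⁻¹ =
          (m * (m' * u * m'⁻¹ * u⁻¹) * m⁻¹) * (m * u * m⁻¹ * u⁻¹) := by group
      rw [e]
      exact mul_mem (conj_mem_of_normalizer (h.Zn hm) (h2.a u hu)) (h1.a u hu)
    · intro v hv
      have e : m * m' * v * (m * m')⁻¹ * v⁻¹ =
          (m * (m' * v * m'⁻¹ * v⁻¹) * m⁻¹ * (m' * v * m'⁻¹ * v⁻¹)⁻¹) *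
            (m' * v * m'⁻¹ * v⁻¹) * (m * v * m⁻¹ * v⁻¹) := by group
      rw [e]
      exact mul_mem (mul_mem (h.ZU (h1.a _ (h2.b v hv))) (h2.b v hv)) (h1.b v hv)
  inv_mem' := by
    rintro m ⟨hm, h1⟩
    have key : ∀ u ∈ U, m⁻¹ * u * m * u⁻¹ ∈ Z := by
      intro u hu
      have h2 := conj_mem_of_normalizer (h.Zn (inv_mem hm)) (inv_mem (h1.a u hu))
      have e : m⁻¹ * (m * u * m⁻¹ * u⁻¹)⁻¹ * m⁻¹⁻¹ = m⁻¹ * u * m * u⁻¹ := by group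
      rwa [e] at h2
    refine ⟨inv_mem hm, ⟨?_, ?_⟩⟩
    · intro u hu
      rw [inv_inv]
      exact key u hu
    · intro v hv
      rw [inv_inv]
      have h2 := inv_mem (h1.b v hv)
      have h3 := key _ h2
      have e : m⁻¹ * v * m * v⁻¹ =
          (m⁻¹ * (m * v * m⁻¹ * v⁻¹)⁻¹ * m * ((m * v * m⁻¹ * v⁻¹)⁻¹)⁻¹) *
            (m * v * m⁻¹ * v⁻¹)⁻¹ := by group
      rw [e]
      exact mul_mem (h.ZU h3) h2

theorem mem_triv {m : X} : m ∈ h.triv ↔ m ∈ G ∧ Triv V U Z m := Iff.rfl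

theorem S_le_triv (hSG : S ≤ G) : S ≤ h.triv := fun s hs =>
  ⟨hSG hs, ⟨h.SU s hs, h.SV s hs⟩⟩

theorem tor_cjU [Finite X] {τ : X} (hτ : Tor V U Z τ) : cj τ U = U :=
  eq_of_le_of_card_le (hτ.cjU_le h.ZU) (by rw [card_cj])

theorem cj_triv [Finite X] {τ : X} (hτG : τ ∈ G) (hτ : Tor V U Z τ) (hSG : S ≤ G) :
    cj τ S ≤ h.triv := by
  intro x hx
  have hxG : x ∈ G := by
    have := cj_mono (g := τ) hSG
    rw [cj_eq_self hτG] at this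
    exact this hx
  rw [mem_cj] at hx
  have hU := h.tor_cjU hτ
  refine ⟨hxG, ⟨?_, ?_⟩⟩
  · intro u hu
    have h1 : τ⁻¹ * u * τ ∈ U := by
      rw [← hU, mem_cj] at hu
      exact hu
    have h2 := conj_mem_of_normalizer (h.Zn hτG) (h.SU _ hx _ h1)
    have e : τ * (τ⁻¹ * x * τ * (τ⁻¹ * u * τ) * (τ⁻¹ * x * τ)⁻¹ * (τ⁻¹ * u * τ)⁻¹) * τ⁻¹ =
        x * u * x⁻¹ * u⁻¹ := by group
    rwa [e] at h2
  · intro v hv
    have h1 : τ⁻¹ * v * τ ∈ V := by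
      rw [← h.cjVV hτG, mem_cj] at hv
      exact hv
    have h2 := conj_mem_cj (g := τ) (h.SV _ hx _ h1)
    rw [hU] at h2
    have e : τ * (τ⁻¹ * x * τ * (τ⁻¹ * v * τ) * (τ⁻¹ * x * τ)⁻¹ * (τ⁻¹ * v * τ)⁻¹) * τ⁻¹ =
        x * v * x⁻¹ * v⁻¹ := by group
    rwa [e] at h2

theorem tor_mul {m τ : X} (hm : m ∈ h.triv) (hτ : Tor V U Z τ) (hτG : τ ∈ G) :
    Tor V U Z (m⁻¹ * τ) := by
  have hm' : m⁻¹ ∈ h.triv := inv_mem hm
  obtain ⟨hmG, ht⟩ := h.mem_triv.1 hm'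
  refine ⟨?_, ?_⟩
  · intro u hu
    have h1 := conj_mem_of_normalizer (h.Zn hmG) (hτ.a u hu)
    have h2 := ht.a (u * u) (mul_mem hu hu)
    have e : m⁻¹ * τ * u * (m⁻¹ * τ)⁻¹ * (u * u)⁻¹ =
        (m⁻¹ * (τ * u * τ⁻¹ * (u * u)⁻¹) * m⁻¹⁻¹) * (m⁻¹ * (u * u) * m⁻¹⁻¹ * (u * u)⁻¹) := by
      group
    rw [e]
    exact mul_mem h1 h2
  · intro v hv
    have h1 := hτ.b v hv
    have h2 := ht.a _ h1
    have h3 := ht.b v hv
    have e : m⁻¹ * τ * v * (m⁻¹ * τ)⁻¹ * (m⁻¹ * τ * v * (m⁻¹ * τ)⁻¹) * v⁻¹ =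
        (m⁻¹ * (τ * v * τ⁻¹ * (τ * v * τ⁻¹) * v⁻¹) * m⁻¹⁻¹ *
          (τ * v * τ⁻¹ * (τ * v * τ⁻¹) * v⁻¹)⁻¹) *
          (τ * v * τ⁻¹ * (τ * v * τ⁻¹) * v⁻¹) * (m⁻¹ * v * m⁻¹⁻¹ * v⁻¹) := by
      group
    rw [e]
    exact mul_mem (mul_mem (h.ZU h2) h1) h3

/-- the torus element of `NSec.torus` -/
theorem tor_of [Finite X] (hp : PU S G M Q q) (hq : 1 < q) (hSM : S ≤ M) {g s t t₂ τ : X}
    (hg : g ∈ G) (hgM : g ∉ M)
    (hs : s ∈ S) (ht : t ∈ cj g S) (hm : t⁻¹ * s * g ∈ M) (ht₂ : t₂ ∈ cj g S)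
    (hm₂ : t₂⁻¹ * (s * s) * g ∈ M)
    (hτ : τ = ((s * s) * t₂⁻¹ * (s * s)) * (s * t⁻¹ * s)⁻¹) (hτG : τ ∈ G) : Tor V U Z τ := by
  obtain ⟨r1, r2⟩ := torus hp h hq hSM hg hgM hs ht hm ht₂ hm₂ hτ
  refine ⟨r1, ?_⟩
  intro v hv
  have h1 : ∃ u' ∈ cj g U, ∃ u ∈ U, u' * u = v := by
    rw [← h.sup hg hgM] at hv
    exact mul_of_sup (fun y hy => h.V_norm_U (h.cjU_le hg hy)) v hv
  obtain ⟨u', hu', u, hu, rfl⟩ := h1
  have h2 := r2 u' hu'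
  have h3 := r1 u hu
  have hu'V : u' ∈ V := h.cjU_le hg hu'
  obtain ⟨a, ha⟩ : ∃ a, a = τ * u' * τ⁻¹ := ⟨_, rfl⟩
  obtain ⟨b, hb⟩ : ∃ b, b = τ * u * τ⁻¹ := ⟨_, rfl⟩
  rw [← ha] at h2
  rw [← hb] at h3
  have haV : a ∈ V := by
    rw [ha, ← h.cjVV hτG]
    exact conj_mem_cj hu'V
  have hbU : b ∈ U := by
    have e : b = (b * (u * u)⁻¹) * (u * u) := by group
    rw [e]
    exact mul_mem (h.ZU h3) (mul_mem hu hu)
  have e1 : τ * (u' * u) * τ⁻¹ = a * b := by rw [ha, hb]; group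
  rw [e1]
  have e2 : a * b * (a * b) * (u' * u)⁻¹ =
      (a * a * u'⁻¹) * (u' * ((a⁻¹ * b * a⁻¹⁻¹) * (b * u⁻¹)) * u'⁻¹) := by group
  rw [e2]
  apply mul_mem (h.ZU h2)
  apply conj_mem_of_normalizer (h.V_norm_U hu'V)
  exact mul_mem (conj_mem_of_normalizer (h.V_norm_U (inv_mem haV)) hbU) (mul_mem hbU (inv_mem hu))

end NSec

/-- Frattini argument -/
theorem frattini_arg [Finite X] {p : ℕ} [Fact p.Prime] (hS : IsPGroup p S) (hSG : S ≤ G)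
    (hsyl : ¬ p ∣ S.relIndex G) {T : Subgroup X} (hT : T ≤ G) (hST : S ≤ T) {τ : X} (hτ : τ ∈ G)
    (hτS : cj τ S ≤ T) : ∃ m ∈ T, m⁻¹ * τ ∈ normalizer (S : Set X) := by
  have hS' : IsPGroup p (S.subgroupOf G) :=
    hS.of_injective (subgroupOfEquivOfLe hSG).toMonoidHom (subgroupOfEquivOfLe hSG).injective
  let R : Sylow p G := hS'.toSylow hsyl
  have hR : (R : Subgroup G) = S.subgroupOf G := rfl
  have h1 : (R : Subgroup G) ≤ T.subgroupOf G := by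
    intro x hx
    rw [hR, mem_subgroupOf] at hx
    exact mem_subgroupOf.2 (hST hx)
  have h2 : cj (⟨τ, hτ⟩ : G) (R : Subgroup G) ≤ T.subgroupOf G := by
    intro x hx
    rw [mem_cj, hR, mem_subgroupOf] at hx
    rw [mem_subgroupOf]
    apply hτS
    rw [mem_cj]
    exact hx
  obtain ⟨m, hm, hn⟩ := exists_conj_of_le h1 h2
  refine ⟨m, mem_subgroupOf.1 hm, ?_⟩
  rw [← cj_eq_iff_mem_normalizer] at hn ⊢
  apply eq_of_le_of_card_le _ (by rw [card_cj])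
  intro x hx
  have hmG : (m : X)⁻¹ * τ ∈ G := mul_mem (inv_mem m.2) hτ
  have hxG : x ∈ G := by
    have := cj_mono (g := (m : X)⁻¹ * τ) hSG
    rw [cj_eq_self hmG] at this
    exact this hx
  have h3 : (⟨x, hxG⟩ : G) ∈ cj (m⁻¹ * ⟨τ, hτ⟩ : G) (R : Subgroup G) := by
    rw [mem_cj, hR, mem_subgroupOf]
    rw [mem_cj] at hx
    exact hx
  rw [hn, hR, mem_subgroupOf] at h3
  exact h3

/-- a torus element normalizing `S` -/
theorem exists_sigma [Finite X] {p : ℕ} [Fact p.Prime] (hp2 : p ≠ 2)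
    (h : Pair S G M Q H N P q) (hq : 1 < q) (hS : IsPGroup p S)
    (hsyl : ¬ p ∣ S.relIndex G) {g : X} (hg : g ∈ G) (hgM : g ∉ M) :
    ∃ σ ∈ G, σ ∈ normalizer (S : Set X) ∧ Tor (cen Q) (cen S) (cen G) σ ∧
      Tor Q (Q ⊓ P) (E0 Q P g) σ := by
  have hSM := SM h.hG hq
  have n1 := sec1 h.hG hq
  have n2 := sec2 h hg hgM
  obtain ⟨s, hs, hsQ⟩ := h.hG.exists_notMem_Q hq
  have hssQ : s * s ∉ Q := by
    intro hcon
    apply hsQ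
    obtain ⟨k, hk⟩ := hS ⟨s, hs⟩
    have hk' : s ^ p ^ k = 1 := by
      have := congrArg Subtype.val hk
      simpa using this
    have hodd : Odd (p ^ k) := by
      have hpr : p.Prime := Fact.out
      exact (hpr.odd_of_ne_two hp2).pow
    obtain ⟨m, hm⟩ := hodd
    have e : s = (s * s) ^ (m + 1) := by
      have h1 : (s * s) ^ (m + 1) = s ^ (2 * m + 1) * s := by
        rw [← pow_two, ← pow_mul, ← pow_succ]
        congr 1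
      rw [h1, ← hm, hk', one_mul]
    rw [e]
    exact pow_mem hcon _
  obtain ⟨t, ht, hm⟩ := NSec.root h.hG n1 hq hg hgM hs hsQ
  obtain ⟨t₂, ht₂, hm₂⟩ := NSec.root h.hG n1 hq hg hgM (mul_mem hs hs) hssQ
  obtain ⟨τ, hτ⟩ : ∃ τ, τ = ((s * s) * t₂⁻¹ * (s * s)) * (s * t⁻¹ * s)⁻¹ := ⟨_, rfl⟩
  have hτG : τ ∈ G := by
    rw [hτ]
    have a1 := h.hG.SG hs
    have a2 := NSec.cjS_le h.hG hg ht
    have a3 := NSec.cjS_le h.hG hg ht₂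
    exact mul_mem (mul_mem (mul_mem (mul_mem a1 a1) (inv_mem a3)) (mul_mem a1 a1))
      (inv_mem (mul_mem (mul_mem a1 (inv_mem a2)) a1))
  have t1 := n1.tor_of h.hG hq hSM hg hgM hs ht hm ht₂ hm₂ hτ hτG
  have t2 := n2.tor_of h.hG hq hSM hg hgM hs ht hm ht₂ hm₂ hτ hτG
  obtain ⟨m, hmT, hmn⟩ := frattini_arg hS h.hG.SG hsyl (T := n1.triv ⊓ n2.triv)
    (fun x hx => (n1.mem_triv.1 (mem_inf.1 hx).1).1)
    (le_inf (n1.S_le_triv h.hG.SG) (n2.S_le_triv h.hG.SG)) hτG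
    (le_inf (n1.cj_triv hτG t1 h.hG.SG) (n2.cj_triv hτG t2 h.hG.SG))
  have hmG := (n1.mem_triv.1 (mem_inf.1 hmT).1).1
  exact ⟨m⁻¹ * τ, mul_mem (inv_mem hmG) hτG, hmn, n1.tor_mul (mem_inf.1 hmT).1 t1 hτG,
    n2.tor_mul (mem_inf.1 hmT).2 t2 hτG⟩

/-- the torus element acts as `4` on `S / Q` -/
theorem sigma_four [Finite X] (hp : PU S G M Q q) (hq : 1 < q) {σ b : X} (hσG : σ ∈ G)
    (hσ : σ ∈ normalizer (S : Set X)) (ht : Tor (cen Q) (cen S) (cen G) σ) (hb : b ∈ S) :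
    σ * b * σ⁻¹ * (b ^ 4)⁻¹ ∈ Q := by
  by_contra hcon
  have hb4 : b ^ 4 ∈ S := pow_mem hb 4
  have hb' : σ * b * σ⁻¹ ∈ S := conj_mem_of_normalizer hσ hb
  have hs' : σ * b * σ⁻¹ * (b ^ 4)⁻¹ ∈ S := mul_mem hb' (inv_mem hb4)
  apply cenQ_not_le hp hq
  intro y hy
  apply hp.cmc _ hs' hcon y hy
  have hd : cm y b ∈ cen S := hp.quad y hy b hb
  -- the inverse conjugate of `y`
  have hy1 : σ⁻¹ * y * σ ∈ cen Q := by
    have := hy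
    rwa [← hp.cjV hσG, mem_cj] at this
  have hz := ht.b _ hy1
  have e0 : σ * (σ⁻¹ * y * σ) * σ⁻¹ = y := by group
  rw [e0] at hz
  have e1 : σ⁻¹ * y * σ = (y * y * (σ⁻¹ * y * σ)⁻¹)⁻¹ * (y * y) := by group
  have e2 : cm (σ⁻¹ * y * σ) b = cm y b * cm y b := by
    rw [e1, cm_mul hp (hp.ZV (inv_mem hz)) (mul_mem hy hy) hb, cm_cen hp (inv_mem hz) hb,
      cm_mul hp hy hy hb, one_mul]
  have e3 : cm y (σ * b * σ⁻¹) = σ * (cm y b * cm y b) * σ⁻¹ := by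
    rw [← e2]
    unfold cm
    group
  have e4 : cm y ((b ^ 4)⁻¹) = (cm y b ^ 4)⁻¹ := by
    have h1 : cm y (b ^ 4 * (b ^ 4)⁻¹) = cm y (b ^ 4) * cm y ((b ^ 4)⁻¹) :=
      cm_mul' hp hy hb4 (inv_mem hb4)
    rw [mul_inv_cancel] at h1
    have h2 : cm y (1 : X) = 1 := by unfold cm; group
    rw [h2, cm_pow hp hy hb] at h1
    exact (inv_eq_of_mul_eq_one_right h1.symm).symm
  rw [cm_mul' hp hy hb' (inv_mem hb4), e3, e4]
  have h5 := ht.a _ (mul_mem hd hd)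
  have e5 : (cm y b * cm y b * (cm y b * cm y b))⁻¹ = (cm y b ^ 4)⁻¹ := by group
  rwa [e5] at h5

end Cfsg.Agent.H222.GNSix
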