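import Cfsg.Agent.H222.GNFive2

/-!
# Uniform Glauberman–Niles, section (6): the case `p ≥ 5`
-/

set_option autoImplicit false
set_option linter.unusedSectionVars false

namespace Cfsg.Agent.H222.GNSix

open Subgroup
open Cfsg.Agent.H260.Push
open Cfsg.Agent.H259.GN
open scoped commutatorElement

variable {X : Type*} [Group X]

variable {S G M Q H N P : Subgroup X} {q : ℕ}

theorem comm_cen_left {z s : X} (hz : z ∈ cen S) (hs : s ∈ S) : ⁅z, s⁆ = 1 := by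
  rw [commutatorElement_def, ← cen_comm hz hs]; group

theorem cen_commute {z z' : X} (hz : z ∈ cen S) (hz' : z' ∈ cen S) : z * z' = z' * z :=
  (cen_comm hz (cen_le S hz')).symm

section F

variable (h : Pair S G M Q H N P q) [Finite X]
include h

theorem W_S : Wn G P ≤ S := (Wn_le_Q h).trans h.hG.QS

/-- `[W, Q] ≤ D_H` -/
theorem WQ {a c : X} (ha : a ∈ Wn G P) (hc : c ∈ Q) : ⁅a, c⁆ ∈ DD S P := by
  obtain ⟨g, hg, hgM⟩ := h.hG.exM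
  obtain ⟨a', ha', v, hv, r, hr, rfl⟩ := dec3 h hg hgM hc
  have h1 : a * r = r * a := cm_Wn_E0 h hg hgM a ha r hr
  have h2 : ⁅a, r⁆ = 1 := by rw [commutatorElement_def, h1]; group
  have e : ⁅a, a' * v * r⁆ = ⁅a, a' * v⁆ * ((a' * v) * ⁅a, r⁆ * (a' * v)⁻¹) := by
    simp only [commutatorElement_def]; group
  rw [e, h2]
  have e2 : ⁅a, a' * v⁆ * ((a' * v) * 1 * (a' * v)⁻¹) = ⁅a, a' * v⁆ := by group
  rw [e2]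
  exact Wn_comm h a ha _ (mul_mem (cj_le_Wn hg ha') (cen_le_Wn G P hv))

/-- `[W ⊓ P, S] ≤ Z(S)` -/
theorem WPS {x s : X} (hx : x ∈ Wn G P) (hxP : x ∈ P) (hs : s ∈ S) : ⁅x, s⁆ ∈ cen S := by
  obtain ⟨k, hk, hkN⟩ := h.hH.exM
  obtain ⟨b, hb, c, hc, rfl⟩ := decS h hk hkN hs
  have h1 : ⁅x, c⁆ ∈ cen S := h.hH.DZ (WQ h hx hc)
  have h2 : ⁅x, b⁆ ∈ cen S := by
    have h3 := inv_mem (comm_B h hk hkN hb hxP)
    have e : (b * x * b⁻¹ * x⁻¹)⁻¹ = ⁅x, b⁆ := by rw [commutatorElement_def]; group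
    rw [e] at h3
    exact h.hG.DZ h3
  have hbS : b ∈ S := h.hH.QS (h.symm.cj_le_Q hk hb)
  have h4 : b * ⁅x, c⁆ = ⁅x, c⁆ * b := cen_comm h1 hbS
  have e : ⁅x, b * c⁆ = ⁅x, b⁆ * (b * ⁅x, c⁆ * b⁻¹) := by
    simp only [commutatorElement_def]; group
  rw [e, h4]
  have e2 : ⁅x, b⁆ * (⁅x, c⁆ * b * b⁻¹) = ⁅x, b⁆ * ⁅x, c⁆ := by group
  rw [e2]
  exact mul_mem h2 h1

theorem WS {a b : X} (ha : a ∈ Wn G P) (hb : b ∈ S) : ⁅a, b⁆ ∈ Wn G P := by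
  have h1 := conj_mem_of_normalizer (Wn_norm G P (h.hG.SG hb)) (inv_mem ha)
  have e : ⁅a, b⁆ = a * (b * a⁻¹ * b⁻¹) := by rw [commutatorElement_def]; group
  rw [e]
  exact mul_mem ha h1

theorem WSP {a b : X} (ha : a ∈ Wn G P) (hb : b ∈ S) : ⁅a, b⁆ ∈ P :=
  comm_S_P h a (W_S h ha) b hb

/-- (A1) -/
theorem A1 {x x' s : X} (hx : x ∈ Wn G P) (hxP : x ∈ P) (hx' : x' ∈ Wn G P) (hxP' : x' ∈ P)
    (hs : s ∈ S) : ⁅x * x', s⁆ = ⁅x, s⁆ * ⁅x', s⁆ := by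
  have h1 := WPS h hx hxP hs
  have h2 := WPS h hx' hxP' hs
  have h3 : x * ⁅x', s⁆ = ⁅x', s⁆ * x := cen_comm h2 (W_S h hx)
  have e : ⁅x * x', s⁆ = (x * ⁅x', s⁆ * x⁻¹) * ⁅x, s⁆ := by
    simp only [commutatorElement_def]; group
  rw [e, h3, ← cen_commute h2 h1]; group

/-- (A2) -/
theorem A2 {x s s' : X} (hx : x ∈ Wn G P) (hxP : x ∈ P) (hs : s ∈ S) (hs' : s' ∈ S) :
    ⁅x, s * s'⁆ = ⁅x, s⁆ * ⁅x, s'⁆ := by
  have h2 := WPS h hx hxP hs'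
  have h3 : s * ⁅x, s'⁆ = ⁅x, s'⁆ * s := cen_comm h2 hs
  have e : ⁅x, s * s'⁆ = ⁅x, s⁆ * (s * ⁅x, s'⁆ * s⁻¹) := by
    simp only [commutatorElement_def]; group
  rw [e, h3]; group

theorem cenS_P : cen S ≤ P := h.hH.ZV.trans (cen_le P)

/-- an auxiliary form of (A1): central factors -/
theorem A1' {z x y s : X} (hz : z ∈ cen S) (hx : x ∈ Wn G P) (hxP : x ∈ P)
    (hy : y ∈ Wn G P) (hyP : y ∈ P) (hs : s ∈ S) : ⁅z * (x * y), s⁆ = ⁅x, s⁆ * ⁅y, s⁆ := by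
  have h1 : ⁅x * y, s⁆ = ⁅x, s⁆ * ⁅y, s⁆ := A1 h hx hxP hy hyP hs
  have h2 := comm_cen_left hz hs
  have h3 : z * ⁅x * y, s⁆ = ⁅x * y, s⁆ * z := by
    rw [h1]
    exact cen_commute hz (mul_mem (WPS h hx hxP hs) (WPS h hy hyP hs))
  have e : ⁅z * (x * y), s⁆ = (z * ⁅x * y, s⁆ * z⁻¹) * ⁅z, s⁆ := by
    simp only [commutatorElement_def]; group
  rw [e, h3, h2, h1]; group

/-- (B1) -/
theorem B1 {a a' b c : X} (ha : a ∈ Wn G P) (ha' : a' ∈ Wn G P) (hb : b ∈ S) (hc : c ∈ S) :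
    ⁅⁅a * a', b⁆, c⁆ = ⁅⁅a, b⁆, c⁆ * ⁅⁅a', b⁆, c⁆ := by
  have h1 := Wn_comm h a ha _ (WS h ha' hb)
  have e : ⁅a * a', b⁆ = ⁅a, ⁅a', b⁆⁆ * (⁅a', b⁆ * ⁅a, b⁆) := by
    simp only [commutatorElement_def]; group
  rw [e, A1' h (h.hH.DZ h1) (WS h ha' hb) (WSP h ha' hb) (WS h ha hb) (WSP h ha hb) hc]
  exact cen_commute (WPS h (WS h ha' hb) (WSP h ha' hb) hc) (WPS h (WS h ha hb) (WSP h ha hb) hc)

/-- (B2) -/
theorem B2 {a b b' c : X} (ha : a ∈ Wn G P) (hb : b ∈ S) (hb' : b' ∈ S) (hc : c ∈ S) :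
    ⁅⁅a, b * b'⁆, c⁆ = ⁅⁅a, b⁆, c⁆ * ⁅⁅a, b'⁆, c⁆ := by
  have h1 : ⁅⁅a, b'⁆, b⁆ ∈ cen S := WPS h (WS h ha hb') (WSP h ha hb') hb
  have h3 : ⁅b, ⁅a, b'⁆⁆ ∈ cen S := by
    rw [← commutatorElement_inv]
    exact inv_mem h1
  have h2 : ⁅a, b⁆ * ⁅b, ⁅a, b'⁆⁆ = ⁅b, ⁅a, b'⁆⁆ * ⁅a, b⁆ :=
    cen_comm h3 (W_S h (WS h ha hb))
  have e : ⁅a, b * b'⁆ = (⁅a, b⁆ * ⁅b, ⁅a, b'⁆⁆) * ⁅a, b'⁆ := by
    simp only [commutatorElement_def]; group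
  rw [e, h2, mul_assoc]
  exact A1' h h3 (WS h ha hb) (WSP h ha hb) (WS h ha hb') (WSP h ha hb') hc

/-- (B3) -/
theorem B3 {a b c c' : X} (ha : a ∈ Wn G P) (hb : b ∈ S) (hc : c ∈ S) (hc' : c' ∈ S) :
    ⁅⁅a, b⁆, c * c'⁆ = ⁅⁅a, b⁆, c⁆ * ⁅⁅a, b⁆, c'⁆ :=
  A2 h (WS h ha hb) (WSP h ha hb) hc hc'

/-- (B4) -/
theorem B4 {a b c : X} (ha : a ∈ Wn G P) (hb : b ∈ Q) (hc : c ∈ S) : ⁅⁅a, b⁆, c⁆ = 1 :=
  comm_cen_left (h.hH.DZ (WQ h ha hb)) hc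

/-- (B5) -/
theorem B5 {a b c : X} (ha : a ∈ Wn G P) (hb : b ∈ S) (hc : c ∈ Q) : ⁅⁅a, b⁆, c⁆ ∈ cen G :=
  h.DH (WQ h (WS h ha hb) hc)

/-- (B6) -/
theorem B6 {a b c : X} (ha : a ∈ Wn G P) (haP : a ∈ P) (hb : b ∈ S) (hc : c ∈ S) :
    ⁅⁅a, b⁆, c⁆ = 1 := comm_cen_left (WPS h ha haP hb) hc

theorem F_cen {a b c : X} (ha : a ∈ Wn G P) (hb : b ∈ S) (hc : c ∈ S) : ⁅⁅a, b⁆, c⁆ ∈ cen S :=
  WPS h (WS h ha hb) (WSP h ha hb) hc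

theorem B2_pow {a b c : X} (ha : a ∈ Wn G P) (hb : b ∈ S) (hc : c ∈ S) (n : ℕ) :
    ⁅⁅a, b ^ n⁆, c⁆ = ⁅⁅a, b⁆, c⁆ ^ n := by
  induction n with
  | zero => simp [commutatorElement_def]
  | succ n ih => rw [pow_succ, B2 h ha (pow_mem hb n) hb hc, ih, pow_succ]

theorem B3_pow {a b c : X} (ha : a ∈ Wn G P) (hb : b ∈ S) (hc : c ∈ S) (n : ℕ) :
    ⁅⁅a, b⁆, c ^ n⁆ = ⁅⁅a, b⁆, c⁆ ^ n := by
  induction n with
  | zero => simp [commutatorElement_def]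
  | succ n ih => rw [pow_succ, B3 h ha hb (pow_mem hc n) hc, ih, pow_succ]

/-- the weight argument: `F` has values in `Z(G)` -/
theorem F_mem {p : ℕ} [hpf : Fact p.Prime] (hp5 : 5 ≤ p) (hq : 1 < q) (hS : IsPGroup p S)
    (hsyl : ¬ p ∣ S.relIndex G) (hZp : ∀ z ∈ cen S, z ^ p = 1) {a b c : X} (ha : a ∈ Wn G P)
    (hb : b ∈ S) (hc : c ∈ S) : ⁅⁅a, b⁆, c⁆ ∈ cen G := by
  obtain ⟨g, hg, hgM⟩ := h.hG.exM
  obtain ⟨σ, hσG, hσ, t1, t2⟩ := exists_sigma (by omega) h hq hS hsyl hg hgM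
  -- go back along `σ`
  obtain ⟨a₀, ha₀⟩ : ∃ a₀, a₀ = σ⁻¹ * a * σ := ⟨_, rfl⟩
  have ha₀W : a₀ ∈ Wn G P := by
    have := conj_mem_of_normalizer (Wn_norm G P (inv_mem hσG)) ha
    rw [inv_inv] at this
    rwa [ha₀]
  have hσa : σ * a₀ * σ⁻¹ = a := by rw [ha₀]; group
  -- images of `b` and `c`
  obtain ⟨b₁, hb₁⟩ : ∃ b₁, b₁ = σ * b * σ⁻¹ * (b ^ 4)⁻¹ := ⟨_, rfl⟩
  obtain ⟨c₁, hc₁⟩ : ∃ c₁, c₁ = σ * c * σ⁻¹ * (c ^ 4)⁻¹ := ⟨_, rfl⟩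
  have hb₁Q : b₁ ∈ Q := by rw [hb₁]; exact sigma_four h.hG hq hσG hσ t1 hb
  have hc₁Q : c₁ ∈ Q := by rw [hc₁]; exact sigma_four h.hG hq hσG hσ t1 hc
  have hb₁S : b₁ ∈ S := h.hG.QS hb₁Q
  have hc₁S : c₁ ∈ S := h.hG.QS hc₁Q
  have eb : σ * b * σ⁻¹ = b₁ * b ^ 4 := by rw [hb₁]; group
  have ec : σ * c * σ⁻¹ = c₁ * c ^ 4 := by rw [hc₁]; group
  have hb4 : b ^ 4 ∈ S := pow_mem hb 4
  have hc4 : c ^ 4 ∈ S := pow_mem hc 4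
  obtain ⟨f, hf⟩ : ∃ f, f = ⁅⁅a, b⁆, c⁆ := ⟨_, rfl⟩
  have hfS : f ∈ cen S := by rw [hf]; exact F_cen h ha hb hc
  -- first computation
  have c1 : ∃ z ∈ cen G, σ * ⁅⁅a₀, b⁆, c⁆ * σ⁻¹ = z * f ^ 16 := by
    refine ⟨⁅⁅a, b ^ 4⁆, c₁⁆, B5 h ha hb4 hc₁Q, ?_⟩
    have e1 : σ * ⁅⁅a₀, b⁆, c⁆ * σ⁻¹ = ⁅⁅σ * a₀ * σ⁻¹, σ * b * σ⁻¹⁆, σ * c * σ⁻¹⁆ := by
      simp only [commutatorElement_def]; group
    rw [e1, hσa, eb, ec, B2 h ha hb₁S hb4 (mul_mem hc₁S hc4), B4 h ha hb₁Q (mul_mem hc₁S hc4),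
      one_mul, B3 h ha hb4 hc₁S hc4, B3_pow h ha hb4 hc 4, B2_pow h ha hb hc 4, ← pow_mul, ← hf]
  -- second computation
  have c2 : ⁅⁅a₀, b⁆, c⁆ = f * f := by
    have hx := t2.b a₀ (Wn_le_Q h ha₀W)
    rw [hσa] at hx
    obtain ⟨x, hxe⟩ : ∃ x, x = a * a * a₀⁻¹ := ⟨_, rfl⟩
    rw [← hxe] at hx
    have hxW : x ∈ Wn G P := by rw [hxe]; exact mul_mem (mul_mem ha ha) (inv_mem ha₀W)
    have e1 : a * a = x * a₀ := by rw [hxe]; group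
    have e2 := B1 h ha ha hb hc
    rw [e1, B1 h hxW ha₀W hb hc, B6 h hxW (mem_inf.1 hx).2 hb hc, one_mul, ← hf] at e2
    exact e2
  obtain ⟨z, hz, hze⟩ := c1
  rw [c2] at hze
  have c3 := t1.a _ (mul_mem hfS hfS)
  rw [hze] at c3
  have h12 : f ^ 12 ∈ cen G := by
    have e : f ^ 12 = z⁻¹ * (z * f ^ 16 * (f * f * (f * f))⁻¹) := by
      have e1 : f ^ 16 = f ^ 12 * (f * f * (f * f)) := by group
      rw [e1]; group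
    rw [e]
    exact mul_mem (inv_mem hz) c3
  have hco : Nat.Coprime 12 p := by
    have hpr : p.Prime := hpf.out
    rw [Nat.coprime_comm, hpr.coprime_iff_not_dvd]
    intro hd
    have h1 : p ∣ 2 ^ 2 * 3 := by norm_num; exact hd
    rcases (Nat.Prime.dvd_mul hpr).1 h1 with h2 | h2
    · have := Nat.le_of_dvd (by norm_num) (hpr.dvd_of_dvd_pow h2)
      omega
    · have := Nat.le_of_dvd (by norm_num) h2
      omega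
  obtain ⟨m, hm⟩ := Nat.exists_mul_mod_eq_one_of_coprime hco (by omega)
  have e12 : f = (f ^ 12) ^ m := by
    have h1 : (12 * m) = p * (12 * m / p) + 1 := by
      have := Nat.div_add_mod (12 * m) p
      omega
    rw [← pow_mul, h1, pow_succ, pow_mul, hZp f hfS, one_pow, one_mul]
  rw [← hf, e12]
  exact pow_mem h12 m

end F

/-- section (6) for `p ≥ 5` -/
theorem five [Finite X] (h : Pair S G M Q H N P q) {p : ℕ} [hpf : Fact p.Prime] (hp5 : 5 ≤ p)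
    (hq : 1 < q) (hS : IsPGroup p S) (hsyl : ¬ p ∣ S.relIndex G) (hZp : ∀ z ∈ cen S, z ^ p = 1) :
    False := by
  obtain ⟨g, hg, hgM⟩ := h.hG.exM
  obtain ⟨k, hk, hkN⟩ := h.hH.exM
  -- elements `a ∈ V'^g - P`, `b ∈ V^k - Q`
  have ex : ∀ {S G M Q : Subgroup X}, PU S G M Q q → ∃ v ∈ cen Q, v ∉ cen S := by
    intro S G M Q hu
    by_contra hcon
    push Not at hcon
    exact cenQ_not_le hu hq hcon
  obtain ⟨v, hv, hvZ⟩ := ex h.hH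
  obtain ⟨w, hw, hwZ⟩ := ex h.hG
  obtain ⟨a, ha⟩ : ∃ a, a = g * v * g⁻¹ := ⟨_, rfl⟩
  obtain ⟨b, hb⟩ : ∃ b, b = k * w * k⁻¹ := ⟨_, rfl⟩
  have haA : a ∈ cj g (cen P) := by
    rw [ha]
    exact conj_mem_cj hv
  have hbB : b ∈ cj k (cen Q) := by
    rw [hb]
    exact conj_mem_cj hw
  have haQ : a ∈ Q := h.cj_le_Q hg haA
  have hbP : b ∈ P := h.symm.cj_le_Q hk hbB
  have haS : a ∈ S := h.hG.QS haQ
  have hbS : b ∈ S := h.hH.QS hbP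
  have haP : a ∉ P := by
    intro hcon
    have h1 : a ∈ cj g (cen S) := by
      rw [← h.inf hg (h.ncG g hg hgM)]
      exact mem_inf.2 ⟨haA, hcon⟩
    rw [mem_cj] at h1
    apply hvZ
    have e : g⁻¹ * a * g = v := by rw [ha]; group
    rwa [e] at h1
  have hbQ : b ∉ Q := by
    intro hcon
    have h1 : b ∈ cj k (cen S) := by
      rw [← h.symm.inf hk (h.ncH k hk hkN)]
      exact mem_inf.2 ⟨hbB, hcon⟩
    rw [mem_cj] at h1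
    apply hwZ
    have e : k⁻¹ * b * k = w := by rw [hb]; group
    rwa [e] at h1
  have haW : a ∈ Wn G P := cj_le_Wn hg haA
  -- the commutator
  obtain ⟨x, hx⟩ : ∃ x, x = ⁅a, b⁆ := ⟨_, rfl⟩
  have hxQ : x ∈ Q := by rw [hx]; exact comm_S_Q h a haS b hbS
  have hxP : x ∈ P := by rw [hx]; exact comm_S_P h a haS b hbS
  have hF : ⁅x, b⁆ ∈ cen G := by
    rw [hx]
    exact F_mem h hp5 hq hS hsyl hZp haW hbS hbS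
  obtain ⟨v₁, hv₁, r, hr, hvr⟩ := dec1 h hg hgM hxQ hxP
  obtain ⟨w₁, hw₁, d, hd, hwd⟩ := dec4 h hg hk hkN hr
  have hbv : b * v₁ = v₁ * b := (h.hH.cm_VQ v₁ hv₁ b hbP).symm
  have hbd : b * d = d * b := (h.hG.cm_VQ.cj k) b hbB d (mem_DG.1 hd).2
  have hw1S : ⁅w₁, b⁆ ∈ cen S := by
    have h1 := h.hG.quad w₁ hw₁ b hbS
    have e : ⁅w₁, b⁆ = (cm w₁ b)⁻¹ := by unfold cm; rw [commutatorElement_def]; group
    rw [e]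
    exact inv_mem h1
  have hxe : ⁅x, b⁆ = ⁅w₁, b⁆ := by
    have hv1S : v₁ ∈ S := h.hH.VS hv₁
    have h1 : v₁ * ⁅w₁, b⁆ = ⁅w₁, b⁆ * v₁ := cen_comm hw1S hv1S
    have h2 : d * b * d⁻¹ = b := by rw [← hbd]; group
    have h3 : b * v₁⁻¹ = v₁⁻¹ * b := by
      calc b * v₁⁻¹ = v₁⁻¹ * (v₁ * b) * v₁⁻¹ := by group
        _ = v₁⁻¹ * (b * v₁) * v₁⁻¹ := by rw [hbv]
        _ = v₁⁻¹ * b := by group
    rw [← hvr, ← hwd]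
    calc ⁅v₁ * (w₁ * d), b⁆ = v₁ * w₁ * (d * b * d⁻¹) * w₁⁻¹ * v₁⁻¹ * b⁻¹ := by
          rw [commutatorElement_def]; group
      _ = v₁ * ⁅w₁, b⁆ * (b * v₁⁻¹) * b⁻¹ := by rw [h2, commutatorElement_def]; group
      _ = v₁ * ⁅w₁, b⁆ * (v₁⁻¹ * b) * b⁻¹ := by rw [h3]
      _ = v₁ * ⁅w₁, b⁆ * v₁⁻¹ := by group
      _ = ⁅w₁, b⁆ := by rw [h1]; group
  have hw1 : w₁ ∈ cen S := by
    apply h.hG.cmc b hbS hbQ w₁ hw₁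
    have e : cm w₁ b = ⁅w₁, b⁆⁻¹ := by unfold cm; rw [commutatorElement_def]; group
    rw [e, ← hxe]
    exact inv_mem hF
  -- so `x ∈ E1`
  have hxE : x ∈ E0 P Q k := by
    rw [← hvr, ← hwd]
    exact mul_mem (cenQ_E0 h.symm hk hv₁)
      (mul_mem (cenQ_E0 h.symm hk (h.hH.ZV hw1)) (mem_DG'.1 hd).2)
  -- final contradiction: `a b a⁻¹ = x b`
  have hconj : a * b * a⁻¹ = x * b := by rw [hx, commutatorElement_def]; group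
  have hE1 : cj k (E0 P Q k) = E0 P Q k := cjE0 h.symm hk hkN hk
  have hb' : b ∈ cj k (P ⊓ Q) := by
    rw [mem_cj]
    rw [mem_cj] at hbB
    exact mem_inf.2 ⟨cenQ_P h hbB, cen_le Q hbB⟩
  have h1 : a * b * a⁻¹ ∈ cj k (P ⊓ Q) := by
    rw [hconj]
    apply mul_mem _ hb'
    have h2 : x ∈ cj k (E0 P Q k) := by rwa [hE1]
    have h3 : E0 P Q k ≤ P ⊓ Q := fun y hy => mem_inf.2 ⟨(mem_E0.1 hy).1, (mem_E0.1 hy).2.1⟩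
    exact cj_mono h3 h2
  have hyN : k⁻¹ * a * k ∉ N := h.hH.ti k hk hkN a haS haP
  have hyH : k⁻¹ * a * k ∈ H := mul_mem (mul_mem (inv_mem hk) (h.hH.SG haS)) hk
  have h2 := ti2 h.symm hk hkN hyH hyN
  have h3 : k⁻¹ * (a * b * a⁻¹) * k ∈ E0 P Q k := by
    apply h2
    rw [mem_inf]
    rw [mem_cj] at h1 hb'
    refine ⟨h1, ?_⟩
    rw [mem_cj]
    have e : (k⁻¹ * a * k)⁻¹ * (k⁻¹ * (a * b * a⁻¹) * k) * (k⁻¹ * a * k) = k⁻¹ * b * k := by group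
    rwa [e]
  have h4 : a * b * a⁻¹ ∈ E0 P Q k := by
    rw [← hE1, mem_cj]
    exact h3
  apply hbQ
  have h5 : a * b * a⁻¹ ∈ Q := (mem_E0.1 h4).2.1
  have h6 := conj_mem_of_normalizer (h.hG.Qn (inv_mem (h.hG.SG haS))) h5
  have e : a⁻¹ * (a * b * a⁻¹) * a⁻¹⁻¹ = b := by group
  rwa [e] at h6

end Cfsg.Agent.H222.GNSix
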