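import Mathlib

/-!
# The torus element of a rank one group on a natural section, without matrices
-/

set_option autoImplicit false

namespace Cfsg.Agent.H222.GNTorus

open Subgroup

variable {Γ : Type*} [Group Γ] {V U U' : Subgroup Γ}

/-- `s` and `t` are opposite root elements with `t U = s U'` -/
structure Opp (V U U' : Subgroup Γ) (s t : Γ) : Prop where
  sU : ∀ u ∈ U, s * u * s⁻¹ = u
  sV : ∀ v ∈ V, s * v * s⁻¹ * v⁻¹ ∈ U
  tU : ∀ u ∈ U', t * u * t⁻¹ = u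
  tV : ∀ v ∈ V, t * v * t⁻¹ * v⁻¹ ∈ U'
  eq1 : ∀ u ∈ U, ∃ u' ∈ U', t * u * t⁻¹ = s * u' * s⁻¹
  eq2 : ∀ u' ∈ U', ∃ u ∈ U, t * u * t⁻¹ = s * u' * s⁻¹

/-- the correspondence between `U` and `U'` -/
def Rel (U U' : Subgroup Γ) (s t u u' : Γ) : Prop :=
  u ∈ U ∧ u' ∈ U' ∧ t * u * t⁻¹ = u * u' ∧ s * u' * s⁻¹ = u * u'

variable (hab : ∀ a ∈ V, ∀ b ∈ V, a * b = b * a) (hU : U ≤ V) (hU' : U' ≤ V)
  (hd : ∀ x ∈ U, x ∈ U' → x = 1)

include hab hU hU' hd in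
theorem rel_of {s t u u' : Γ} (h : Opp V U U' s t) (hu : u ∈ U) (hu' : u' ∈ U')
    (he : t * u * t⁻¹ = s * u' * s⁻¹) : Rel U U' s t u u' := by
  obtain ⟨c', hc'⟩ : ∃ c', c' = t * u * t⁻¹ * u⁻¹ := ⟨_, rfl⟩
  obtain ⟨c, hc⟩ : ∃ c, c = s * u' * s⁻¹ * u'⁻¹ := ⟨_, rfl⟩
  have hc'U : c' ∈ U' := by rw [hc']; exact h.tV u (hU hu)
  have hcU : c ∈ U := by rw [hc]; exact h.sV u' (hU' hu')
  have e1 : t * u * t⁻¹ = c' * u := by rw [hc']; group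
  have e2 : s * u' * s⁻¹ = c * u' := by rw [hc]; group
  have e3 : c' * u = c * u' := by rw [← e1, ← e2, he]
  have e4 : c⁻¹ * u = c'⁻¹ * u' := by
    have h1 : c'⁻¹ * c = c * c'⁻¹ := hab _ (hU' (inv_mem hc'U)) _ (hU hcU)
    calc c⁻¹ * u = c⁻¹ * (c'⁻¹ * (c' * u)) := by group
      _ = c⁻¹ * (c'⁻¹ * (c * u')) := by rw [e3]
      _ = c⁻¹ * (c'⁻¹ * c) * u' := by group
      _ = c⁻¹ * (c * c'⁻¹) * u' := by rw [h1]
      _ = _ := by group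
  have h5 : c⁻¹ * u = 1 := by
    apply hd _ (mul_mem (inv_mem hcU) hu)
    rw [e4]
    exact mul_mem (inv_mem hc'U) hu'
  have h6 : c = u := by
    have := congrArg (c * ·) h5
    simp only [mul_one] at this
    rw [← this]; group
  have h7 : c' = u' := by
    rw [e4] at h5
    have := congrArg (c' * ·) h5
    simp only [mul_one] at this
    rw [← this]; group
  refine ⟨hu, hu', ?_, ?_⟩
  · rw [e1, h7]
    exact hab _ (hU' hu') _ (hU hu)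
  · rw [e2, h6]

theorem conj_eq_iff {x y s : Γ} : s * x * s⁻¹ = y ↔ x = s⁻¹ * y * s := by
  constructor
  · rintro rfl; group
  · rintro rfl; group

include hab hU hU' in
/-- action of `w = s t⁻¹ s` -/
theorem w_act {s t u u' : Γ} (h : Opp V U U' s t) (hr : Rel U U' s t u u') :
    (s * t⁻¹ * s) * u' * (s * t⁻¹ * s)⁻¹ = u ∧ (s * t⁻¹ * s) * u * (s * t⁻¹ * s)⁻¹ = u'⁻¹ := by
  obtain ⟨hu, hu', e1, e2⟩ := hr
  have hcomm : u * u' = u' * u := hab _ (hU hu) _ (hU' hu')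
  constructor
  · calc (s * t⁻¹ * s) * u' * (s * t⁻¹ * s)⁻¹ = s * (t⁻¹ * (s * u' * s⁻¹) * t) * s⁻¹ := by group
      _ = s * (t⁻¹ * (t * u * t⁻¹) * t) * s⁻¹ := by rw [e2, e1]
      _ = s * u * s⁻¹ := by group
      _ = u := h.sU u hu
  · have h3 : t⁻¹ * u * t = u * u'⁻¹ := by
      have h4 : t * (u * u'⁻¹) * t⁻¹ = u := by
        have h5 := h.tU _ (inv_mem hu')
        calc t * (u * u'⁻¹) * t⁻¹ = (t * u * t⁻¹) * (t * u'⁻¹ * t⁻¹) := by group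
          _ = u * u' * u'⁻¹ := by rw [e1, h5]
          _ = u := by group
      exact (conj_eq_iff.1 h4).symm
    calc (s * t⁻¹ * s) * u * (s * t⁻¹ * s)⁻¹ = s * (t⁻¹ * (s * u * s⁻¹) * t) * s⁻¹ := by group
      _ = s * (u * u'⁻¹) * s⁻¹ := by rw [h.sU u hu, h3]
      _ = (s * u * s⁻¹) * (s * u' * s⁻¹)⁻¹ := by group
      _ = u * (u' * u)⁻¹ := by rw [h.sU u hu, e2, hcomm]
      _ = u'⁻¹ := by group

include hab hU hU' hd in
/-- the torus element acts as `2` on `U` and as `1 / 2` on `U'` -/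
theorem torus {s t t₂ : Γ} (h : Opp V U U' s t) (h₂ : Opp V U U' (s * s) t₂) {τ : Γ}
    (hτ : τ = ((s * s) * t₂⁻¹ * (s * s)) * (s * t⁻¹ * s)⁻¹) :
    (∀ u ∈ U, τ * u * τ⁻¹ = u * u) ∧ ∀ u' ∈ U', (τ * u' * τ⁻¹) * (τ * u' * τ⁻¹) = u' := by
  have key : ∀ u u', Rel U U' s t u u' → Rel U U' (s * s) t₂ (u * u) u' := by
    intro u u' hr
    obtain ⟨v, hv, hve⟩ := h₂.eq2 u' hr.2.1
    have h3 := rel_of hab hU hU' hd h₂ hv hr.2.1 hve
    have h4 : v * u' = u * u * u' := by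
      rw [← h3.2.2.2]
      calc s * s * u' * (s * s)⁻¹ = s * (s * u' * s⁻¹) * s⁻¹ := by group
        _ = s * (u * u') * s⁻¹ := by rw [hr.2.2.2]
        _ = (s * u * s⁻¹) * (s * u' * s⁻¹) := by group
        _ = u * (u * u') := by rw [h.sU u hr.1, hr.2.2.2]
        _ = _ := by group
    have h5 : v = u * u := mul_right_cancel h4
    rwa [← h5]
  obtain ⟨w, hw⟩ : ∃ w, w = s * t⁻¹ * s := ⟨_, rfl⟩
  obtain ⟨w₂, hw₂⟩ : ∃ w₂, w₂ = (s * s) * t₂⁻¹ * (s * s) := ⟨_, rfl⟩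
  rw [← hw, ← hw₂] at hτ
  constructor
  · intro u hu
    obtain ⟨u', hu', he⟩ := h.eq1 u hu
    have hr := rel_of hab hU hU' hd h hu hu' he
    have a1 := w_act hab hU hU' h hr
    have a2 := w_act hab hU hU' h₂ (key u u' hr)
    rw [← hw] at a1
    rw [← hw₂] at a2
    calc τ * u * τ⁻¹ = w₂ * (w⁻¹ * u * w) * w₂⁻¹ := by rw [hτ]; group
      _ = w₂ * u' * w₂⁻¹ := by rw [← conj_eq_iff.1 a1.1]
      _ = u * u := a2.1
  · intro u' hu'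
    obtain ⟨u, hu, he⟩ := h.eq2 u' hu'
    have hr := rel_of hab hU hU' hd h hu hu' he
    have a1 := w_act hab hU hU' h hr
    have a2 := w_act hab hU hU' h₂ (key u u' hr)
    rw [← hw] at a1
    rw [← hw₂] at a2
    have h1 : w⁻¹ * u' * w = u⁻¹ := by
      have h2 := conj_eq_iff.1 a1.2
      calc w⁻¹ * u' * w = (w⁻¹ * u'⁻¹ * w)⁻¹ := by group
        _ = u⁻¹ := by rw [← h2]
    have h2 : τ * u' * τ⁻¹ = w₂ * u⁻¹ * w₂⁻¹ := by
      rw [← h1, hτ]; group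
    rw [h2]
    calc w₂ * u⁻¹ * w₂⁻¹ * (w₂ * u⁻¹ * w₂⁻¹) = (w₂ * (u * u) * w₂⁻¹)⁻¹ := by group
      _ = u' := by rw [a2.2, inv_inv]

end Cfsg.Agent.H222.GNTorus
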