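import Cfsg.Agent.H222.GNSix3
import Cfsg.Agent.H222.GNTorus

/-!
# Natural sections of a rank one group, elementwise
-/

set_option autoImplicit false
set_option linter.unusedSectionVars false

namespace Cfsg.Agent.H222.GNSix

open Subgroup
open Cfsg.Agent.H260.Push
open Cfsg.Agent.H259.GN
open Cfsg.Agent.H222.GNTorus
open scoped commutatorElement

variable {X : Type*} [Group X]

/-- a section `V / Z` of `G` with a line `U / Z` stabilized by `M`, centralized by `S` -/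
structure NSec (S G M V U Z : Subgroup X) (q : ℕ) : Prop where
  ZU : Z ≤ U
  UV : U ≤ V
  VG : V ≤ G
  Vn : G ≤ normalizer (V : Set X)
  Zn : G ≤ normalizer (Z : Set X)
  ab : ∀ a ∈ V, ∀ b ∈ V, ⁅a, b⁆ ∈ Z
  SU : ∀ s ∈ S, ∀ u ∈ U, s * u * s⁻¹ * u⁻¹ ∈ Z
  SV : ∀ s ∈ S, ∀ v ∈ V, s * v * s⁻¹ * v⁻¹ ∈ U
  ti : ∀ x ∈ G, x ∉ M → U ⊓ cj x U ≤ Z
  cardV : Nat.card V = q * Nat.card U
  cardU : Nat.card U = q * Nat.card Z

variable {S G M Q V U Z : Subgroup X} {q : ℕ}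

namespace NSec

variable (hp : PU S G M Q q) (h : NSec S G M V U Z q)
include h

theorem cjZ {x : X} (hx : x ∈ G) : cj x Z = Z := cj_eq_of_mem_normalizer (h.Zn hx)

theorem cjVV {x : X} (hx : x ∈ G) : cj x V = V := cj_eq_of_mem_normalizer (h.Vn hx)

theorem cjU_le {x : X} (hx : x ∈ G) : cj x U ≤ V := by
  have := cj_mono (g := x) h.UV
  rwa [h.cjVV hx] at this

theorem Z_le_cj {x : X} (hx : x ∈ G) : Z ≤ cj x U := by
  have := cj_mono (g := x) h.ZU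
  rwa [h.cjZ hx] at this

theorem SVn : S ≤ normalizer (U : Set X) := by
  have key : ∀ s ∈ S, ∀ u ∈ U, s * u * s⁻¹ ∈ U := by
    intro s hs u hu
    have h1 := h.SV s hs u (h.UV hu)
    have e : s * u * s⁻¹ = (s * u * s⁻¹ * u⁻¹) * u := by group
    rw [e]
    exact mul_mem h1 hu
  intro s hs
  rw [mem_normalizer_iff]
  intro u
  constructor
  · exact fun hu => key s hs u hu
  · intro hu
    have := key s⁻¹ (inv_mem hs) _ hu
    have e : s⁻¹ * (s * u * s⁻¹) * s⁻¹⁻¹ = u := by group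
    rwa [e] at this

theorem V_norm_U {v : X} (hv : v ∈ V) : v ∈ normalizer (U : Set X) := by
  have key : ∀ v ∈ V, ∀ u ∈ U, v * u * v⁻¹ ∈ U := by
    intro v hv u hu
    have h1 := h.ab v hv u (h.UV hu)
    have e : v * u * v⁻¹ = ⁅v, u⁆ * u := by rw [commutatorElement_def]; group
    rw [e]
    exact mul_mem (h.ZU h1) hu
  rw [mem_normalizer_iff]
  intro u
  constructor
  · exact fun hu => key v hv u hu
  · intro hu
    have := key v⁻¹ (inv_mem hv) _ hu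
    have e : v⁻¹ * (v * u * v⁻¹) * v⁻¹⁻¹ = u := by group
    rwa [e] at this

/-- `V = U U^x` -/
theorem sup [Finite X] {x : X} (hx : x ∈ G) (hxM : x ∉ M) : cj x U ⊔ U = V := by
  apply eq_of_le_of_card_le (sup_le (h.cjU_le hx) h.UV)
  have h1 : cj x U ≤ normalizer (U : Set X) := fun y hy => h.V_norm_U (h.cjU_le hx hy)
  have h2 := card_mul_eq h1
  have h3 : Nat.card (cj x U ⊓ U : Subgroup X) ≤ Nat.card Z := by
    apply Nat.card_mono (Set.toFinite _)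
    rw [inf_comm]
    exact h.ti x hx hxM
  rw [card_cj] at h2
  have h4 : 0 < Nat.card Z := Nat.card_pos
  have h5 : Nat.card V * Nat.card Z ≤ Nat.card (cj x U ⊔ U : Subgroup X) * Nat.card Z := by
    calc Nat.card V * Nat.card Z = Nat.card U * (q * Nat.card Z) := by rw [h.cardV]; ring
      _ = Nat.card U * Nat.card U := by rw [← h.cardU]
      _ = _ := h2.symm
      _ ≤ _ := Nat.mul_le_mul_left _ h3
  exact Nat.le_of_mul_le_mul_right h5 h4

include hp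

/-- transitivity of `S` on the complement coset -/
theorem trans [Finite X] (hq : 1 < q) {g u' u : X} (hg : g ∈ G) (hgM : g ∉ M)
    (hu' : u' ∈ cj g U) (hu'Z : u' ∉ Z) (hu : u ∈ U) :
    ∃ s ∈ S, (s * u' * s⁻¹ * u'⁻¹) * u⁻¹ ∈ Z := by
  classical
  have hu'V : u' ∈ V := h.cjU_le hg hu'
  have hZn : ∀ u ∈ U, ∀ z ∈ Z, u * z * u⁻¹ ∈ Z := fun u hu z hz =>
    conj_mem_of_normalizer (h.Zn (h.VG (h.UV hu))) hz
  haveI : (Z.subgroupOf U).Normal := ⟨fun z hz u => by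
    rw [mem_subgroupOf] at hz ⊢
    exact hZn u u.2 z hz⟩
  let c : S → U := fun s => ⟨s * u' * (s : X)⁻¹ * u'⁻¹, h.SV s s.2 u' hu'V⟩
  let F : S →* U ⧸ Z.subgroupOf U := MonoidHom.mk' (fun s => QuotientGroup.mk (c s)) (by
    intro s s'
    rw [← QuotientGroup.mk_mul]
    rw [QuotientGroup.eq, mem_subgroupOf]
    -- `c (s s') = s (c s') s⁻¹ * c s`
    set cs := (s : X) * u' * (s : X)⁻¹ * u'⁻¹ with hcs
    set cs' := (s' : X) * u' * (s' : X)⁻¹ * u'⁻¹ with hcs'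
    have h1 : cs ∈ U := h.SV s s.2 u' hu'V
    have h2 : cs' ∈ U := h.SV s' s'.2 u' hu'V
    have h3 : (s : X) * cs' * (s : X)⁻¹ * cs'⁻¹ ∈ Z := h.SU s s.2 cs' h2
    have h4 : ⁅cs', cs⁆ ∈ Z := h.ab _ (h.UV h2) _ (h.UV h1)
    have e : (((s * s' : S) : X) * u' * ((s * s' : S) : X)⁻¹ * u'⁻¹)⁻¹ * (cs * cs') =
        ((cs' * cs)⁻¹ * ((s : X) * cs' * (s : X)⁻¹ * cs'⁻¹)⁻¹ * (cs' * cs)) *
          (cs⁻¹ * (cs'⁻¹ * ⁅cs', cs⁆⁻¹ * cs') * cs) := by
      rw [commutatorElement_def, hcs, hcs']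
      simp only [Subgroup.coe_mul]
      group
    change (((s * s' : S) : X) * u' * ((s * s' : S) : X)⁻¹ * u'⁻¹)⁻¹ * (cs * cs') ∈ Z
    rw [e]
    have h5 : (cs' * cs)⁻¹ ∈ U := inv_mem (mul_mem h2 h1)
    have h6 := hZn _ h5 _ (inv_mem h3)
    rw [inv_inv] at h6
    have h7 := hZn _ (inv_mem h2) _ (inv_mem h4)
    rw [inv_inv] at h7
    have h8 := hZn _ (inv_mem h1) _ h7
    rw [inv_inv] at h8
    exact mul_mem h6 h8)
  have hF : ∀ s : S, F s = QuotientGroup.mk (c s) := fun s => rfl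
  have hker : F.ker ≤ Q.subgroupOf S := by
    intro s hs
    rw [MonoidHom.mem_ker, hF, QuotientGroup.eq_one_iff, mem_subgroupOf] at hs
    rw [mem_subgroupOf]
    by_contra hsQ
    have h1 := hp.ti g hg hgM s s.2 hsQ
    have hyG : g⁻¹ * s * g ∈ G := mul_mem (mul_mem (inv_mem hg) (hp.SG s.2)) hg
    have h2 := h.ti _ hyG h1
    have h3 : (s : X) * u' * (s : X)⁻¹ ∈ cj g U := by
      have e : (s : X) * u' * (s : X)⁻¹ = ((s : X) * u' * (s : X)⁻¹ * u'⁻¹) * u' := by group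
      rw [e]
      exact mul_mem (h.Z_le_cj hg hs) hu'
    have h4 : g⁻¹ * ((s : X) * u' * (s : X)⁻¹) * g ∈ Z := by
      apply h2
      rw [mem_inf]
      rw [mem_cj] at h3
      refine ⟨h3, ?_⟩
      rw [mem_cj]
      rw [mem_cj] at hu'
      have e : (g⁻¹ * s * g)⁻¹ * (g⁻¹ * ((s : X) * u' * (s : X)⁻¹) * g) * (g⁻¹ * s * g) =
          g⁻¹ * u' * g := by group
      rwa [e]
    have h5 : (s : X) * u' * (s : X)⁻¹ ∈ Z := by
      rw [← h.cjZ hg, mem_cj]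
      exact h4
    apply hu'Z
    have e : u' = ((s : X) * u' * (s : X)⁻¹ * u'⁻¹)⁻¹ * ((s : X) * u' * (s : X)⁻¹) := by group
    rw [e]
    exact mul_mem (inv_mem hs) h5
  have hsurj : F.range = ⊤ := by
    apply Subgroup.eq_top_of_le_card
    have h1 : Nat.card (U ⧸ Z.subgroupOf U) * Nat.card (Z.subgroupOf U) = Nat.card U :=
      (Subgroup.card_eq_card_quotient_mul_card_subgroup _).symm
    have h2 : Nat.card (Z.subgroupOf U) = Nat.card Z :=
      Nat.card_congr (subgroupOfEquivOfLe h.ZU).toEquiv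
    have h3 : 0 < Nat.card Z := Nat.card_pos
    have h4 : Nat.card (U ⧸ Z.subgroupOf U) = q := by
      rw [h2, h.cardU] at h1
      exact Nat.eq_of_mul_eq_mul_right h3 h1
    have h5 : Nat.card F.range * Nat.card F.ker = Nat.card S := by
      rw [← Nat.card_congr (QuotientGroup.quotientKerEquivRange F).toEquiv]
      exact (Subgroup.card_eq_card_quotient_mul_card_subgroup _).symm
    have h6 : Nat.card F.ker ≤ Nat.card Q := by
      have h6 : Nat.card F.ker ≤ Nat.card (Q.subgroupOf S) := Nat.card_mono (Set.toFinite _) hker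
      rwa [Nat.card_congr (subgroupOfEquivOfLe hp.QS).toEquiv] at h6
    have h7 : 0 < Nat.card Q := Nat.card_pos
    rw [h4]
    by_contra hcon
    push Not at hcon
    have h8 := hp.cardS
    have h9 : Nat.card F.range * Nat.card F.ker ≤ Nat.card F.range * Nat.card Q :=
      Nat.mul_le_mul_left _ h6
    rw [h5, h8] at h9
    have h10 := Nat.le_of_mul_le_mul_right h9 h7
    omega
  obtain ⟨s, hs⟩ : (QuotientGroup.mk ⟨u, hu⟩ : U ⧸ Z.subgroupOf U) ∈ F.range := by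
    rw [hsurj]; exact mem_top _
  refine ⟨s, s.2, ?_⟩
  rw [hF] at hs
  have h1 := hs.symm
  rw [QuotientGroup.eq, mem_subgroupOf] at h1
  have h2 : u⁻¹ * ((s : X) * u' * (s : X)⁻¹ * u'⁻¹) ∈ Z := h1
  have h3 := hZn u hu _ h2
  have e : u * (u⁻¹ * ((s : X) * u' * (s : X)⁻¹ * u'⁻¹)) * u⁻¹ =
      ((s : X) * u' * (s : X)⁻¹ * u'⁻¹) * u⁻¹ := by group
  rwa [e] at h3

/-- an element of `V` outside `U` lies in some `U ^ (s g)` modulo `Z` -/
theorem cover [Finite X] (hq : 1 < q) {g v : X} (hg : g ∈ G) (hgM : g ∉ M) (hv : v ∈ V)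
    (hvU : v ∉ U) : ∃ s ∈ S, v ∈ cj (s * g) U := by
  have h1 : ∃ u' ∈ cj g U, ∃ u ∈ U, u' * u = v := by
    rw [← h.sup hg hgM] at hv
    exact mul_of_sup (fun y hy => h.V_norm_U (h.cjU_le hg hy)) v hv
  obtain ⟨u', hu', u, hu, rfl⟩ := h1
  have hu'Z : u' ∉ Z := fun hcon => hvU (mul_mem (h.ZU hcon) hu)
  obtain ⟨s, hs, hsZ⟩ := trans hp h hq hg hgM hu' hu'Z hu
  refine ⟨s, hs, ?_⟩
  have h2 : s * u' * s⁻¹ ∈ cj (s * g) U := by
    rw [← cj_mul]
    exact conj_mem_cj hu'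
  have hG : s * g ∈ G := mul_mem (hp.SG hs) hg
  -- `u' u = z (s u' s⁻¹)` with `z ∈ Z`
  have e : u' * u = (⁅u', u⁆ * (s * u' * s⁻¹ * u'⁻¹ * u⁻¹)⁻¹) * (s * u' * s⁻¹) := by
    rw [commutatorElement_def]; group
  rw [e]
  apply mul_mem (h.Z_le_cj hG _) h2
  exact mul_mem (h.ab _ (h.cjU_le hg hu') _ (h.UV hu)) (inv_mem hsZ)

theorem ex_notMem [Finite X] (hq : 1 < q) (x : X) : ∃ u ∈ cj x U, u ∉ Z := by
  by_contra hcon
  push Not at hcon
  have h1 : Nat.card (cj x U) ≤ Nat.card Z := Nat.card_mono (Set.toFinite _) hcon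
  rw [card_cj, h.cardU] at h1
  have h2 : 0 < Nat.card Z := Nat.card_pos
  nlinarith

/-- coset lemma -/
theorem coset [Finite X] (hq : 1 < q) {g x : X} (hg : g ∈ G) (hgM : g ∉ M) (hx : x ∈ G)
    (hxM : x ∉ M) : ∃ s ∈ S, (s * g)⁻¹ * x ∈ M := by
  obtain ⟨v, hv, hvZ⟩ := ex_notMem hp h hq x
  have hvU : v ∉ U := fun hcon => hvZ (h.ti x hx hxM (mem_inf.2 ⟨hcon, hv⟩))
  obtain ⟨s, hs, hsv⟩ := cover hp h hq hg hgM (h.cjU_le hx hv) hvU
  refine ⟨s, hs, ?_⟩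
  by_contra hcon
  have hsG : s * g ∈ G := mul_mem (hp.SG hs) hg
  have hyG : (s * g)⁻¹ * x ∈ G := mul_mem (inv_mem hsG) hx
  have h1 := h.ti _ hyG hcon
  apply hvZ
  have h2 : (s * g)⁻¹ * v * (s * g) ∈ Z := by
    apply h1
    rw [mem_inf]
    rw [mem_cj] at hsv
    refine ⟨hsv, ?_⟩
    rw [mem_cj] at hv ⊢
    have e : ((s * g)⁻¹ * x)⁻¹ * ((s * g)⁻¹ * v * (s * g)) * ((s * g)⁻¹ * x) = x⁻¹ * v * x := by
      group
    rwa [e]
  rw [← h.cjZ hsG, mem_cj]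
  exact h2

/-- `M` normalizes `U` -/
theorem M_norm [Finite X] (hq : 1 < q) (hSM : S ≤ M) {m : X} (hm : m ∈ M) (hmG : m ∈ G) :
    cj m U = U := by
  apply eq_of_le_of_card_le _ (by rw [card_cj])
  intro v hv
  by_contra hvU
  obtain ⟨g, hg, hgM⟩ := hp.exM
  have hvZ : v ∉ Z := fun hcon => hvU (h.ZU hcon)
  obtain ⟨s, hs, hsv⟩ := cover hp h hq hg hgM (h.cjU_le hmG hv) hvU
  have hsG : s * g ∈ G := mul_mem (hp.SG hs) hg
  have hyG : m⁻¹ * (s * g) ∈ G := mul_mem (inv_mem hmG) hsG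
  have hyM : m⁻¹ * (s * g) ∉ M := by
    intro hcon
    apply hgM
    have h1 := mul_mem (inv_mem (hSM hs)) (mul_mem hm hcon)
    have e : s⁻¹ * (m * (m⁻¹ * (s * g))) = g := by group
    rwa [e] at h1
  have h1 := h.ti _ hyG hyM
  apply hvZ
  have h2 : m⁻¹ * v * m ∈ Z := by
    apply h1
    rw [mem_inf]
    rw [mem_cj] at hv
    refine ⟨hv, ?_⟩
    rw [mem_cj] at hsv ⊢
    have e : (m⁻¹ * (s * g))⁻¹ * (m⁻¹ * v * m) * (m⁻¹ * (s * g)) = (s * g)⁻¹ * v * (s * g) := by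
      group
    rwa [e]
  rw [← h.cjZ hmG, mem_cj]
  exact h2

/-- an element of `G` normalizing `U` lies in `M` -/
theorem mem_M [Finite X] (hq : 1 < q) {x : X} (hx : x ∈ G) (hxU : cj x U = U) : x ∈ M := by
  by_contra hxM
  have h1 := h.ti x hx hxM
  rw [hxU, inf_idem] at h1
  obtain ⟨u, hu, huZ⟩ := ex_notMem hp h hq 1
  rw [cj_one] at hu
  exact huZ (h1 hu)

end NSec

end Cfsg.Agent.H222.GNSix
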