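import Cfsg.Agent.H222.GNSec

/-!
# Natural sections of a rank one group: the torus element
-/

set_option autoImplicit false
set_option linter.unusedSectionVars false

namespace Cfsg.Agent.H222.GNSix

open Subgroup
open Cfsg.Agent.H260.Push
open Cfsg.Agent.H259.GN
open Cfsg.Agent.H222.GNTorus
open scoped commutatorElement

variable {X : Type*} [Group X]

variable {S G M Q V U Z : Subgroup X} {q : ℕ}

namespace NSec

variable (hp : PU S G M Q q) (h : NSec S G M V U Z q)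
include hp h

/-- opposite root elements -/
theorem root [Finite X] (hq : 1 < q) {g s : X} (hg : g ∈ G) (hgM : g ∉ M) (hs : s ∈ S)
    (hsQ : s ∉ Q) : ∃ t ∈ cj g S, t⁻¹ * s * g ∈ M := by
  have hx : g⁻¹ * s * g ∈ G := mul_mem (mul_mem (inv_mem hg) (hp.SG hs)) hg
  obtain ⟨s', hs', hm⟩ := coset hp h hq (inv_mem hg) (PU.inv_notMem hp hgM) hx
    (hp.ti g hg hgM s hs hsQ)
  refine ⟨g * s' * g⁻¹, conj_mem_cj hs', ?_⟩
  have e : (g * s' * g⁻¹)⁻¹ * s * g = (s' * g⁻¹)⁻¹ * (g⁻¹ * s * g) := by group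
  rwa [e]

theorem cj_eq [Finite X] (hq : 1 < q) (hSM : S ≤ M) {g s t : X} (hg : g ∈ G) (hs : s ∈ S)
    (ht : t ∈ cj g S) (hm : t⁻¹ * s * g ∈ M) : cj t U = cj s (cj g U) := by
  have htG : t ∈ G := by
    have := cj_mono (g := g) hp.SG
    rw [cj_eq_self hg] at this
    exact this ht
  have hmG : t⁻¹ * s * g ∈ G := mul_mem (mul_mem (inv_mem htG) (hp.SG hs)) hg
  have h1 := M_norm hp h hq hSM hm hmG
  have h2 := congrArg (cj t) h1
  rw [cj_mul] at h2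
  rw [← h2, cj_mul]
  congr 1
  group

omit h in
theorem cjS_le {g : X} (hg : g ∈ G) : cj g S ≤ G := by
  have := cj_mono (g := g) hp.SG
  rwa [cj_eq_self hg] at this

theorem torus [Finite X] (hq : 1 < q) (hSM : S ≤ M) {g s t t₂ τ : X} (hg : g ∈ G) (hgM : g ∉ M)
    (hs : s ∈ S) (ht : t ∈ cj g S) (hm : t⁻¹ * s * g ∈ M) (ht₂ : t₂ ∈ cj g S)
    (hm₂ : t₂⁻¹ * (s * s) * g ∈ M)
    (hτ : τ = ((s * s) * t₂⁻¹ * (s * s)) * (s * t⁻¹ * s)⁻¹) :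
    (∀ u ∈ U, τ * u * τ⁻¹ * (u * u)⁻¹ ∈ Z) ∧
      ∀ u' ∈ cj g U, (τ * u' * τ⁻¹) * (τ * u' * τ⁻¹) * u'⁻¹ ∈ Z := by
  classical
  haveI : (Z.subgroupOf G).Normal := ⟨fun z hz u => by
    rw [mem_subgroupOf] at hz ⊢
    exact conj_mem_of_normalizer (h.Zn u.2) hz⟩
  let π : G →* G ⧸ Z.subgroupOf G := QuotientGroup.mk' (Z.subgroupOf G)
  have key1 : ∀ a : G, π a = 1 ↔ (a : X) ∈ Z := fun a => by
    rw [QuotientGroup.mk'_apply, QuotientGroup.eq_one_iff, mem_subgroupOf]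
  have key : ∀ a b : G, π a = π b ↔ (a : X) * (b : X)⁻¹ ∈ Z := fun a b => by
    rw [← div_eq_one, ← map_div, key1, div_eq_mul_inv]
    rfl
  have hmem : ∀ (K : Subgroup X) (y : G ⧸ Z.subgroupOf G), y ∈ (K.subgroupOf G).map π ↔
      ∃ a : G, (a : X) ∈ K ∧ π a = y := fun K y => by
    rw [Subgroup.mem_map]
    constructor
    · rintro ⟨a, ha, rfl⟩; exact ⟨a, mem_subgroupOf.1 ha, rfl⟩
    · rintro ⟨a, ha, rfl⟩; exact ⟨a, mem_subgroupOf.2 ha, rfl⟩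
  have hUG : U ≤ G := h.UV.trans h.VG
  have hU'G : cj g U ≤ G := (h.cjU_le hg).trans h.VG
  set V₀ := (V.subgroupOf G).map π with hV₀
  set U₀ := (U.subgroupOf G).map π with hU₀
  set U₁ := ((cj g U).subgroupOf G).map π with hU₁
  have hab : ∀ a ∈ V₀, ∀ b ∈ V₀, a * b = b * a := by
    intro a₀ ha₀ b₀ hb₀
    obtain ⟨a, ha, rfl⟩ := (hmem V a₀).1 ha₀
    obtain ⟨b, hb, rfl⟩ := (hmem V b₀).1 hb₀
    rw [← map_mul, ← map_mul, key]
    have h1 := h.ab _ ha _ hb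
    have e : ((a * b : G) : X) * ((b * a : G) : X)⁻¹ = ⁅(a : X), (b : X)⁆ := by
      rw [commutatorElement_def, Subgroup.coe_mul, Subgroup.coe_mul]; group
    rwa [e]
  have hUV : U₀ ≤ V₀ := by
    intro y hy
    obtain ⟨a, ha, rfl⟩ := (hmem U y).1 hy
    exact (hmem V _).2 ⟨a, h.UV ha, rfl⟩
  have hU'V : U₁ ≤ V₀ := by
    intro y hy
    obtain ⟨a, ha, rfl⟩ := (hmem _ y).1 hy
    exact (hmem V _).2 ⟨a, h.cjU_le hg ha, rfl⟩
  have hd : ∀ x ∈ U₀, x ∈ U₁ → x = 1 := by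
    intro x hx hx'
    obtain ⟨a, ha, rfl⟩ := (hmem _ x).1 hx
    obtain ⟨b, hb, hab⟩ := (hmem _ _).1 hx'
    rw [key] at hab
    rw [key1]
    apply h.ti g hg hgM
    rw [mem_inf]
    refine ⟨ha, ?_⟩
    have e : (a : X) = ((b : X) * (a : X)⁻¹)⁻¹ * b := by group
    rw [e]
    exact mul_mem (inv_mem (h.Z_le_cj hg hab)) hb
  have opp : ∀ (s t : X) (hs : s ∈ S) (ht : t ∈ cj g S), t⁻¹ * s * g ∈ M →
      Opp V₀ U₀ U₁ (π ⟨s, hp.SG hs⟩) (π ⟨t, cjS_le hp hg ht⟩) := by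
    intro s t hs ht hm
    have hcj := cj_eq hp h hq hSM hg hs ht hm
    refine ⟨?_, ?_, ?_, ?_, ?_, ?_⟩
    · intro u hu
      obtain ⟨a, ha, rfl⟩ := (hmem _ u).1 hu
      rw [← map_mul, ← map_inv, ← map_mul, key]
      exact h.SU s hs a ha
    · intro v hv
      obtain ⟨a, ha, rfl⟩ := (hmem _ v).1 hv
      rw [← map_mul, ← map_inv, ← map_mul, ← map_inv, ← map_mul]
      exact (hmem _ _).2 ⟨_, h.SV s hs a ha, rfl⟩
    · intro u hu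
      obtain ⟨a, ha, rfl⟩ := (hmem _ u).1 hu
      rw [← map_mul, ← map_inv, ← map_mul, key]
      change t * (a : X) * t⁻¹ * (a : X)⁻¹ ∈ Z
      rw [mem_cj] at ht ha
      have h1 := h.SU _ ht _ ha
      rw [← h.cjZ hg, mem_cj]
      have e : g⁻¹ * (t * (a : X) * t⁻¹ * (a : X)⁻¹) * g =
          g⁻¹ * t * g * (g⁻¹ * (a : X) * g) * (g⁻¹ * t * g)⁻¹ * (g⁻¹ * (a : X) * g)⁻¹ := by group
      rwa [e]
    · intro v hv
      obtain ⟨a, ha, rfl⟩ := (hmem _ v).1 hv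
      rw [← map_mul, ← map_inv, ← map_mul, ← map_inv, ← map_mul]
      refine (hmem _ _).2 ⟨_, ?_, rfl⟩
      change t * (a : X) * t⁻¹ * (a : X)⁻¹ ∈ cj g U
      rw [mem_cj] at ht ⊢
      have h0 : g⁻¹ * (a : X) * g ∈ V := by
        have := ha
        rwa [← h.cjVV hg, mem_cj] at this
      have h1 := h.SV _ ht _ h0
      have e : g⁻¹ * (t * (a : X) * t⁻¹ * (a : X)⁻¹) * g =
          g⁻¹ * t * g * (g⁻¹ * (a : X) * g) * (g⁻¹ * t * g)⁻¹ * (g⁻¹ * (a : X) * g)⁻¹ := by group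
      rwa [e]
    · intro u hu
      obtain ⟨a, ha, rfl⟩ := (hmem _ u).1 hu
      have h1 : t * (a : X) * t⁻¹ ∈ cj s (cj g U) := by
        rw [← hcj]
        exact conj_mem_cj ha
      rw [mem_cj] at h1
      refine ⟨π ⟨s⁻¹ * (t * (a : X) * t⁻¹) * s, hU'G h1⟩, (hmem _ _).2 ⟨_, h1, rfl⟩, ?_⟩
      rw [← map_mul, ← map_inv, ← map_mul, ← map_mul, ← map_inv, ← map_mul]
      congr 1
      apply Subtype.ext
      change t * (a : X) * t⁻¹ = s * (s⁻¹ * (t * (a : X) * t⁻¹) * s) * s⁻¹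
      group
    · intro u hu
      obtain ⟨a, ha, rfl⟩ := (hmem _ u).1 hu
      have h1 : s * (a : X) * s⁻¹ ∈ cj t U := by
        rw [hcj]
        exact conj_mem_cj ha
      rw [mem_cj] at h1
      refine ⟨π ⟨t⁻¹ * (s * (a : X) * s⁻¹) * t, hUG h1⟩, (hmem _ _).2 ⟨_, h1, rfl⟩, ?_⟩
      rw [← map_mul, ← map_inv, ← map_mul, ← map_mul, ← map_inv, ← map_mul]
      congr 1
      apply Subtype.ext
      change t * (t⁻¹ * (s * (a : X) * s⁻¹) * t) * t⁻¹ = s * (a : X) * s⁻¹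
      group
  have o1 := opp s t hs ht hm
  have o2 := opp (s * s) t₂ (mul_mem hs hs) ht₂ hm₂
  have hτG : τ ∈ G := by
    rw [hτ]
    have a1 := hp.SG hs
    have a2 := cjS_le hp hg ht
    have a3 := cjS_le hp hg ht₂
    exact mul_mem (mul_mem (mul_mem (mul_mem a1 a1) (inv_mem a3)) (mul_mem a1 a1))
      (inv_mem (mul_mem (mul_mem a1 (inv_mem a2)) a1))
  have hτπ : π ⟨τ, hτG⟩ = ((π ⟨s, hp.SG hs⟩ * π ⟨s, hp.SG hs⟩) * (π ⟨t₂, cjS_le hp hg ht₂⟩)⁻¹ *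
      (π ⟨s, hp.SG hs⟩ * π ⟨s, hp.SG hs⟩)) *
      (π ⟨s, hp.SG hs⟩ * (π ⟨t, cjS_le hp hg ht⟩)⁻¹ * π ⟨s, hp.SG hs⟩)⁻¹ := by
    simp only [← map_mul, ← map_inv]
    congr 1
    apply Subtype.ext
    exact hτ
  have o2' : Opp V₀ U₀ U₁ (π ⟨s, hp.SG hs⟩ * π ⟨s, hp.SG hs⟩) (π ⟨t₂, cjS_le hp hg ht₂⟩) := by
    rw [← map_mul]
    exact o2
  obtain ⟨r1, r2⟩ := GNTorus.torus hab hUV hU'V hd o1 o2' hτπ
  constructor
  · intro u hu
    have h1 := r1 (π ⟨u, hUG hu⟩) ((hmem _ _).2 ⟨_, hu, rfl⟩)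
    rw [← map_mul, ← map_inv, ← map_mul, ← map_mul, key] at h1
    exact h1
  · intro u hu
    have h1 := r2 (π ⟨u, hU'G hu⟩) ((hmem _ _).2 ⟨_, hu, rfl⟩)
    rw [← map_mul, ← map_inv, ← map_mul, ← map_mul, key] at h1
    exact h1

end NSec

end Cfsg.Agent.H222.GNSix
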