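import Cfsg.Agent.H259.GNPair

/-!
# Uniform Glauberman–Niles, section (6): two types at distance two

For a `Pair S G M Q H N P q` and opposite elements `g`, `k` the structure of `S`: `E0 g = Q ⊓ P ⊓ P^g` is
normal in `G`, `S` is the central product of a subgroup generated by four abelian groups and
`DG g k = Q ⊓ P ⊓ P^g ⊓ Q^k`.
-/

set_option autoImplicit false
set_option linter.unusedSectionVars false

namespace Cfsg.Agent.H222.GNSix

open Subgroup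
open Cfsg.Agent.H260.Push
open Cfsg.Agent.H259.GN
open scoped commutatorElement

variable {X : Type*} [Group X]

theorem Cm.eq {A B : Subgroup X} (h : Cm A B) {a b : X} (ha : a ∈ A) (hb : b ∈ B) :
    a * b = b * a := h a ha b hb

/-- commuting elements: conjugation is trivial -/
theorem Cm.conj {A B : Subgroup X} (h : Cm A B) {a b : X} (ha : a ∈ A) (hb : b ∈ B) :
    a * b * a⁻¹ = b := by rw [h a ha b hb]; group

variable {S G M Q H N P : Subgroup X} {q : ℕ}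

/-- `Q ⊓ P ⊓ P^g` -/
def E0 (Q P : Subgroup X) (g : X) : Subgroup X := Q ⊓ P ⊓ cj g P

/-- `Q ⊓ P ⊓ P^g ⊓ Q^k` -/
def DG (Q P : Subgroup X) (g k : X) : Subgroup X := E0 Q P g ⊓ cj k Q

theorem mem_E0 {g x : X} : x ∈ E0 Q P g ↔ x ∈ Q ∧ x ∈ P ∧ x ∈ cj g P := by
  unfold E0
  rw [mem_inf, mem_inf, and_assoc]

theorem mem_DG {g k x : X} : x ∈ DG Q P g k ↔ x ∈ E0 Q P g ∧ x ∈ cj k Q := by
  unfold DG
  rw [mem_inf]

theorem mem_DG' {g k x : X} : x ∈ DG Q P g k ↔ x ∈ E0 Q P g ∧ x ∈ E0 P Q k := by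
  rw [mem_DG, mem_E0, mem_E0]
  tauto

theorem DG_symm (g k : X) : DG Q P g k = DG P Q k g := by
  ext x
  rw [mem_DG', mem_DG', and_comm]

section

variable (h : Pair S G M Q H N P q)
include h

theorem cenP_Q : cen P ≤ Q := h.hG.le_Q_of_cm h.hH.VS h.comm

theorem cenQ_P : cen Q ≤ P := cenP_Q h.symm

variable [Finite X] {g : X} (hg : g ∈ G) (hgM : g ∉ M)
include hg hgM

theorem Q_le_cj : Q ≤ cj g S := by
  have := cj_mono (g := g) h.hG.QS
  rwa [h.hG.cjQ hg] at this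

theorem dec1 {x : X} (hx : x ∈ Q) (hx' : x ∈ P) : ∃ v ∈ cen P, ∃ r ∈ E0 Q P g, v * r = x := by
  have h1 := Q_le_cj h hg hgM hx
  rw [← h.sup' hg (h.ncG g hg hgM)] at h1
  have hn : cen P ≤ normalizer (cj g P : Set X) := by
    have h2 : cen P ≤ cj g S := (cenP_Q h).trans (Q_le_cj h hg hgM)
    have h3 : cj g S ≤ normalizer (cj g P : Set X) := by
      intro y hy
      rw [← cj_eq_iff_mem_normalizer]
      rw [mem_cj] at hy
      have h6 := h.hH.cjQ (h.hH.SG hy)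
      rw [← cj_mul, ← cj_mul] at h6
      have h7 := congrArg (cj g) h6
      rw [cj_mul, mul_inv_cancel, cj_one] at h7
      exact h7
    exact h2.trans h3
  obtain ⟨v, hv, r, hr, hvr⟩ := mul_of_sup hn x h1
  refine ⟨v, hv, r, ?_, hvr⟩
  have e : r = v⁻¹ * x := by rw [← hvr]; group
  rw [mem_E0]
  refine ⟨?_, ?_, hr⟩
  · rw [e]
    exact mul_mem (inv_mem (cenP_Q h hv)) hx
  · rw [e]
    exact mul_mem (inv_mem (cen_le P hv)) hx'

theorem dec2 {x : X} (hx : x ∈ Q) : ∃ a ∈ cj g (cen P), ∃ r, r ∈ Q ∧ r ∈ P ∧ a * r = x := by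
  have h1 := h.hG.QS hx
  rw [← h.sup hg (h.ncG g hg hgM)] at h1
  have hn : cj g (cen P) ≤ normalizer (P : Set X) :=
    ((h.cj_le_Q hg).trans h.hG.QS).trans (h.hH.SG.trans h.hH.Qn)
  obtain ⟨a, ha, r, hr, har⟩ := mul_of_sup hn x h1
  refine ⟨a, ha, r, ?_, hr, har⟩
  have e : r = a⁻¹ * x := by rw [← har]; group
  rw [e]
  exact mul_mem (inv_mem (h.cj_le_Q hg ha)) hx

/-- `Q = V'^g V' E0` -/
theorem dec3 {x : X} (hx : x ∈ Q) :
    ∃ a ∈ cj g (cen P), ∃ v ∈ cen P, ∃ r ∈ E0 Q P g, a * v * r = x := by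
  obtain ⟨a, ha, y, hyQ, hyP, rfl⟩ := dec2 h hg hgM hx
  obtain ⟨v, hv, r, hr, rfl⟩ := dec1 h hg hgM hyQ hyP
  exact ⟨a, ha, v, hv, r, hr, by group⟩

omit hgM [Finite X] in
theorem cenQ_E0 : cen Q ≤ E0 Q P g := by
  intro x hx
  rw [mem_E0]
  refine ⟨cen_le Q hx, cenQ_P h hx, ?_⟩
  have := cj_mono (g := g) (cenQ_P h)
  rw [h.hG.cjV hg] at this
  exact this hx

omit hg hgM [Finite X] in
theorem cm_cenP_E0 (g : X) : Cm (cen P) (E0 Q P g) := fun a ha b hb =>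
  h.hH.cm_VQ a ha b (mem_E0.1 hb).2.1

omit hg hgM [Finite X] in
theorem cm_cj_E0 (g : X) : Cm (cj g (cen P)) (E0 Q P g) := fun a ha b hb =>
  (h.hH.cm_VQ.cj g) a ha b (mem_E0.1 hb).2.2

/-- `Q` normalizes `E0` -/
theorem Q_norm {c x : X} (hc : c ∈ Q) (hx : x ∈ E0 Q P g) : c * x * c⁻¹ ∈ E0 Q P g := by
  obtain ⟨a, ha, v, hv, r, hr, rfl⟩ := dec3 h hg hgM hc
  have h1 : r * x * r⁻¹ ∈ E0 Q P g := mul_mem (mul_mem hr hx) (inv_mem hr)
  have h2 := Cm.conj (cm_cenP_E0 h g) hv h1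
  have h3 := Cm.conj (cm_cj_E0 h g) ha h1
  have e : a * v * r * x * (a * v * r)⁻¹ = a * (v * (r * x * r⁻¹) * v⁻¹) * a⁻¹ := by group
  rw [e, h2, h3]
  exact h1

end

section

variable (h : Pair S G M Q H N P q) [Finite X] {g k : X} (hg : g ∈ G) (hgM : g ∉ M)
  (hk : k ∈ H) (hkN : k ∉ N)
include h

include hk hkN in
/-- decomposition of `S` on the `H` side -/
theorem decS {s : X} (hs : s ∈ S) : ∃ b ∈ cj k (cen Q), ∃ c ∈ Q, b * c = s := by
  rw [← h.symm.sup hk (h.ncH k hk hkN)] at hs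
  exact mul_of_sup (((h.symm.cj_le_Q hk).trans h.hH.QS).trans (h.hG.SG.trans h.hG.Qn)) s hs

include hk hkN in
/-- commutators of `P` with `V^k` -/
theorem comm_B {b x : X} (hb : b ∈ cj k (cen Q)) (hx : x ∈ P) :
    b * x * b⁻¹ * x⁻¹ ∈ DD S Q := by
  obtain ⟨v, hv, r, hr, rfl⟩ : ∃ v ∈ cen Q, ∃ r ∈ cj k Q, v * r = x := by
    have h1 := Q_le_cj h.symm hk hkN hx
    rw [← h.symm.sup' hk (h.ncH k hk hkN)] at h1
    refine mul_of_sup ?_ x h1
    have h2 : cen Q ≤ cj k S := (cenP_Q h.symm).trans (Q_le_cj h.symm hk hkN)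
    have h3 : cj k S ≤ normalizer (cj k Q : Set X) := by
      intro y hy
      rw [← cj_eq_iff_mem_normalizer]
      rw [mem_cj] at hy
      have h6 := h.hG.cjQ (h.hG.SG hy)
      rw [← cj_mul, ← cj_mul] at h6
      have h7 := congrArg (cj k) h6
      rw [cj_mul, mul_inv_cancel, cj_one] at h7
      exact h7
    exact h2.trans h3
  have h1 : b * r = r * b := (h.hG.cm_VQ.cj k) b hb r hr
  have e : b * (v * r) * b⁻¹ * (v * r)⁻¹ = b * v * b⁻¹ * v⁻¹ := by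
    calc b * (v * r) * b⁻¹ * (v * r)⁻¹ = b * v * b⁻¹ * (b * r) * b⁻¹ * r⁻¹ * v⁻¹ := by group
      _ = b * v * b⁻¹ * (r * b) * b⁻¹ * r⁻¹ * v⁻¹ := by rw [h1]
      _ = _ := by group
  rw [e]
  have hbS : b ∈ S := ((h.symm.cj_le_Q hk).trans h.hH.QS) hb
  have h2 : ⁅v, b⁆ ∈ DD S Q := commutator_mem_commutator hv hbS
  have e2 : b * v * b⁻¹ * v⁻¹ = ⁅v, b⁆⁻¹ := by rw [commutatorElement_def]; group
  rw [e2]
  exact inv_mem h2

omit [Finite X] in
theorem exk : ∃ k ∈ H, k ∉ N := h.hH.exM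

include hg hgM

theorem S_norm {s x : X} (hs : s ∈ S) (hx : x ∈ E0 Q P g) : s * x * s⁻¹ ∈ E0 Q P g := by
  obtain ⟨k, hk, hkN⟩ := exk h
  obtain ⟨b, hb, c, hc, rfl⟩ := decS h hk hkN hs
  have h1 := Q_norm h hg hgM hc hx
  set y := c * x * c⁻¹ with hy
  have h2 := comm_B h hk hkN hb (mem_E0.1 h1).2.1
  have h3 : DD S Q ≤ E0 Q P g := h.hG.DV.trans (cenQ_E0 h hg)
  have e : b * c * x * (b * c)⁻¹ = (b * y * b⁻¹ * y⁻¹) * y := by rw [hy]; group
  rw [e]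
  exact mul_mem (h3 h2) h1

theorem S_le_norm : S ≤ normalizer (E0 Q P g : Set X) := by
  apply le_normalizer_of_cj_le
  intro s hs x hx
  rw [mem_cj] at hx
  have := S_norm h hg hgM hs hx
  have e : s * (s⁻¹ * x * s) * s⁻¹ = x := by group
  rwa [e] at this

theorem E0_inv : cj g (E0 Q P g⁻¹) = E0 Q P g := by
  unfold E0
  rw [cj_inf, cj_inf, cj_cj_inv, h.hG.cjQ hg, inf_assoc, inf_comm (cj g P), ← inf_assoc]

theorem G_norm : G ≤ normalizer (E0 Q P g : Set X) := by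
  have h1 := S_le_norm h hg hgM
  have h2 := S_le_norm h (inv_mem hg) (PU.inv_notMem h.hG hgM)
  have h3 : cj g S ≤ normalizer (E0 Q P g : Set X) := by
    intro y hy
    rw [mem_cj] at hy
    have h4 := cj_eq_of_mem_normalizer (h2 hy)
    rw [← cj_mul, ← cj_mul] at h4
    have h5 := congrArg (cj g) h4
    rw [cj_mul, mul_inv_cancel, cj_one, E0_inv h hg hgM] at h5
    exact cj_eq_iff_mem_normalizer.1 h5
  rw [← h.hG.gen g hg hgM]
  exact sup_le h1 h3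

theorem cjE0 {x : X} (hx : x ∈ G) : cj x (E0 Q P g) = E0 Q P g :=
  cj_eq_of_mem_normalizer (G_norm h hg hgM hx)

/-- `E0` centralizes all `G`-conjugates of `V'` -/
theorem cm_cj_cenP {x : X} (hx : x ∈ G) : Cm (cj x (cen P)) (E0 Q P g) := by
  have := (cm_cenP_E0 h g).cj x
  rwa [cjE0 h hg hgM hx] at this

end

end Cfsg.Agent.H222.GNSix
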