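import Cfsg.Agent.H222.GNSix
import Cfsg.Agent.Transfer.ClassTwo
import Cfsg.Agent.Transfer.CentralComm

/-!
# Uniform Glauberman–Niles, section (6): the cases `p = 2` and `p = 3`
-/

set_option autoImplicit false
set_option linter.unusedSectionVars false

namespace Cfsg.Agent.H222.GNSix

open Subgroup
open Cfsg.Agent.H260.Push
open Cfsg.Agent.H259.GN
open scoped commutatorElement

variable {X : Type*} [Group X]

/-! ### The elementary abelian residual of a subgroup -/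

/-- commutators and `p`-th powers -/
def Ph (p : ℕ) (D : Subgroup X) : Subgroup X := ⁅D, D⁆ ⊔ closure {y | ∃ x ∈ D, y = x ^ p}

theorem Ph_le {p : ℕ} {D K : Subgroup X} :
    Ph p D ≤ K ↔ (∀ x ∈ D, ∀ y ∈ D, ⁅x, y⁆ ∈ K) ∧ ∀ x ∈ D, x ^ p ∈ K := by
  unfold Ph
  rw [sup_le_iff, commutator_le, closure_le]
  constructor
  · rintro ⟨h1, h2⟩
    exact ⟨h1, fun x hx => h2 ⟨x, hx, rfl⟩⟩
  · rintro ⟨h1, h2⟩
    refine ⟨h1, ?_⟩
    rintro _ ⟨x, hx, rfl⟩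
    exact h2 x hx

theorem comm_mem_Ph {p : ℕ} {D : Subgroup X} {x y : X} (hx : x ∈ D) (hy : y ∈ D) :
    ⁅x, y⁆ ∈ Ph p D := (Ph_le.1 le_rfl).1 x hx y hy

theorem pow_mem_Ph {p : ℕ} {D : Subgroup X} {x : X} (hx : x ∈ D) : x ^ p ∈ Ph p D :=
  (Ph_le.1 le_rfl).2 x hx

theorem Ph_mono {p : ℕ} {D E : Subgroup X} (h : D ≤ E) : Ph p D ≤ Ph p E :=
  Ph_le.2 ⟨fun _ hx _ hy => comm_mem_Ph (h hx) (h hy), fun _ hx => pow_mem_Ph (h hx)⟩

theorem Ph_le_self {p : ℕ} {D : Subgroup X} : Ph p D ≤ D :=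
  Ph_le.2 ⟨fun x hx y hy => by
    rw [commutatorElement_def]
    exact mul_mem (mul_mem (mul_mem hx hy) (inv_mem hx)) (inv_mem hy), fun _ hx => pow_mem hx _⟩

theorem cj_Ph_le {p : ℕ} {D : Subgroup X} (g : X) : cj g (Ph p D) ≤ Ph p (cj g D) := by
  intro x hx
  rw [mem_cj] at hx
  have h1 : Ph p D ≤ cj g⁻¹ (Ph p (cj g D)) := by
    rw [Ph_le]
    constructor
    · intro x hx y hy
      rw [mem_cj]
      have h2 := comm_mem_Ph (p := p) (conj_mem_cj (g := g) hx) (conj_mem_cj (g := g) hy)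
      have e : g⁻¹⁻¹ * ⁅x, y⁆ * g⁻¹ = ⁅g * x * g⁻¹, g * y * g⁻¹⁆ := by
        rw [commutatorElement_def, commutatorElement_def]; group
      rw [e]
      exact h2
    · intro x hx
      rw [mem_cj]
      have h2 := pow_mem_Ph (p := p) (conj_mem_cj (g := g) hx)
      have e : g⁻¹⁻¹ * x ^ p * g⁻¹ = (g * x * g⁻¹) ^ p := by
        rw [conj_pow]; group
      rw [e]
      exact h2
  have h2 := h1 hx
  rw [mem_cj] at h2
  have e : g⁻¹⁻¹ * (g⁻¹ * x * g) * g⁻¹ = x := by group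
  rwa [e] at h2

theorem Ph_normalizer {p : ℕ} {D : Subgroup X} {G : Subgroup X} (h : G ≤ normalizer (D : Set X)) :
    G ≤ normalizer (Ph p D : Set X) := by
  intro g hg
  have key : ∀ g ∈ G, cj g (Ph p D) ≤ Ph p D := by
    intro g hg
    have := cj_Ph_le (p := p) (D := D) g
    rwa [cj_eq_of_mem_normalizer (h hg)] at this
  rw [← cj_eq_iff_mem_normalizer]
  apply le_antisymm (key g hg)
  have h2 := cj_mono (g := g) (key g⁻¹ (inv_mem hg))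
  rwa [cj_cj_inv] at h2

/-- the join of two commuting subgroups -/
theorem mem_sup_cm {C D : Subgroup X} (h : Cm C D) {x : X} (hx : x ∈ C ⊔ D) :
    ∃ c ∈ C, ∃ d ∈ D, c * d = x := by
  apply mul_of_sup _ x hx
  intro c hc
  rw [← cj_eq_iff_mem_normalizer]
  apply le_antisymm
  · intro y hy
    rw [mem_cj] at hy
    have h1 := h c hc _ hy
    have e : y = c * (c⁻¹ * y * c) * c⁻¹ := by group
    rw [h1] at e
    rw [e]
    have e2 : c⁻¹ * y * c * c * c⁻¹ = c⁻¹ * y * c := by group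
    rw [e2]
    exact hy
  · intro y hy
    rw [mem_cj]
    have h1 := h c hc y hy
    have e : c⁻¹ * y * c = y := by rw [mul_assoc, ← h1]; group
    rw [e]
    exact hy

theorem comm_mul_cm {C D : Subgroup X} (h : Cm C D) {c c' d d' : X} (hc : c ∈ C) (hc' : c' ∈ C)
    (hd : d ∈ D) (hd' : d' ∈ D) : ⁅c * d, c' * d'⁆ = ⁅c, c'⁆ * ⁅d, d'⁆ := by
  have h1 : d * c' = c' * d := (h c' hc' d hd).symm
  have h2 : d' * c⁻¹ = c⁻¹ * d' := (h c⁻¹ (inv_mem hc) d' hd').symm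
  have h3 : d * c⁻¹ = c⁻¹ * d := (h c⁻¹ (inv_mem hc) d hd).symm
  have h4 : ⁅d, d'⁆ * c'⁻¹ = c'⁻¹ * ⁅d, d'⁆ := by
    refine (h c'⁻¹ (inv_mem hc') _ ?_).symm
    rw [commutatorElement_def]
    exact mul_mem (mul_mem (mul_mem hd hd') (inv_mem hd)) (inv_mem hd')
  rw [commutatorElement_def, commutatorElement_def c c']
  calc c * d * (c' * d') * (c * d)⁻¹ * (c' * d')⁻¹
      = c * (d * c') * d' * d⁻¹ * c⁻¹ * d'⁻¹ * c'⁻¹ := by group
    _ = c * c' * (d * d' * d⁻¹ * c⁻¹ * d'⁻¹) * c'⁻¹ := by rw [h1]; group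
    _ = c * c' * (c⁻¹ * (d * d' * d⁻¹ * d'⁻¹)) * c'⁻¹ := by
        have e : d * d' * d⁻¹ * c⁻¹ * d'⁻¹ = c⁻¹ * (d * d' * d⁻¹ * d'⁻¹) := by
          have a1 : d⁻¹ * c⁻¹ = c⁻¹ * d⁻¹ := (h c⁻¹ (inv_mem hc) d⁻¹ (inv_mem hd)).symm
          have a2 : d' * (c⁻¹ * d⁻¹) = c⁻¹ * (d' * d⁻¹) := by rw [← mul_assoc, h2, mul_assoc]
          calc d * d' * d⁻¹ * c⁻¹ * d'⁻¹ = d * (d' * (d⁻¹ * c⁻¹)) * d'⁻¹ := by group
            _ = d * (c⁻¹ * (d' * d⁻¹)) * d'⁻¹ := by rw [a1, a2]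
            _ = (d * c⁻¹) * d' * d⁻¹ * d'⁻¹ := by group
            _ = _ := by rw [h3]; group
        rw [e]
    _ = c * c' * c⁻¹ * (⁅d, d'⁆ * c'⁻¹) := by rw [commutatorElement_def]; group
    _ = c * c' * c⁻¹ * c'⁻¹ * ⁅d, d'⁆ := by rw [h4]; group

theorem Ph_sup_le {p : ℕ} {C D : Subgroup X} (h : Cm C D) : Ph p (C ⊔ D) ≤ Ph p C ⊔ Ph p D := by
  rw [Ph_le]
  constructor
  · intro x hx y hy
    obtain ⟨c, hc, d, hd, rfl⟩ := mem_sup_cm h hx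
    obtain ⟨c', hc', d', hd', rfl⟩ := mem_sup_cm h hy
    rw [comm_mul_cm h hc hc' hd hd']
    exact mul_mem (mem_sup_left (comm_mem_Ph hc hc')) (mem_sup_right (comm_mem_Ph hd hd'))
  · intro x hx
    obtain ⟨c, hc, d, hd, rfl⟩ := mem_sup_cm h hx
    have h1 : Commute c d := h c hc d hd
    rw [h1.mul_pow]
    exact mul_mem (mem_sup_left (pow_mem_Ph hc)) (mem_sup_right (pow_mem_Ph hd))

theorem Ph_eq_bot {p : ℕ} {C : Subgroup X} (h : Cm C C) (hp : ∀ x ∈ C, x ^ p = 1) :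
    Ph p C = ⊥ := by
  rw [eq_bot_iff, Ph_le]
  constructor
  · intro x hx y hy
    rw [mem_bot, commutatorElement_def, h x hx y hy]; group
  · intro x hx
    rw [mem_bot]
    exact hp x hx

/-- commutators in a closure -/
theorem comm_closure {T : Set X} {Z G : Subgroup X} (hT : T ⊆ G)
    (hZ : ∀ z ∈ Z, ∀ x ∈ G, x * z = z * x) (hc : ∀ a ∈ T, ∀ b ∈ T, ⁅a, b⁆ ∈ Z) :
    ∀ a ∈ closure T, ∀ b ∈ closure T, ⁅a, b⁆ ∈ Z := by
  have hG : closure T ≤ G := (closure_le G).2 hT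
  have mulL : ∀ {a a' b : X}, a ∈ G → ⁅a, b⁆ ∈ Z → ⁅a', b⁆ ∈ Z → ⁅a * a', b⁆ ∈ Z := by
    intro a a' b ha h1 h2
    have e : ⁅a * a', b⁆ = (a * ⁅a', b⁆ * a⁻¹) * ⁅a, b⁆ := by
      simp only [commutatorElement_def]; group
    rw [e, hZ _ h2 a ha]
    have e2 : ⁅a', b⁆ * a * a⁻¹ * ⁅a, b⁆ = ⁅a', b⁆ * ⁅a, b⁆ := by group
    rw [e2]
    exact mul_mem h2 h1
  have invL : ∀ {a b : X}, a ∈ G → ⁅a, b⁆ ∈ Z → ⁅a⁻¹, b⁆ ∈ Z := by
    intro a b ha h1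
    have e : ⁅a⁻¹, b⁆ = a⁻¹ * (⁅a, b⁆⁻¹ * a) := by
      simp only [commutatorElement_def]; group
    rw [e, ← hZ _ (inv_mem h1) a ha]
    have e2 : a⁻¹ * (a * ⁅a, b⁆⁻¹) = ⁅a, b⁆⁻¹ := by group
    rw [e2]
    exact inv_mem h1
  have step : ∀ b, (∀ a ∈ T, ⁅a, b⁆ ∈ Z) → ∀ a ∈ closure T, ⁅a, b⁆ ∈ Z := by
    intro b hb a ha
    have : a ∈ G ∧ ⁅a, b⁆ ∈ Z := by
      induction ha using closure_induction with
      | mem x hx => exact ⟨hT hx, hb x hx⟩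
      | one => exact ⟨one_mem _, by rw [commutatorElement_one_left]; exact one_mem _⟩
      | mul x y _ _ hx hy => exact ⟨mul_mem hx.1 hy.1, mulL hx.1 hx.2 hy.2⟩
      | inv x _ hx => exact ⟨inv_mem hx.1, invL hx.1 hx.2⟩
    exact this.2
  intro a ha b hb
  apply step b _ a ha
  intro a ha
  have h1 : ⁅b, a⁆ ∈ Z := step a (fun b hb => hc b hb a ha) b hb
  rw [← commutatorElement_inv]
  exact inv_mem h1

/-- exponent `p` in class two, `p` odd -/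
theorem pow_closure {p : ℕ} (hp : p.Prime) (hp2 : p ≠ 2) {T : Set X} {Z G : Subgroup X}
    (hT : T ⊆ G) (hZ : ∀ z ∈ Z, ∀ x ∈ G, x * z = z * x) (hZp : ∀ z ∈ Z, z ^ p = 1)
    (hc : ∀ a ∈ T, ∀ b ∈ T, ⁅a, b⁆ ∈ Z) (hTp : ∀ a ∈ T, a ^ p = 1) :
    ∀ a ∈ closure T, a ^ p = 1 := by
  have hG : closure T ≤ G := (closure_le G).2 hT
  have hcc := comm_closure hT hZ hc
  intro a ha
  induction ha using closure_induction with
  | mem x hx => exact hTp x hx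
  | one => exact one_pow _
  | mul x y hx hy h1 h2 =>
    have h3 := hcc y hy x hx
    rw [Cfsg.Agent.Transfer.ClassTwo.mul_pow_eq (hZ _ h3 x (hG hx)) (hZ _ h3 y (hG hy)), h1, h2]
    obtain ⟨m, hm⟩ := Cfsg.Agent.Transfer.CentralComm.dvd_choose_two hp hp2
    rw [hm, pow_mul, hZp _ h3, one_pow, one_mul, one_mul]
  | inv x _ h1 => rw [inv_pow, h1, inv_one]

end Cfsg.Agent.H222.GNSix
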