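import Cfsg.Agent.H222.GNSix2

/-!
# Uniform Glauberman–Niles, section (6): the cases `p = 2` and `p = 3`, continued
-/

set_option autoImplicit false
set_option linter.unusedSectionVars false

namespace Cfsg.Agent.H222.GNSix

open Subgroup
open Cfsg.Agent.H260.Push
open Cfsg.Agent.H259.GN
open scoped commutatorElement

variable {X : Type*} [Group X]

theorem conj_mem_of_normalizer {Y : Subgroup X} {a y : X} (ha : a ∈ normalizer (Y : Set X))
    (hy : y ∈ Y) : a * y * a⁻¹ ∈ Y := (mem_normalizer_iff.1 ha y).1 hy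

/-- commutators in a closure modulo a normalized subgroup -/
theorem comm_closure' {T : Set X} {Z G : Subgroup X} (hT : T ⊆ G)
    (hZ : G ≤ normalizer (Z : Set X)) (hc : ∀ a ∈ T, ∀ b ∈ T, ⁅a, b⁆ ∈ Z) :
    ∀ a ∈ closure T, ∀ b ∈ closure T, ⁅a, b⁆ ∈ Z := by
  have hG : closure T ≤ G := (closure_le G).2 hT
  have mulL : ∀ {a a' b : X}, a ∈ G → ⁅a, b⁆ ∈ Z → ⁅a', b⁆ ∈ Z → ⁅a * a', b⁆ ∈ Z := by
    intro a a' b ha h1 h2
    have e : ⁅a * a', b⁆ = (a * ⁅a', b⁆ * a⁻¹) * ⁅a, b⁆ := by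
      simp only [commutatorElement_def]; group
    rw [e]
    exact mul_mem (conj_mem_of_normalizer (hZ ha) h2) h1
  have invL : ∀ {a b : X}, a ∈ G → ⁅a, b⁆ ∈ Z → ⁅a⁻¹, b⁆ ∈ Z := by
    intro a b ha h1
    have e : ⁅a⁻¹, b⁆ = a⁻¹ * ⁅a, b⁆⁻¹ * a⁻¹⁻¹ := by
      simp only [commutatorElement_def]; group
    rw [e]
    exact conj_mem_of_normalizer (hZ (inv_mem ha)) (inv_mem h1)
  have step : ∀ b, (∀ a ∈ T, ⁅a, b⁆ ∈ Z) → ∀ a ∈ closure T, ⁅a, b⁆ ∈ Z := by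
    intro b hb a ha
    have : a ∈ G ∧ ⁅a, b⁆ ∈ Z := by
      induction ha using closure_induction with
      | mem x hx => exact ⟨hT hx, hb x hx⟩
      | one => exact ⟨one_mem _, by rw [commutatorElement_one_left]; exact one_mem _⟩
      | mul x y _ _ hx hy => exact ⟨mul_mem hx.1 hy.1, mulL hx.1 hx.2 hy.2⟩
      | inv x _ hx => exact ⟨inv_mem hx.1, invL hx.1 hx.2⟩
    exact this.2
  intro a ha b hb
  apply step b _ a ha
  intro a ha
  have h1 : ⁅b, a⁆ ∈ Z := step a (fun b hb => hc b hb a ha) b hb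
  rw [← commutatorElement_inv]
  exact inv_mem h1

theorem pow_mem_of_comm {Y : Subgroup X} {x y : X} (hx : x ∈ normalizer (Y : Set X))
    (hy : y ∈ normalizer (Y : Set X)) (hc : ⁅x, y⁆ ∈ Y) {n : ℕ} (hxn : x ^ n ∈ Y)
    (hyn : y ^ n ∈ Y) : (x * y) ^ n ∈ Y := by
  set N := normalizer (Y : Set X) with hN
  let π := QuotientGroup.mk' (Y.subgroupOf N)
  have key : ∀ z : N, π z = 1 ↔ (z : X) ∈ Y := by
    intro z
    rw [QuotientGroup.mk'_apply, QuotientGroup.eq_one_iff, mem_subgroupOf]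
  let x' : N := ⟨x, hx⟩
  let y' : N := ⟨y, hy⟩
  have h1 : π ⁅x', y'⁆ = 1 := by
    rw [key]
    exact hc
  rw [map_commutatorElement, commutatorElement_eq_one_iff_commute] at h1
  have h2 : π ((x' * y') ^ n) = 1 := by
    rw [map_pow, map_mul, h1.mul_pow, ← map_pow, ← map_pow, (key (x' ^ n)).2 hxn,
      (key (y' ^ n)).2 hyn, one_mul]
  exact (key ((x' * y') ^ n)).1 h2

/-- commutators of a join with a normalized second factor -/
theorem comm_sup_le {A B C K : Subgroup X} (hAB : A ≤ normalizer (B : Set X))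
    (hAK : A ≤ normalizer (K : Set X)) (h1 : ⁅A, C⁆ ≤ K) (h2 : ⁅B, C⁆ ≤ K) : ⁅A ⊔ B, C⁆ ≤ K := by
  rw [commutator_le] at *
  intro x hx c hc
  obtain ⟨a, ha, b, hb, rfl⟩ := mul_of_sup hAB x hx
  have e : ⁅a * b, c⁆ = (a * ⁅b, c⁆ * a⁻¹) * ⁅a, c⁆ := by
    simp only [commutatorElement_def]; group
  rw [e]
  exact mul_mem (conj_mem_of_normalizer (hAK ha) (h2 b hb c hc)) (h1 a ha c hc)

/-- the normal closure of `Z(P)` in `G` -/
def Wn (G P : Subgroup X) : Subgroup X := closure {y | ∃ x ∈ G, y ∈ cj x (cen P)}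

theorem cen_le_Wn (G P : Subgroup X) : cen P ≤ Wn G P := fun x hx =>
  Subgroup.subset_closure ⟨1, one_mem _, by rwa [cj_one]⟩

theorem cj_le_Wn {G P : Subgroup X} {g : X} (hg : g ∈ G) : cj g (cen P) ≤ Wn G P := fun _ hx =>
  Subgroup.subset_closure ⟨g, hg, hx⟩

theorem Wn_norm (G P : Subgroup X) : G ≤ normalizer (Wn G P : Set X) := by
  have key : ∀ g ∈ G, cj g (Wn G P) ≤ Wn G P := by
    intro g hg x hx
    rw [mem_cj] at hx
    have h1 : Wn G P ≤ cj g⁻¹ (Wn G P) := by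
      unfold Wn
      rw [closure_le]
      rintro y ⟨x, hx, hy⟩
      rw [SetLike.mem_coe, mem_cj]
      apply Subgroup.subset_closure
      refine ⟨g * x, mul_mem hg hx, ?_⟩
      rw [mem_cj] at hy ⊢
      have e : (g * x)⁻¹ * (g⁻¹⁻¹ * y * g⁻¹) * (g * x) = x⁻¹ * y * x := by group
      rwa [e]
    have h2 := h1 hx
    rw [mem_cj] at h2
    have e : g⁻¹⁻¹ * (g⁻¹ * x * g) * g⁻¹ = x := by group
    rwa [e] at h2
  intro g hg
  rw [← cj_eq_iff_mem_normalizer]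
  apply le_antisymm (key g hg)
  have h2 := cj_mono (g := g) (key g⁻¹ (inv_mem hg))
  rwa [cj_cj_inv] at h2

variable {S G M Q H N P : Subgroup X} {q : ℕ}

section

variable (h : Pair S G M Q H N P q) [Finite X]
include h

omit [Finite X] in
theorem Wn_le_Q : Wn G P ≤ Q := by
  unfold Wn
  rw [closure_le]
  rintro y ⟨x, hx, hy⟩
  exact h.cj_le_Q hx hy

theorem Wn_comm : ∀ a ∈ Wn G P, ∀ b ∈ Wn G P, ⁅a, b⁆ ∈ DD S P := by
  apply comm_closure (G := G)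
  · rintro y ⟨x, hx, hy⟩
    exact h.hG.QG (h.cj_le_Q hx hy)
  · intro z hz x hx
    exact cen_comm (h.DH hz) hx
  · rintro a ⟨x, hx, ha⟩ b ⟨x', hx', hb⟩
    exact h.comm_le hx hx' (commutator_mem_commutator ha hb)

theorem Wn_pow {p : ℕ} (hp : p.Prime) (hp2 : p ≠ 2) (hV : ∀ x ∈ cen P, x ^ p = 1) :
    ∀ a ∈ Wn G P, a ^ p = 1 := by
  apply pow_closure hp hp2 (G := G) (Z := DD S P)
  · rintro y ⟨x, hx, hy⟩
    exact h.hG.QG (h.cj_le_Q hx hy)
  · intro z hz x hx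
    exact cen_comm (h.DH hz) hx
  · intro z hz
    exact hV z (h.hH.DV hz)
  · rintro a ⟨x, hx, ha⟩ b ⟨x', hx', hb⟩
    exact h.comm_le hx hx' (commutator_mem_commutator ha hb)
  · rintro a ⟨x, hx, ha⟩
    rw [mem_cj] at ha
    have h1 := hV _ ha
    have e : (x⁻¹ * a * x) ^ p = x⁻¹ * a ^ p * x := by
      have := conj_pow (a := x⁻¹) (b := a) (i := p)
      rwa [inv_inv] at this
    rw [e] at h1
    have h2 : x * (x⁻¹ * a ^ p * x) * x⁻¹ = 1 := by rw [h1]; group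
    have e2 : x * (x⁻¹ * a ^ p * x) * x⁻¹ = a ^ p := by group
    rwa [e2] at h2

end

section

variable (h : Pair S G M Q H N P q) [Finite X] {g k : X} (hg : g ∈ G) (hgM : g ∉ M)
  (hk : k ∈ H) (hkN : k ∉ N)
include h

include hg hgM in
theorem cm_Wn_E0 : Cm (Wn G P) (E0 Q P g) := by
  rw [cm_iff]
  unfold Wn
  rw [closure_le]
  rintro y ⟨x, hx, hy⟩
  exact cm_iff.1 (cm_cj_cenP h hg hgM hx) hy

include hk hkN in
theorem cap {z : X} (hz : z ∈ cen Q) (hz' : z ∈ cj k Q) : z ∈ cen S := by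
  have h1 := h.symm.inf (inv_mem hk) (h.ncH _ (inv_mem hk) (PU.inv_notMem h.hH hkN))
  have h2 := congrArg (cj k) h1
  rw [cj_inf, cj_cj_inv, cj_cj_inv] at h2
  rw [← h2]
  exact ⟨hz, hz'⟩

include hg hk hkN

theorem dec4 {x : X} (hx : x ∈ E0 Q P g) : ∃ v ∈ cen Q, ∃ d ∈ DG Q P g k, v * d = x := by
  have hx' := mem_E0.1 hx
  obtain ⟨v, hv, r, hr, rfl⟩ := dec1 h.symm hk hkN hx'.2.1 hx'.1
  refine ⟨v, hv, r, ?_, rfl⟩
  rw [mem_DG']
  refine ⟨?_, hr⟩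
  have e : r = v⁻¹ * (v * r) := by group
  rw [e]
  exact mul_mem (inv_mem (cenQ_E0 h hg hv)) hx

include hgM

theorem dec5 {s : X} (hs : s ∈ S) : ∃ b ∈ cj k (cen Q), ∃ a ∈ cj g (cen P), ∃ v ∈ cen P,
    ∃ w ∈ cen Q, ∃ d ∈ DG Q P g k, b * a * v * w * d = s := by
  obtain ⟨b, hb, c, hc, rfl⟩ := decS h hk hkN hs
  obtain ⟨a, ha, v, hv, r, hr, rfl⟩ := dec3 h hg hgM hc
  obtain ⟨w, hw, d, hd, rfl⟩ := dec4 h hg hk hkN hr
  exact ⟨b, hb, a, ha, v, hv, w, hw, d, hd, by group⟩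

omit hg hgM hk hkN [Finite X] in
theorem DG_le_E0 : DG Q P g k ≤ E0 Q P g := fun _ hx => (mem_DG.1 hx).1

omit hg hgM hk hkN [Finite X] in
theorem cm_cenQ_DG : Cm (cen Q) (DG Q P g k) := by
  rw [DG_symm]
  exact (cm_cenP_E0 h.symm k).mono le_rfl (DG_le_E0 h.symm)

omit hg hgM hk hkN [Finite X] in
theorem cm_cenP_DG : Cm (cen P) (DG Q P g k) :=
  (cm_cenP_E0 h g).mono le_rfl (DG_le_E0 h)

theorem cm_Wn_DG : Cm (Wn G P) (DG Q P g k) :=
  (cm_Wn_E0 h hg hgM).mono le_rfl (DG_le_E0 h)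

theorem cm_Wn_DG' : Cm (Wn H Q) (DG Q P g k) := by
  rw [DG_symm]
  exact cm_Wn_DG h.symm hk hkN hg hgM

theorem DG_cen {z : X} (hz : z ∈ DG Q P g k) (hzd : ∀ d ∈ DG Q P g k, d * z = z * d) :
    z ∈ cen S := by
  rw [mem_cen]
  refine ⟨h.hG.QS (mem_E0.1 (mem_DG.1 hz).1).1, ?_⟩
  intro s hs
  obtain ⟨b, hb, a, ha, v, hv, w, hw, d, hd, rfl⟩ := dec5 h hg hgM hk hkN hs
  have h1 : b * z = z * b := cm_Wn_DG' h hg hgM hk hkN b (cj_le_Wn hk hb) z hz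
  have h2 : a * z = z * a := cm_Wn_DG h hg hgM hk hkN a (cj_le_Wn hg ha) z hz
  have h3 : v * z = z * v := cm_cenP_DG h v hv z hz
  have h4 : w * z = z * w := cm_cenQ_DG h w hw z hz
  have h5 := hzd d hd
  have c : Commute (b * a * v * w * d) z :=
    Commute.mul_left (Commute.mul_left (Commute.mul_left (Commute.mul_left h1 h2) h3) h4) h5
  exact c

/-- `W ⊓ W' ≤ V V'` -/
theorem Wn_inf : Wn G P ⊓ Wn H Q ≤ cen Q ⊔ cen P := by
  rintro y ⟨hy1, hy2⟩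
  obtain ⟨v, hv, r, hr, rfl⟩ := dec1 h hg hgM (Wn_le_Q h hy1) (Wn_le_Q h.symm hy2)
  obtain ⟨w, hw, d, hd, rfl⟩ := dec4 h hg hk hkN hr
  have h1 : d ∈ cen S := by
    apply DG_cen h hg hgM hk hkN hd
    intro d' hd'
    have h2 : Commute (v * (w * d)) d' := cm_Wn_DG h hg hgM hk hkN _ hy1 d' hd'
    have h3 : Commute v d' := cm_cenP_DG h v hv d' hd'
    have h4 : Commute w d' := cm_cenQ_DG h w hw d' hd'
    have h5 : Commute (w⁻¹ * v⁻¹ * (v * (w * d))) d' := ((h4.inv_left).mul_left h3.inv_left).mul_left h2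
    have e : w⁻¹ * v⁻¹ * (v * (w * d)) = d := by group
    rw [e] at h5
    exact h5.symm
  exact mul_mem (mem_sup_right hv) (mul_mem (mem_sup_left hw) (mem_sup_left (h.hG.ZV h1)))

theorem S_norm_Y : S ≤ normalizer ((cen Q ⊔ cen P : Subgroup X) : Set X) := fun _ hs =>
  mem_normalizer_sup' (h.hG.SVn hs) (h.hH.SVn hs)

theorem Wn_comm_Y : ∀ a ∈ Wn G P ⊔ Wn H Q, ∀ b ∈ Wn G P ⊔ Wn H Q, ⁅a, b⁆ ∈ cen Q ⊔ cen P := by
  have hWS : Wn G P ≤ S := (Wn_le_Q h).trans h.hG.QS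
  have hWS' : Wn H Q ≤ S := (Wn_le_Q h.symm).trans h.hH.QS
  have hmix : ∀ a ∈ Wn G P, ∀ b ∈ Wn H Q, ⁅a, b⁆ ∈ cen Q ⊔ cen P := by
    intro a ha b hb
    refine Wn_inf h hg hgM hk hkN (mem_inf.2 ⟨?_, ?_⟩)
    · have h1 := conj_mem_of_normalizer (Wn_norm G P (h.hG.SG (hWS' hb))) (inv_mem ha)
      have e : ⁅a, b⁆ = a * (b * a⁻¹ * b⁻¹) := by rw [commutatorElement_def]; group
      rw [e]
      exact mul_mem ha h1
    · have h1 := conj_mem_of_normalizer (Wn_norm H Q (h.hH.SG (hWS ha))) hb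
      have e : ⁅a, b⁆ = (a * b * a⁻¹) * b⁻¹ := by rw [commutatorElement_def]
      rw [e]
      exact mul_mem h1 (inv_mem hb)
  rw [Subgroup.sup_eq_closure (Wn G P) (Wn H Q)]
  apply comm_closure' (G := S)
  · rintro x (hx | hx)
    · exact hWS hx
    · exact hWS' hx
  · exact S_norm_Y h hg hgM hk hkN
  · rintro a (ha | ha) b (hb | hb)
    · exact mem_sup_right (h.hH.DV (Wn_comm h a ha b hb))
    · exact hmix a ha b hb
    · rw [← commutatorElement_inv]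
      exact inv_mem (hmix b hb a ha)
    · exact mem_sup_left (h.hG.DV (Wn_comm h.symm a ha b hb))

omit hgM in
theorem Ph_E0_le {p : ℕ} (hV : ∀ x ∈ cen Q, x ^ p = 1) :
    Ph p (E0 Q P g) ≤ Ph p (DG Q P g k) := by
  have h1 : E0 Q P g ≤ cen Q ⊔ DG Q P g k := by
    intro x hx
    obtain ⟨w, hw, d, hd, rfl⟩ := dec4 h hg hk hkN hx
    exact mul_mem (mem_sup_left hw) (mem_sup_right hd)
  refine (Ph_mono h1).trans ((Ph_sup_le (cm_cenQ_DG h)).trans ?_)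
  rw [Ph_eq_bot (h.hG.cm_VQ.mono le_rfl (cen_le Q)) hV, bot_sup_eq]

/-- `Φ(D)` is normal in `G` -/
theorem Ph_norm {p : ℕ} (hV : ∀ x ∈ cen Q, x ^ p = 1) :
    G ≤ normalizer (Ph p (DG Q P g k) : Set X) := by
  have h1 : Ph p (DG Q P g k) = Ph p (E0 Q P g) :=
    le_antisymm (Ph_mono (DG_le_E0 h)) (Ph_E0_le h hg hk hkN hV)
  rw [h1]
  exact Ph_normalizer (G_norm h hg hgM)

/-- `Φ(D) ⊓ Z(S)` is central in `G` -/
theorem Ph_inf {p : ℕ} (hV : ∀ x ∈ cen Q, x ^ p = 1) :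
    Ph p (DG Q P g k) ⊓ cen S ≤ cen G := by
  have h1 : Ph p (DG Q P g k) ⊓ cen Q ≤ cen G := by
    apply h.hG.le_cenG
    · rintro x ⟨hx1, hx2⟩
      exact cap h hk hkN hx2 (mem_DG.1 (Ph_le_self hx1)).2
    · intro x hx
      rw [← cj_eq_iff_mem_normalizer, cj_inf, h.hG.cjV hx,
        cj_eq_of_mem_normalizer (Ph_norm h hg hgM hk hkN hV hx)]
  exact (inf_le_inf_left _ h.hG.ZV).trans h1

/-- `Φ(S) ≤ V V' Φ(D)` -/
theorem Ph_S {p : ℕ} (hp : p.Prime) (hp2 : p ≠ 2) (hV : ∀ x ∈ cen Q, x ^ p = 1)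
    (hV' : ∀ x ∈ cen P, x ^ p = 1) : Ph p S ≤ (cen Q ⊔ cen P) ⊔ Ph p (DG Q P g k) := by
  have h1 : S ≤ (Wn G P ⊔ Wn H Q) ⊔ DG Q P g k := by
    intro s hs
    obtain ⟨b, hb, a, ha, v, hv, w, hw, d, hd, rfl⟩ := dec5 h hg hgM hk hkN hs
    have a1 : b ∈ Wn G P ⊔ Wn H Q := mem_sup_right (cj_le_Wn hk hb)
    have a2 : a ∈ Wn G P ⊔ Wn H Q := mem_sup_left (cj_le_Wn hg ha)
    have a3 : v ∈ Wn G P ⊔ Wn H Q := mem_sup_left (cen_le_Wn G P hv)
    have a4 : w ∈ Wn G P ⊔ Wn H Q := mem_sup_right (cen_le_Wn H Q hw)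
    exact mul_mem (mem_sup_left (mul_mem (mul_mem (mul_mem a1 a2) a3) a4)) (mem_sup_right hd)
  have h2 : Cm (Wn G P ⊔ Wn H Q) (DG Q P g k) :=
    (cm_Wn_DG h hg hgM hk hkN).sup_left (cm_Wn_DG' h hg hgM hk hkN)
  refine (Ph_mono h1).trans ((Ph_sup_le h2).trans (sup_le_sup_right ?_ _))
  have hcY := Wn_comm_Y h hg hgM hk hkN
  rw [Ph_le]
  refine ⟨hcY, ?_⟩
  have hWS : Wn G P ≤ S := (Wn_le_Q h).trans h.hG.QS
  have hWS' : Wn H Q ≤ S := (Wn_le_Q h.symm).trans h.hH.QS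
  intro x hx
  have hx' : ∃ a ∈ Wn G P, ∃ b ∈ Wn H Q, a * b = x :=
    mul_of_sup (hWS.trans (h.hH.SG.trans (Wn_norm H Q))) x hx
  obtain ⟨a, ha, b, hb, rfl⟩ := hx'
  apply pow_mem_of_comm (S_norm_Y h hg hgM hk hkN (hWS ha)) (S_norm_Y h hg hgM hk hkN (hWS' hb))
  · exact hcY a (mem_sup_left ha) b (mem_sup_right hb)
  · rw [Wn_pow h hp hp2 hV' a ha]
    exact one_mem _
  · rw [Wn_pow h.symm hp hp2 hV b hb]
    exact one_mem _

end

section

variable (h : Pair S G M Q H N P q) [Finite X] {g k : X} (hg : g ∈ G) (hgM : g ∉ M)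
  (hk : k ∈ H) (hkN : k ∉ N)
include h hg hgM hk hkN

/-- `p = 3`: `[Φ(S), S, S] Φ(Φ(S)) ≤ Φ(D)` -/
theorem S0_three {p : ℕ} (hp : p.Prime) (hp2 : p ≠ 2) (hV : ∀ x ∈ cen Q, x ^ p = 1)
    (hV' : ∀ x ∈ cen P, x ^ p = 1) :
    ⁅⁅Ph p S, S⁆, S⁆ ⊔ Ph p (Ph p S) ≤ Ph p (DG Q P g k) := by
  have h0 := Ph_S h hg hgM hk hkN hp hp2 hV hV'
  set D := DG Q P g k with hD
  have hDS : D ≤ S := fun x hx => h.hG.QS (mem_E0.1 (mem_DG.1 hx).1).1
  have hPS : Ph p D ≤ S := Ph_le_self.trans hDS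
  have hSP : S ≤ normalizer (Ph p D : Set X) :=
    h.hG.SG.trans (Ph_norm h hg hgM hk hkN hV)
  have hPDS : ⁅Ph p D, S⁆ ≤ Ph p D := by
    rw [commutator_le]
    intro x hx s hs
    have h1 := conj_mem_of_normalizer (hSP hs) (inv_mem hx)
    have e : ⁅x, s⁆ = x * (s * x⁻¹ * s⁻¹) := by rw [commutatorElement_def]; group
    rw [e]
    exact mul_mem hx h1
  have hZS : S ≤ normalizer (cen S : Set X) := by
    intro s hs
    rw [← cj_eq_iff_mem_normalizer, cj_cen, cj_eq_self hs]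
  have hZP : S ≤ normalizer ((cen S ⊔ Ph p D : Subgroup X) : Set X) := fun s hs =>
    mem_normalizer_sup' (hZS hs) (hSP hs)
  have hYS : cen Q ⊔ cen P ≤ S := sup_le h.hG.VS h.hH.VS
  have h1 : ⁅Ph p S, S⁆ ≤ cen S ⊔ Ph p D := by
    refine (commutator_mono h0 le_rfl).trans ?_
    apply comm_sup_le (hYS.trans hSP) (hYS.trans hZP)
    · apply comm_sup_le (h.hG.VS.trans h.hH.SVn) (h.hG.VS.trans hZP)
      · exact h.hG.DZ.trans le_sup_left
      · exact h.hH.DZ.trans le_sup_left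
    · exact hPDS.trans le_sup_right
  apply sup_le
  · refine (commutator_mono h1 le_rfl).trans ?_
    apply comm_sup_le ((cen_le S).trans hSP) ((cen_le S).trans hSP) _ hPDS
    rw [commutator_le]
    intro x hx s hs
    have h2 : s * x = x * s := cen_comm hx hs
    have e : ⁅x, s⁆ = 1 := by
      rw [commutatorElement_def, ← h2]; group
    rw [e]
    exact one_mem _
  · refine (Ph_mono h0).trans ?_
    have hc : Cm (cen Q ⊔ cen P) (Ph p D) :=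
      ((cm_cenQ_DG h).sup_left (cm_cenP_DG h)).mono le_rfl Ph_le_self
    refine (Ph_sup_le hc).trans (sup_le ?_ Ph_le_self)
    have hc' : Cm (cen Q) (cen P) := h.comm
    refine (Ph_sup_le hc').trans ?_
    rw [Ph_eq_bot (h.hG.cm_VQ.mono le_rfl (cen_le Q)) hV,
      Ph_eq_bot (h.hH.cm_VQ.mono le_rfl (cen_le P)) hV', bot_sup_eq]
    exact bot_le

/-- section (6) for `p = 3` -/
theorem three {p : ℕ} (hp : p.Prime) (hp2 : p ≠ 2) (hV : ∀ x ∈ cen Q, x ^ p = 1)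
    (hV' : ∀ x ∈ cen P, x ^ p = 1) :
    (⁅⁅Ph p S, S⁆, S⁆ ⊔ Ph p (Ph p S)) ⊓ cen S ≤ cen G :=
  (inf_le_inf_right _ (S0_three h hg hgM hk hkN hp hp2 hV hV')).trans
    (Ph_inf h hg hgM hk hkN hV)

end

section two

variable (h : Pair S G M Q H N P q) [Finite X] {g k : X} (hg : g ∈ G) (hgM : g ∉ M)
  (hk : k ∈ H) (hkN : k ∉ N)
include h

include hg hgM in
/-- commutators of `Q` with `V'^g` -/
theorem comm_A {a x : X} (ha : a ∈ cj g (cen P)) (hx : x ∈ Q) :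
    a * x * a⁻¹ * x⁻¹ ∈ DD S P := comm_B h.symm hg hgM ha hx

include hg hgM hk hkN

/-- section (6) for `p = 2` -/
theorem two (hq : 1 < q) (hV : ∀ x ∈ cen Q, x ^ 2 = 1) (hV' : ∀ x ∈ cen P, x ^ 2 = 1) : False := by
  -- a noncentral element of `cj g (cen P)`
  have ex : ∀ {S G M Q : Subgroup X}, PU S G M Q q → ∃ v ∈ cen Q, v ∉ cen S := by
    intro S G M Q hu
    by_contra hcon
    push Not at hcon
    have h1 := hu.cardV
    rw [le_antisymm hcon hu.ZV] at h1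
    have h2 : 0 < Nat.card (cen S) := Nat.card_pos
    nlinarith
  obtain ⟨v, hv, hvZ⟩ := ex h.hH
  obtain ⟨w, hw, hwZ⟩ := ex h.hG
  obtain ⟨a, ha⟩ : ∃ a, a = g * v * g⁻¹ := ⟨_, rfl⟩
  obtain ⟨b, hb⟩ : ∃ b, b = k * w * k⁻¹ := ⟨_, rfl⟩
  have haA : a ∈ cj g (cen P) := by
    rw [ha]
    exact conj_mem_cj hv
  have hbB : b ∈ cj k (cen Q) := by
    rw [hb]
    exact conj_mem_cj hw
  have haQ : a ∈ Q := h.cj_le_Q hg haA
  have hbP : b ∈ P := h.symm.cj_le_Q hk hbB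
  have haS : a ∈ S := h.hG.QS haQ
  have hbS : b ∈ S := h.hH.QS hbP
  have ha2 : a * a = 1 := by
    have := hV' v hv
    rw [pow_two] at this
    rw [ha]
    calc g * v * g⁻¹ * (g * v * g⁻¹) = g * (v * v) * g⁻¹ := by group
      _ = 1 := by rw [this]; group
  have hb2 : b * b = 1 := by
    have := hV w hw
    rw [pow_two] at this
    rw [hb]
    calc k * w * k⁻¹ * (k * w * k⁻¹) = k * (w * w) * k⁻¹ := by group
      _ = 1 := by rw [this]; group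
  have hai : a⁻¹ = a := inv_eq_of_mul_eq_one_left ha2
  have hbi : b⁻¹ = b := inv_eq_of_mul_eq_one_left hb2
  -- `b ∉ Q`
  have hbQ : b ∉ Q := by
    intro hbQ
    have h1 : b ∈ cj k (cen S) := by
      rw [← h.symm.inf hk (h.ncH k hk hkN)]
      exact mem_inf.2 ⟨hbB, hbQ⟩
    rw [mem_cj] at h1
    apply hwZ
    have e : k⁻¹ * b * k = w := by rw [hb]; group
    rwa [e] at h1
  obtain ⟨x, hx⟩ : ∃ x, x = a * b * a * b := ⟨_, rfl⟩
  have hxe : x = ⁅a, b⁆ := by rw [commutatorElement_def, hai, hbi, hx]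
  -- `x ∈ P` and `x ∈ Q`
  have hxP : x ∈ P := by
    have h1 := conj_mem_of_normalizer (h.hH.Qn (h.hH.SG haS)) hbP
    rw [hai] at h1
    rw [hx]
    exact mul_mem h1 hbP
  have hxQ : x ∈ Q := by
    have h1 := conj_mem_of_normalizer (h.hG.Qn (h.hG.SG hbS)) haQ
    rw [hbi] at h1
    have e : x = a * (b * a * b) := by rw [hx]; group
    rw [e]
    exact mul_mem haQ h1
  -- `x ^ 2` is central in both groups
  have hx1 : x * x ∈ DD S P := by
    have h1 := comm_A h hg hgM haA hxQ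
    have e : a * x * a⁻¹ * x⁻¹ = (x * x)⁻¹ := by
      have e1 : x⁻¹ = b * a * b * a := by
        rw [hx, mul_inv_rev, mul_inv_rev, mul_inv_rev, hai, hbi]; group
      have e2 : a * x * a⁻¹ = x⁻¹ := by
        rw [e1, hai, hx]
        calc a * (a * b * a * b) * a = (a * a) * b * a * b * a := by group
          _ = _ := by rw [ha2, one_mul]
      rw [e2]; group
    rw [e] at h1
    have := inv_mem h1
    rwa [inv_inv] at this
  have hx2 : x * x ∈ DD S Q := by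
    have h1 := comm_B h hk hkN hbB hxP
    have e : b * x * b⁻¹ * x⁻¹ = (x * x)⁻¹ := by
      have e1 : x⁻¹ = b * a * b * a := by
        rw [hx, mul_inv_rev, mul_inv_rev, mul_inv_rev, hai, hbi]; group
      have e2 : b * x * b⁻¹ = x⁻¹ := by
        rw [e1, hbi, hx]
        calc b * (a * b * a * b) * b = b * a * b * a * (b * b) := by group
          _ = _ := by rw [hb2, mul_one]
      rw [e2]; group
    rw [e] at h1
    have := inv_mem h1
    rwa [inv_inv] at this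
  have hxG : x * x ∈ cen G := h.DH hx1
  have hxH : x * x ∈ cen H := h.DG hx2
  -- `a` and `b a b`
  obtain ⟨a', ha'⟩ : ∃ a', a' = b * a * b := ⟨_, rfl⟩
  have haa : a * a' * a⁻¹ * a'⁻¹ = x * x := by
    have e1 : a'⁻¹ = a' := by
      rw [ha', mul_inv_rev, mul_inv_rev, hai, hbi]; group
    rw [e1, hai, ha', hx]; group
  -- `a' ∈ Q`, but not in `cj g P`
  have ha'Q : a' ∈ Q := by
    have h1 := conj_mem_of_normalizer (h.hG.Qn (h.hG.SG hbS)) haQ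
    rw [hbi] at h1
    rw [ha']
    exact h1
  have hti : g⁻¹ * b * g ∉ M := h.hG.ti g hg hgM b hbS hbQ
  have htG : g⁻¹ * b * g ∈ G := mul_mem (mul_mem (inv_mem hg) (h.hG.SG hbS)) hg
  have ha'P : g⁻¹ * a' * g ∉ P := by
    intro hcon
    have h1 : g⁻¹ * a' * g ∈ cj (g⁻¹ * b * g) (cen P) := by
      rw [mem_cj]
      have e : (g⁻¹ * b * g)⁻¹ * (g⁻¹ * a' * g) * (g⁻¹ * b * g) = v := by
        rw [ha', ha]
        calc (g⁻¹ * b * g)⁻¹ * (g⁻¹ * (b * (g * v * g⁻¹) * b) * g) * (g⁻¹ * b * g)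
            = v * g⁻¹ * (b * b) * g := by group
          _ = v := by rw [hb2]; group
      rw [e]
      exact hv
    have h2 : g⁻¹ * a' * g ∈ cj (g⁻¹ * b * g) (cen S) := by
      rw [← h.inf htG (h.ncG _ htG hti)]
      exact mem_inf.2 ⟨h1, hcon⟩
    rw [mem_cj] at h2
    apply hvZ
    have e : (g⁻¹ * b * g)⁻¹ * (g⁻¹ * a' * g) * (g⁻¹ * b * g) = v := by
      rw [ha', ha]
      calc (g⁻¹ * b * g)⁻¹ * (g⁻¹ * (b * (g * v * g⁻¹) * b) * g) * (g⁻¹ * b * g)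
          = v * g⁻¹ * (b * b) * g := by group
        _ = v := by rw [hb2]; group
    rwa [e] at h2
  have ha'S : g⁻¹ * a' * g ∈ S := by
    have h1 := Q_le_cj h hg hgM ha'Q
    rwa [mem_cj] at h1
  -- the contradiction
  apply hvZ
  apply h.hH.cmc _ ha'S ha'P v hv
  have e : cm v (g⁻¹ * a' * g) = (x * x)⁻¹ := by
    have e1 : cm v (g⁻¹ * a' * g) = g⁻¹ * (a * a' * a⁻¹ * a'⁻¹)⁻¹ * g := by
      unfold cm
      rw [ha]; group
    rw [e1, haa]
    have h2 := cen_comm hxG hg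
    have h3 : g * (x * x)⁻¹ = (x * x)⁻¹ * g := cen_comm (inv_mem hxG) hg
    calc g⁻¹ * (x * x)⁻¹ * g = g⁻¹ * ((x * x)⁻¹ * g) := by group
      _ = g⁻¹ * (g * (x * x)⁻¹) := by rw [h3]
      _ = _ := by group
  rw [e]
  exact inv_mem hxH

end two

end Cfsg.Agent.H222.GNSix
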