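import Cfsg.Agent.H222.GNFive3
import Cfsg.Agent.H259.GN5

/-!
# Uniform Glauberman–Niles, section (6): the statement `St6`
-/

set_option autoImplicit false
set_option linter.unusedSectionVars false

namespace Cfsg.Agent.H222.GNSix

open Subgroup
open Cfsg.Agent.H260.Push
open Cfsg.Agent.H259.GN
open scoped commutatorElement

universe u

theorem phi_eq_Ph {X : Type*} [Group X] (p : ℕ) (R : Subgroup X) : phi p R = Ph p R := by
  apply le_antisymm
  · unfold phi
    rw [closure_le]
    rintro _ (⟨x, hx, y, hy, rfl⟩ | ⟨x, hx, rfl⟩)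
    · exact comm_mem_Ph hx hy
    · exact pow_mem_Ph hx
  · rw [Ph_le]
    exact ⟨fun x hx y hy => comm_mem_phi hx hy, fun x hx => pow_mem_phi hx⟩

theorem not_dvd_of_real {X : Type u} [Group X] {p q : ℕ} [Fact p.Prime] {S Y M Q : Subgroup X}
    (h : Real p S Y M Q q) : ¬ p ∣ S.relIndex Y := by
  obtain ⟨G, _, _, φ, P, T, L, hφ, rfl, rfl, rfl, rfl, hpu, c, n⟩ := h
  obtain ⟨R, hR⟩ := hpu.2.1
  have h1 : (P.map φ).relIndex φ.range = P.index := by
    rw [MonoidHom.range_eq_map, Subgroup.relIndex_map_map_of_injective _ _ hφ,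
      Subgroup.relIndex_top_right]
  rw [h1, ← hR]
  exact R.not_dvd_index

theorem st6 (p : ℕ) [hpf : Fact p.Prime] : St6 p := by
  intro X _ _ q S G M Q H N P h hr hr' hS hZ hV hV'
  have hq : 1 < q := hr.one_lt
  have hpr : p.Prime := hpf.out
  obtain ⟨g, hg, hgM⟩ := h.hG.exM
  obtain ⟨k, hk, hkN⟩ := h.hH.exM
  by_cases h2 : p = 2
  · subst h2
    exact (two h hg hgM hk hkN hq hV hV').elim
  by_cases h3 : p = 3
  · have h4 := three h hg hgM hk hkN hpr h2 hV hV'
    unfold S0
    rw [if_neg h2, if_pos h3, phi_eq_Ph, phi_eq_Ph]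
    exact h4
  have h5 : 5 ≤ p := by
    have h6 := hpr.two_le
    have h7 : p ≠ 4 := by
      rintro rfl
      exact absurd hpr (by decide)
    omega
  exact (five h h5 hq hS (not_dvd_of_real hr) hZ).elim

end Cfsg.Agent.H222.GNSix
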