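import Mathlib

/-!
# The relative trace `C_V(T) → C_V(K)` for an abelian `p`-group `V`, `|K : T|` prime to `p`
-/

set_option autoImplicit false

namespace Cfsg.Agent.H222.RelTrace

open Subgroup

/-- **Relative trace.** `V` an abelian `p`-group normalised by `K`, `T ≤ K` of index prime to `p`. There is a retraction
`π` of `C_V(T)` onto `C_V(K)` with `v⁻¹ π(v)` in every subgroup containing the commutators of `v` with `K`, and
commuting with the conjugation by every element normalising `V`, `K` and `T`. -/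
theorem exists_retraction {G : Type*} [Group G] [Finite G] {p : ℕ} [hp : Fact p.Prime]
    (V K T : Subgroup G) (hVp : IsPGroup p ↥V) (hVc : ∀ a ∈ V, ∀ b ∈ V, a * b = b * a)
    (hKV : K ≤ normalizer (V : Set G)) (hTK : T ≤ K) (hidx : ¬ p ∣ T.relIndex K) :
    ∃ π : G → G,
      (∀ v ∈ V, v ∈ centralizer (T : Set G) → π v ∈ V ∧ π v ∈ centralizer (K : Set G)) ∧
      (∀ v ∈ V, v ∈ centralizer (K : Set G) → π v = v) ∧
      (∀ v ∈ V, v ∈ centralizer (T : Set G) → ∀ w ∈ V, w ∈ centralizer (T : Set G) →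
        π (v * w) = π v * π w) ∧
      (∀ v ∈ V, v ∈ centralizer (T : Set G) → ∀ A : Subgroup G,
        (∀ k ∈ K, v⁻¹ * (k * v * k⁻¹) ∈ A) → v⁻¹ * π v ∈ A) ∧
      (∀ t : G, t ∈ normalizer (V : Set G) → t ∈ normalizer (K : Set G) →
        t ∈ normalizer (T : Set G) → ∀ v ∈ V, v ∈ centralizer (T : Set G) →
          π (t * v * t⁻¹) = t * π v * t⁻¹) := by
  classical
  letI cV : CommGroup ↥V :=
    { (inferInstance : Group ↥V) with
      mul_comm := fun a b => Subtype.ext (hVc a a.2 b b.2) }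
  haveI : Fintype (↥K ⧸ T.subgroupOf K) := Fintype.ofFinite _
  -- the conjugate of `v` by `k`
  let cj : ↥V → ↥K → ↥V := fun v k => ⟨(k : G) * v * (k : G)⁻¹,
    (Subgroup.mem_normalizer_iff.mp (hKV k.2) v).mp v.2⟩
  let tr : ↥V → ↥V := fun v => ∏ x : ↥K ⧸ T.subgroupOf K, cj v x.out
  -- independence of representatives
  have hrep : ∀ v : ↥V, (v : G) ∈ centralizer (T : Set G) → ∀ k k' : ↥K,
      (QuotientGroup.mk k : ↥K ⧸ T.subgroupOf K) = QuotientGroup.mk k' → cj v k = cj v k' := by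
    intro v hv k k' h
    rw [QuotientGroup.eq, Subgroup.mem_subgroupOf] at h
    have h1 := Subgroup.mem_centralizer_iff.mp hv _ h
    apply Subtype.ext
    show (k : G) * v * (k : G)⁻¹ = (k' : G) * v * (k' : G)⁻¹
    have h2 : (k' : G) = (k : G) * (((k⁻¹ * k' : ↥K)) : G) := by simp
    rw [h2]
    generalize ((k⁻¹ * k' : ↥K) : G) = s at h1 ⊢
    rw [mul_assoc (k : G) s, h1]; group
  set m : ℕ := T.relIndex K with hm
  have hmcard : Fintype.card (↥K ⧸ T.subgroupOf K) = m := by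
    rw [hm, Subgroup.relIndex, Subgroup.index, Nat.card_eq_fintype_card]
  obtain ⟨e, he⟩ := IsPGroup.iff_card.mp hVp
  have hcop : m.Coprime (p ^ e) := Nat.Coprime.pow_right e ((Nat.Prime.coprime_iff_not_dvd hp.out).mpr hidx).symm
  obtain ⟨m', hm'⟩ : ∃ m' : ℕ, ∀ v : ↥V, v ^ (m * m') = v := by
    rcases Nat.eq_zero_or_pos e with h0 | h0
    · refine ⟨0, fun v => ?_⟩
      have : Nat.card V = 1 := by rw [he, h0, pow_zero]
      haveI := (Nat.card_eq_one_iff_unique.mp this).1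
      exact Subsingleton.elim _ _
    · obtain ⟨m', -, h⟩ := Nat.exists_mul_mod_eq_one_of_coprime hcop (Nat.one_lt_pow h0.ne' hp.out.one_lt)
      refine ⟨m', fun v => ?_⟩
      have h3 : v ^ (p ^ e) = 1 := by rw [← he]; exact pow_card_eq_one'
      conv_lhs => rw [← Nat.div_add_mod (m * m') (p ^ e), h, pow_add, pow_mul, h3, one_pow, one_mul, pow_one]
  let πV : ↥V → ↥V := fun v => (tr v) ^ m'
  refine ⟨fun g => if h : g ∈ V then ((πV ⟨g, h⟩ : ↥V) : G) else 1, ?_, ?_, ?_, ?_, ?_⟩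
  · intro v hv hvT
    simp only [dif_pos hv]
    refine ⟨(πV ⟨v, hv⟩).2, ?_⟩
    rw [Subgroup.mem_centralizer_iff]
    intro k hk
    have key : cj (tr ⟨v, hv⟩) ⟨k, hk⟩ = tr ⟨v, hv⟩ := by
      have hhom : ∀ (ι : Type _) (s : Finset ι) (f : ι → ↥V), cj (∏ i ∈ s, f i) ⟨k, hk⟩ = ∏ i ∈ s, cj (f i) ⟨k, hk⟩ := by
        intro ι s f
        let φ : ↥V →* ↥V :=
          { toFun := fun v => cj v ⟨k, hk⟩
            map_one' := by apply Subtype.ext; simp [cj]
            map_mul' := by intro a b; apply Subtype.ext; simp [cj] }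
        exact map_prod φ f s
      show cj (∏ x : ↥K ⧸ T.subgroupOf K, cj ⟨v, hv⟩ x.out) ⟨k, hk⟩ = ∏ x : ↥K ⧸ T.subgroupOf K, cj ⟨v, hv⟩ x.out
      rw [hhom]
      refine Fintype.prod_equiv (MulAction.toPerm (⟨k, hk⟩ : ↥K)) _ _ (fun x => ?_)
      have h1 : cj (cj ⟨v, hv⟩ x.out) ⟨k, hk⟩ = cj ⟨v, hv⟩ (⟨k, hk⟩ * x.out) := by
        apply Subtype.ext
        simp only [cj, Subgroup.coe_mul]
        group
      rw [h1]
      apply hrep ⟨v, hv⟩ hvT
      have h2 : (MulAction.toPerm (⟨k, hk⟩ : ↥K)) x = (QuotientGroup.mk (⟨k, hk⟩ * x.out) : ↥K ⧸ T.subgroupOf K) := by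
        rw [MulAction.toPerm_apply]
        conv_lhs => rw [← QuotientGroup.out_eq' x]
        rfl
      rw [h2, QuotientGroup.out_eq']
    have h2 : cj (πV ⟨v, hv⟩) ⟨k, hk⟩ = πV ⟨v, hv⟩ := by
      have h3 : ∀ (w : ↥V) (j : ℕ), cj (w ^ j) ⟨k, hk⟩ = (cj w ⟨k, hk⟩) ^ j := by
        intro w j
        apply Subtype.ext
        simp only [cj, Subgroup.coe_pow, conj_pow]
      show cj ((tr ⟨v, hv⟩) ^ m') ⟨k, hk⟩ = _
      rw [h3, key]
    have h3 := congrArg (Subtype.val) h2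
    simp only [cj] at h3
    rw [mul_inv_eq_iff_eq_mul] at h3
    exact h3
  · intro v hv hvK
    simp only [dif_pos hv]
    have h1 : tr ⟨v, hv⟩ = ⟨v, hv⟩ ^ m := by
      show ∏ x : ↥K ⧸ T.subgroupOf K, cj ⟨v, hv⟩ x.out = _
      rw [← hmcard, ← Finset.card_univ]
      apply Finset.prod_eq_pow_card
      intro x _
      apply Subtype.ext
      simp only [cj]
      rw [Subgroup.mem_centralizer_iff] at hvK
      rw [hvK _ (Quotient.out x).2]; group
    show ((tr ⟨v, hv⟩) ^ m' : ↥V) = v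
    rw [h1, ← pow_mul]
    exact congrArg Subtype.val (hm' ⟨v, hv⟩)
  · intro v hv hvT w hw hwT
    simp only [dif_pos hv, dif_pos hw, dif_pos (V.mul_mem hv hw)]
    have h1 : tr ⟨v * w, V.mul_mem hv hw⟩ = tr ⟨v, hv⟩ * tr ⟨w, hw⟩ := by
      show ∏ x : ↥K ⧸ T.subgroupOf K, cj _ x.out = (∏ x : ↥K ⧸ T.subgroupOf K, cj _ x.out) *
        ∏ x : ↥K ⧸ T.subgroupOf K, cj _ x.out
      rw [← Finset.prod_mul_distrib]
      apply Finset.prod_congr rfl
      intro x _
      apply Subtype.ext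
      simp only [cj, Subgroup.coe_mul]
      group
    show (((tr ⟨v * w, V.mul_mem hv hw⟩) ^ m' : ↥V) : G) = ((tr ⟨v, hv⟩) ^ m' : ↥V) * ((tr ⟨w, hw⟩) ^ m' : ↥V)
    rw [h1, mul_pow, Subgroup.coe_mul]
  · intro v hv hvT A hA
    simp only [dif_pos hv]
    have h1 : (⟨v, hv⟩ : ↥V)⁻¹ * πV ⟨v, hv⟩ = (∏ x : ↥K ⧸ T.subgroupOf K, ((⟨v, hv⟩ : ↥V)⁻¹ * cj ⟨v, hv⟩ x.out)) ^ m' := by
      rw [Finset.prod_mul_distrib, Finset.prod_const, Finset.card_univ, hmcard, mul_pow, ← pow_mul, inv_pow, hm']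
    have h2 : ((⟨v, hv⟩ : ↥V)⁻¹ * πV ⟨v, hv⟩) ∈ A.subgroupOf V := by
      rw [h1]
      apply Subgroup.pow_mem
      apply Subgroup.prod_mem
      intro x _
      rw [Subgroup.mem_subgroupOf]
      exact hA _ (Quotient.out x).2
    exact h2
  · intro t htV htK htT v hv hvT
    have htv : t * v * t⁻¹ ∈ V := (Subgroup.mem_normalizer_iff.mp htV v).mp hv
    simp only [dif_pos hv, dif_pos htv]
    -- conjugation by `t` on `K`
    have hcK : ∀ k : G, k ∈ K → t⁻¹ * k * t ∈ K := by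
      intro k hk
      have := (Subgroup.mem_normalizer_iff.mp htK (t⁻¹ * k * t)).mpr (by
        have : t * (t⁻¹ * k * t) * t⁻¹ = k := by group
        rw [this]; exact hk)
      exact this
    have hcK' : ∀ k : G, k ∈ K → t * k * t⁻¹ ∈ K := fun k hk =>
      (Subgroup.mem_normalizer_iff.mp htK k).mp hk
    have htvT : t * v * t⁻¹ ∈ centralizer (T : Set G) := by
      rw [Subgroup.mem_centralizer_iff] at hvT ⊢
      intro s hs
      have h1 : t⁻¹ * s * t ∈ T := by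
        have := (Subgroup.mem_normalizer_iff.mp htT (t⁻¹ * s * t)).mpr (by
          have : t * (t⁻¹ * s * t) * t⁻¹ = s := by group
          rw [this]; exact hs)
        exact this
      have h2 := hvT _ h1
      calc s * (t * v * t⁻¹) = t * ((t⁻¹ * s * t) * v) * t⁻¹ := by group
        _ = t * (v * (t⁻¹ * s * t)) * t⁻¹ := by rw [h2]
        _ = t * v * t⁻¹ * s := by group
    let θ : (↥K ⧸ T.subgroupOf K) → (↥K ⧸ T.subgroupOf K) := fun x =>
      QuotientGroup.mk ⟨t * (x.out : ↥K) * t⁻¹, hcK' _ (Quotient.out x).2⟩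
    have hθ : Function.Injective θ := by
      intro x y hxy
      rw [QuotientGroup.eq, Subgroup.mem_subgroupOf] at hxy
      have h1 : ((⟨t * (x.out : ↥K) * t⁻¹, hcK' _ (Quotient.out x).2⟩ : ↥K)⁻¹ *
          ⟨t * (y.out : ↥K) * t⁻¹, hcK' _ (Quotient.out y).2⟩ : ↥K) = (⟨t * ((x.out⁻¹ * y.out : ↥K) : G) * t⁻¹,
            hcK' _ (x.out⁻¹ * y.out : ↥K).2⟩ : ↥K) := by
        apply Subtype.ext
        simp only [Subgroup.coe_mul, Subgroup.coe_inv]
        group
      rw [h1] at hxy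
      have h2 : ((x.out⁻¹ * y.out : ↥K) : G) ∈ T := (Subgroup.mem_normalizer_iff.mp htT _).mpr hxy
      have h3 : (QuotientGroup.mk x.out : ↥K ⧸ T.subgroupOf K) = QuotientGroup.mk y.out := by
        rw [QuotientGroup.eq, Subgroup.mem_subgroupOf]; exact h2
      rwa [QuotientGroup.out_eq', QuotientGroup.out_eq'] at h3
    have htr : ((tr ⟨t * v * t⁻¹, htv⟩ : ↥V) : G) = t * (tr ⟨v, hv⟩ : ↥V) * t⁻¹ := by
      let cV' : ↥V →* ↥V :=
        { toFun := fun w => ⟨t * w * t⁻¹, (Subgroup.mem_normalizer_iff.mp htV w).mp w.2⟩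
          map_one' := by apply Subtype.ext; simp
          map_mul' := by intro a b; apply Subtype.ext; simp }
      have h1 : tr ⟨t * v * t⁻¹, htv⟩ = cV' (tr ⟨v, hv⟩) := by
        show ∏ x : ↥K ⧸ T.subgroupOf K, cj _ x.out = cV' (∏ x : ↥K ⧸ T.subgroupOf K, cj _ x.out)
        rw [map_prod]
        symm
        refine Fintype.prod_equiv (Equiv.ofBijective θ (Finite.injective_iff_bijective.mp hθ)) _ _ (fun x => ?_)
        have h2 : cV' (cj ⟨v, hv⟩ x.out) = cj ⟨t * v * t⁻¹, htv⟩ ⟨t * (x.out : ↥K) * t⁻¹, hcK' _ (Quotient.out x).2⟩ := by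
          apply Subtype.ext
          show t * ((x.out : ↥K) * v * ((x.out : ↥K) : G)⁻¹) * t⁻¹ =
            (t * (x.out : ↥K) * t⁻¹) * (t * v * t⁻¹) * (t * (x.out : ↥K) * t⁻¹)⁻¹
          group
        rw [h2]
        apply hrep _ htvT
        rw [QuotientGroup.out_eq']
        rfl
      rw [h1]; rfl
    show (((tr ⟨t * v * t⁻¹, htv⟩) ^ m' : ↥V) : G) = t * ((tr ⟨v, hv⟩) ^ m' : ↥V) * t⁻¹
    rw [Subgroup.coe_pow, Subgroup.coe_pow, htr, conj_pow]

end Cfsg.Agent.H222.RelTrace
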