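import Cfsg.Agent.H227.WeakChar
import Cfsg.Agent.H222.RelTrace
import Cfsg.Agent.H222.SylowJoin
import Cfsg.Agent.PLocal.StableClosure
import Cfsg.Agent.PLocal.OffenderStep

/-!
# The Kieler Lemma

`H` of characteristic `p` (or of local characteristic `p`), `T` a Sylow `p`-subgroup, `L` subnormal:
`C_L(Ω₁ Z(T)) = C_L(Ω₁ Z(T ∩ L))`.
-/

set_option autoImplicit false

namespace Cfsg.Agent.H222.Kieler

open Subgroup Cfsg H227.Weak
open scoped commutatorElement

universe u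

variable {H : Type u} [Group H] {p : ℕ}

/-- `Ω₁(Z(T))` -/
abbrev Om (p : ℕ) (T : Subgroup H) : Subgroup H := omegaOne p (T ⊓ centralizer (T : Set H))

theorem center_comm (T : Subgroup H) : ∀ a ∈ T ⊓ centralizer (T : Set H),
    ∀ b ∈ T ⊓ centralizer (T : Set H), a * b = b * a := by
  intro a ha b hb
  exact (Subgroup.mem_centralizer_iff.mp hb.2 a ha.1)

theorem mem_Om {T : Subgroup H} {x : H} :
    x ∈ Om p T ↔ x ∈ T ∧ x ∈ centralizer (T : Set H) ∧ x ^ p = 1 := by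
  rw [Om, PLocal.StableClosure.mem_omegaOne_iff_of_comm (center_comm T), Subgroup.mem_inf, and_assoc]

theorem Om_le (T : Subgroup H) : Om p T ≤ T := fun _ hx => (mem_Om.mp hx).1

theorem le_normalizer_of_conj' {A K : Subgroup H} (h : ∀ a ∈ A, ∀ k ∈ K, a * k * a⁻¹ ∈ K) :
    A ≤ normalizer (K : Set H) := SylowJoin.le_normalizer_of_conj h

variable [Finite H] [hp : Fact p.Prime]

/-- whatever normalizes `T` normalizes `Ω₁(Z(T))` -/
theorem normalizer_le_normalizer_Om (T : Subgroup H) :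
    normalizer (T : Set H) ≤ normalizer ((Om p T : Subgroup H) : Set H) := by
  apply le_normalizer_of_conj'
  intro a ha k hk
  rw [mem_Om] at hk ⊢
  refine ⟨(Subgroup.mem_normalizer_iff.mp ha k).mp hk.1,
    (Subgroup.mem_normalizer_iff.mp (normalizer_le_normalizer_centralizer T ha) k).mp hk.2.1, ?_⟩
  rw [conj_pow, hk.2.2]; simp

theorem Om_ne_bot {T : Subgroup H} (hT : IsPGroup p ↥T) (h : T ≠ ⊥) : Om p T ≠ ⊥ := by
  haveI : Nontrivial ↥T := (Subgroup.nontrivial_iff_ne_bot T).mpr h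
  have h1 : Nontrivial (center ↥T) := hT.center_nontrivial
  have h2 : IsPGroup p (center ↥T) := hT.to_subgroup _
  obtain ⟨k, hk⟩ := IsPGroup.iff_card.mp h2
  have h3 : p ∣ Nat.card (center ↥T) := by
    rcases Nat.eq_zero_or_pos k with h0 | h0
    · rw [h0, pow_zero] at hk
      exact absurd hk Finite.one_lt_card.ne'
    · rw [hk]; exact dvd_pow_self p h0.ne'
  obtain ⟨x, hx⟩ := exists_prime_orderOf_dvd_card' p h3
  intro hbot
  have h4 : ((x : ↥T) : H) ∈ Om p T := by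
    rw [mem_Om]
    refine ⟨(x : ↥T).2, ?_, ?_⟩
    · rw [Subgroup.mem_centralizer_iff]
      intro y hy
      exact congrArg Subtype.val (Subgroup.mem_center_iff.mp x.2 ⟨y, hy⟩)
    · have h5 : x ^ p = 1 := by rw [← hx]; exact pow_orderOf_eq_one x
      have h6 := congrArg (fun z : center ↥T => ((z : ↥T) : H)) h5
      simpa using h6
  rw [hbot, Subgroup.mem_bot] at h4
  have h5 : x = 1 := Subtype.ext (Subtype.ext h4)
  rw [h5, orderOf_one] at hx
  exact hp.out.one_lt.ne hx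

/-- characteristic `p` passes to normal subgroups -/
theorem Ch.of_normal {X L : Subgroup H} (hX : Ch p X) (hLX : L ≤ X)
    (hn : X ≤ normalizer (L : Set H)) : Ch p L := by
  set E := pCoreOf p X with hE
  set R := pCoreOf p L with hR
  have hEp : IsPGroup p E := isPGroup_pCoreOf X
  have hXE : X ≤ normalizer (E : Set H) :=
    le_normalizer.trans (normalizer_le_normalizer_pCoreOf p X)
  have hXR : X ≤ normalizer (R : Set H) := hn.trans (normalizer_le_normalizer_pCoreOf p L)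
  have hEL : E ⊓ L ≤ R := by
    apply le_pCoreOf (hEp.to_le inf_le_left) inf_le_right
    apply le_normalizer_of_conj'
    intro a ha k hk
    exact ⟨(Subgroup.mem_normalizer_iff.mp (hXE (hLX ha)) k).mp hk.1,
      L.mul_mem (L.mul_mem ha hk.2) (L.inv_mem ha)⟩
  refine isPGroup_of_forall fun x hx hxc => ?_
  have hC : ∀ e ∈ E, ∀ c ∈ L ⊓ centralizer (R : Set H), ⁅e, c⁆ ∈ R := by
    intro e he c hc
    apply hEL
    refine ⟨?_, ?_⟩
    · have : ⁅e, c⁆ = e * (c * e⁻¹ * c⁻¹) := by rw [commutatorElement_def]; group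
      rw [this]
      exact E.mul_mem he ((Subgroup.mem_normalizer_iff.mp (hXE (hLX hc.1)) _).mp (E.inv_mem he))
    · have : ⁅e, c⁆ = (e * c * e⁻¹) * c⁻¹ := by rw [commutatorElement_def]
      rw [this]
      exact L.mul_mem ((Subgroup.mem_normalizer_iff.mp (hn (pCoreOf_le p X he)) _).mp hc.1) (L.inv_mem hc.1)
  have hxX : zpowers x ≤ L ⊓ centralizer (R : Set H) := by rwa [zpowers_le]
  have h1 : ⁅⁅E, zpowers x⁆, zpowers x⁆ = ⊥ := by
    rw [Subgroup.commutator_eq_bot_iff_le_centralizer]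
    refine le_trans (b := R) ?_ ?_
    · rw [Subgroup.commutator_le]
      intro e he c hc
      exact hC e he c (hxX hc)
    · rw [Subgroup.le_centralizer_iff]
      exact hxX.trans inf_le_right
  have h2 : ⁅E, zpowers x⁆ = ⊥ := by
    apply Lib.ThompsonPQ.commutator_eq_bot_of_coprime _ _ h1
    · rw [Nat.card_zpowers]
      obtain ⟨k, hk⟩ := IsPGroup.iff_card.mp hEp
      rw [hk]
      exact Nat.Coprime.pow_right k hxc
    · exact (hxX.trans inf_le_left).trans (hLX.trans hXE)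
  rw [Subgroup.commutator_comm, Subgroup.commutator_eq_bot_iff_le_centralizer] at h2
  exact eq_one_of_coprime hX ⟨hLX hx.1, h2 (mem_zpowers x)⟩ hxc

/-- `O_p(L) = O_p(X) ∩ L` is in each Sylow `p`-subgroup of `L`. -/
theorem pCoreOf_le_of_sylow {L T : Subgroup H} (hT : IsPGroup p ↥T) (hi : ¬ p ∣ T.relIndex L) :
    pCoreOf p L ≤ T := by
  have h1 : pCore p ↥L ≤ T.subgroupOf L :=
    Lib.Cores.pCore_le_sylow ((hT.comap_of_injective L.subtype L.subtype_injective).toSylow hi)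
  rintro _ ⟨x, hx, rfl⟩
  exact h1 hx

/-- `C_L(O_p(L)) ≤ O_p(L)` when `Ch p L`. -/
theorem Ch.centralizer_le {L : Subgroup H} (hL : Ch p L) :
    L ⊓ centralizer ((pCoreOf p L : Subgroup H) : Set H) ≤ pCoreOf p L := by
  have h := (pCoreOf_centralizer_iff (p := p) L).mpr hL
  rintro x ⟨hx, hxc⟩
  have h1 : (⟨x, hx⟩ : ↥L) ∈ centralizer (pCore p ↥L : Set ↥L) := by
    rw [Subgroup.mem_centralizer_iff]
    intro y hy
    apply Subtype.ext
    exact Subgroup.mem_centralizer_iff.mp hxc _ ⟨y, hy, rfl⟩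
  exact ⟨⟨x, hx⟩, h h1, rfl⟩

theorem not_dvd_relIndex_inf {X T L : Subgroup H} (hT : IsPGroup p ↥T) (hTX : T ≤ X)
    (hi : ¬ p ∣ T.relIndex X) (hLX : L ≤ X) (hn : X ≤ normalizer (L : Set H)) :
    ¬ p ∣ (T ⊓ L).relIndex L := by
  have h1 : (L.subgroupOf X).IsSubnormal := ((normal_subgroupOf_iff_le_normalizer hLX).mpr hn).isSubnormal
  have h2 := SylowJoin.not_dvd_relIndex_of_subnormal
    (hT.comap_of_injective X.subtype X.subtype_injective) (S := T.subgroupOf X) hi h1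
  rw [Subgroup.inf_relIndex_right]
  have h3 : (T.subgroupOf X).relIndex (L.subgroupOf X) = T.relIndex L := by
    rw [Subgroup.subgroupOf, Subgroup.subgroupOf, Subgroup.relIndex_comap, Subgroup.map_comap_eq,
      Subgroup.range_subtype, inf_eq_right.mpr hLX]
  rwa [h3] at h2

/-- Half of the Kieler lemma: `Z(T) ≤ C(L) Ω₁Z(T ∩ L)`. -/
theorem exists_mul {X T L : Subgroup H} (hX : Ch p X) (hT : IsPGroup p ↥T) (hTX : T ≤ X)
    (hi : ¬ p ∣ T.relIndex X) (hLX : L ≤ X) (hn : X ≤ normalizer (L : Set H)) {z : H}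
    (hz : z ∈ Om p T) : ∃ c ∈ centralizer (L : Set H), ∃ d ∈ Om p (T ⊓ L), z = c * d := by
  have hL : Ch p L := Ch.of_normal hX hLX hn
  have hiL := not_dvd_relIndex_inf hT hTX hi hLX hn
  set R := pCoreOf p L with hR
  have hRp : IsPGroup p ↥R := isPGroup_pCoreOf L
  have hRT : R ≤ T ⊓ L := pCoreOf_le_of_sylow (hT.to_le inf_le_left) hiL
  have hXR : X ≤ normalizer (R : Set H) := hn.trans (normalizer_le_normalizer_pCoreOf p L)
  have hz' := mem_Om.mp hz
  have hzR : z ∈ centralizer (R : Set H) := (centralizer_le (hRT.trans inf_le_left)) hz'.2.1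
  -- the commutators `[x, z]`, `x ∈ L`
  have hcom : ∀ x ∈ L, x * z * x⁻¹ * z⁻¹ ∈ Om p R := by
    intro x hx
    have hC : x * z * x⁻¹ * z⁻¹ ∈ centralizer (R : Set H) := by
      apply Subgroup.mul_mem _ _ (Subgroup.inv_mem _ hzR)
      exact (Subgroup.mem_normalizer_iff.mp (normalizer_le_normalizer_centralizer R
        (hXR (hLX hx))) z).mp hzR
    have hLm : x * z * x⁻¹ * z⁻¹ ∈ L := by
      have : x * z * x⁻¹ * z⁻¹ = x * (z * x⁻¹ * z⁻¹) := by group
      rw [this]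
      exact L.mul_mem hx ((Subgroup.mem_normalizer_iff.mp (hn (hTX hz'.1)) _).mp (L.inv_mem hx))
    have hwR : x * z * x⁻¹ * z⁻¹ ∈ R := Ch.centralizer_le hL ⟨hLm, hC⟩
    rw [mem_Om]
    refine ⟨hwR, hC, ?_⟩
    have h1 : Commute (x * z * x⁻¹ * z⁻¹) z := (Subgroup.mem_centralizer_iff.mp hzR _ hwR)
    have h2 : (x * z * x⁻¹ * z⁻¹ * z) ^ p = 1 := by
      have : x * z * x⁻¹ * z⁻¹ * z = x * z * x⁻¹ := by group
      rw [this, conj_pow, hz'.2.2]; simp
    rwa [h1.mul_pow, hz'.2.2, mul_one] at h2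
  -- the module
  set A := Om p R with hA
  have hAz : zpowers z ≤ centralizer (A : Set H) := by
    rw [zpowers_le]
    exact centralizer_le (Om_le R) hzR
  have hVmem : ∀ v : H, v ∈ A ⊔ zpowers z ↔ ∃ a ∈ A, ∃ y ∈ zpowers z, a * y = v := fun v =>
    SignalizersComponents.CoprimeBasic.mem_sup_iff (hAz.trans (Subgroup.centralizer_le_normalizer _)) v
  have hAc : ∀ a ∈ A, ∀ b ∈ A, a * b = b * a := fun a ha b hb =>
    Subgroup.mem_centralizer_iff.mp (mem_Om.mp hb).2.1 a (mem_Om.mp ha).1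
  have hVc : ∀ a ∈ A ⊔ zpowers z, ∀ b ∈ A ⊔ zpowers z, a * b = b * a := by
    intro a ha b hb
    obtain ⟨a₁, ha₁, y₁, hy₁, rfl⟩ := (hVmem a).mp ha
    obtain ⟨a₂, ha₂, y₂, hy₂, rfl⟩ := (hVmem b).mp hb
    have h1 : a₂ * y₁ = y₁ * a₂ := Subgroup.mem_centralizer_iff.mp (hAz hy₁) a₂ ha₂
    have h2 : a₁ * y₂ = y₂ * a₁ := Subgroup.mem_centralizer_iff.mp (hAz hy₂) a₁ ha₁
    have h3 : y₁ * y₂ = y₂ * y₁ := by
      obtain ⟨i, rfl⟩ := Subgroup.mem_zpowers_iff.mp hy₁
      obtain ⟨j, rfl⟩ := Subgroup.mem_zpowers_iff.mp hy₂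
      exact (Commute.refl z).zpow_zpow i j
    have h4 := hAc a₁ ha₁ a₂ ha₂
    calc a₁ * y₁ * (a₂ * y₂) = a₁ * (y₁ * a₂) * y₂ := by group
      _ = a₁ * (a₂ * y₁) * y₂ := by rw [h1]
      _ = (a₁ * a₂) * (y₁ * y₂) := by group
      _ = (a₂ * a₁) * (y₂ * y₁) := by rw [h4, h3]
      _ = a₂ * (a₁ * y₂) * y₁ := by group
      _ = a₂ * (y₂ * a₁) * y₁ := by rw [h2]
      _ = a₂ * y₂ * (a₁ * y₁) := by group
  have hVp : IsPGroup p ↥(A ⊔ zpowers z) := by
    apply hT.to_le
    apply sup_le ((Om_le R).trans (hRT.trans inf_le_left))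
    rw [zpowers_le]; exact hz'.1
  have hLV : L ≤ normalizer ((A ⊔ zpowers z : Subgroup H) : Set H) := by
    apply le_normalizer_of_conj'
    intro x hx v hv
    have h1 : (A ⊔ zpowers z).map (MulAut.conj x).toMonoidHom ≤ A ⊔ zpowers z := by
      rw [Subgroup.map_sup]
      apply sup_le
      · rintro _ ⟨a, ha, rfl⟩
        exact le_sup_left (α := Subgroup H) ((Subgroup.mem_normalizer_iff.mp
          (normalizer_le_normalizer_Om R (hXR (hLX hx))) a).mp ha)
      · rw [Subgroup.map_le_iff_le_comap, zpowers_le, Subgroup.mem_comap]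
        have h2 : (MulAut.conj x).toMonoidHom z = (x * z * x⁻¹ * z⁻¹) * z := by simp
        rw [h2]
        exact Subgroup.mul_mem _ (le_sup_left (α := Subgroup H) (hcom x hx))
          (le_sup_right (α := Subgroup H) (mem_zpowers z))
    exact h1 ⟨v, hv, rfl⟩
  obtain ⟨π, h1, -, -, h4, -⟩ := RelTrace.exists_retraction (p := p) (A ⊔ zpowers z) L (T ⊓ L) hVp hVc
    hLV inf_le_right hiL
  have hzV : z ∈ A ⊔ zpowers z := le_sup_right (α := Subgroup H) (mem_zpowers z)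
  have hzT : z ∈ centralizer ((T ⊓ L : Subgroup H) : Set H) := centralizer_le inf_le_left hz'.2.1
  have h5 := h1 z hzV hzT
  have h6 : z⁻¹ * π z ∈ A := by
    apply h4 z hzV hzT
    intro k hk
    have h7 : z⁻¹ * (k * z * k⁻¹) = z⁻¹ * (k * z * k⁻¹ * z⁻¹) * z := by group
    have h8 : z⁻¹ * (k * z * k⁻¹ * z⁻¹) = (k * z * k⁻¹ * z⁻¹) * z⁻¹ := by
      have h9 : (k * z * k⁻¹ * z⁻¹) * z = z * (k * z * k⁻¹ * z⁻¹) :=
        Subgroup.mem_centralizer_iff.mp (hAz (mem_zpowers z)) _ (hcom k hk)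
      rw [inv_mul_eq_iff_eq_mul, ← mul_assoc, ← h9]; group
    rw [h7, h8, inv_mul_cancel_right]
    exact hcom k hk
  refine ⟨π z, h5.2, (π z)⁻¹ * z, ?_, by group⟩
  have h7 : (π z)⁻¹ * z ∈ A := by
    have h8 := A.inv_mem h6
    have h9 : (z⁻¹ * π z)⁻¹ = (π z)⁻¹ * z := by group
    rwa [h9] at h8
  rw [mem_Om]
  refine ⟨hRT (Om_le R h7), ?_, (mem_Om.mp h7).2.2⟩
  exact Subgroup.mul_mem _ (Subgroup.inv_mem _ (centralizer_le inf_le_right h5.2)) hzT

/-- **Kieler Lemma**, normal subgroup, characteristic `p`. -/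
theorem kieler_normal {X T L : Subgroup H} (hX : Ch p X) (hT : IsPGroup p ↥T) (hTX : T ≤ X)
    (hi : ¬ p ∣ T.relIndex X) (hLX : L ≤ X) (hn : X ≤ normalizer (L : Set H)) {x : H}
    (hx : x ∈ L) : x ∈ centralizer (Om p T : Set H) ↔ x ∈ centralizer (Om p (T ⊓ L) : Set H) := by
  have hiL := not_dvd_relIndex_inf hT hTX hi hLX hn
  constructor
  swap
  · intro h
    rw [Subgroup.mem_centralizer_iff] at h ⊢
    intro z hz
    obtain ⟨c, hc, d, hd, rfl⟩ := exists_mul hX hT hTX hi hLX hn hz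
    have h1 : x * c = c * x := Subgroup.mem_centralizer_iff.mp hc x hx
    have h2 := h d hd
    rw [mul_assoc, h2, ← mul_assoc, ← h1, mul_assoc]
  · intro h
    set Z := Om p T with hZ
    set K := L ⊓ centralizer (Z : Set H) with hK
    have hZp : IsPGroup p ↥Z := hT.to_le (Om_le T)
    have hL : Ch p L := Ch.of_normal hX hLX hn
    have hZL : Z ≤ normalizer (L : Set H) := (Om_le T).trans (hTX.trans hn)
    have hKch : Ch p K := Ch.inf_centralizer hL hZp hZL
    -- `T ∩ L` is a Sylow subgroup of `K`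
    have hTK : T ⊓ L ≤ K := by
      refine le_inf inf_le_right ?_
      rw [Subgroup.le_centralizer_iff]
      intro z hz
      exact centralizer_le inf_le_left (mem_Om.mp hz).2.1
    have hiK : ¬ p ∣ (T ⊓ L).relIndex K := by
      intro hd
      apply hiL
      rw [← Subgroup.relIndex_mul_relIndex _ _ _ hTK (inf_le_left : K ≤ L)]
      exact Dvd.dvd.mul_right hd _
    set R := pCoreOf p K with hR
    have hRT : R ≤ T ⊓ L := pCoreOf_le_of_sylow (hT.to_le inf_le_left) hiK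
    have hRp : IsPGroup p ↥R := isPGroup_pCoreOf K
    set V := Om p R with hV
    have hVc : ∀ a ∈ V, ∀ b ∈ V, a * b = b * a := fun a ha b hb =>
      Subgroup.mem_centralizer_iff.mp (mem_Om.mp hb).2.1 a (mem_Om.mp ha).1
    have hKV : normalizer (K : Set H) ≤ normalizer (V : Set H) :=
      (normalizer_le_normalizer_pCoreOf p K).trans (normalizer_le_normalizer_Om R)
    -- `Z₀ ≤ V`
    have hZ0 : ∀ y ∈ Om p (T ⊓ L), y ∈ V := by
      intro y hy
      have hy' := mem_Om.mp hy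
      have h1 : y ∈ centralizer (R : Set H) := centralizer_le hRT hy'.2.1
      rw [mem_Om]
      exact ⟨Ch.centralizer_le hKch ⟨hTK hy'.1, h1⟩, h1, hy'.2.2⟩
    have hTnK : T ≤ normalizer (K : Set H) := by
      apply le_normalizer_of_conj'
      intro a ha k hk
      refine ⟨(Subgroup.mem_normalizer_iff.mp (hn (hTX ha)) k).mp hk.1, ?_⟩
      have ha' : a ∈ centralizer (Z : Set H) := by
        rw [Subgroup.mem_centralizer_iff]
        intro z hz
        exact (Subgroup.mem_centralizer_iff.mp (mem_Om.mp hz).2.1 a ha).symm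
      exact Subgroup.mul_mem _ (Subgroup.mul_mem _ ha' hk.2) (Subgroup.inv_mem _ ha')
    have hTnTL : T ≤ normalizer ((T ⊓ L : Subgroup H) : Set H) := by
      apply le_normalizer_of_conj'
      intro a ha k hk
      exact ⟨T.mul_mem (T.mul_mem ha hk.1) (T.inv_mem ha),
        (Subgroup.mem_normalizer_iff.mp (hn (hTX ha)) k).mp hk.2⟩
    obtain ⟨π, h1, h2, h3, h4, h5⟩ := RelTrace.exists_retraction (p := p) V K (T ⊓ L)
      (hRp.to_le (Om_le R)) hVc (le_normalizer.trans hKV) hTK hiK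
    -- the kernel of `π` on `Z₀`
    let D : Subgroup H :=
      { carrier := {y | y ∈ Om p (T ⊓ L) ∧ π y = 1}
        one_mem' := ⟨one_mem _, h2 1 (one_mem _) (one_mem _)⟩
        mul_mem' := by
          rintro a b ⟨ha, ha1⟩ ⟨hb, hb1⟩
          refine ⟨mul_mem ha hb, ?_⟩
          rw [h3 a (hZ0 a ha) (mem_Om.mp ha).2.1 b (hZ0 b hb) (mem_Om.mp hb).2.1, ha1, hb1, one_mul]
        inv_mem' := by
          rintro a ⟨ha, ha1⟩
          refine ⟨inv_mem ha, ?_⟩
          have h6 := h3 a (hZ0 a ha) (mem_Om.mp ha).2.1 a⁻¹ (hZ0 _ (inv_mem ha)) (mem_Om.mp (inv_mem ha)).2.1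
          rw [mul_inv_cancel, ha1, one_mul, h2 1 (one_mem _) (one_mem _)] at h6
          exact h6.symm }
    have hDmem : ∀ y, y ∈ D ↔ y ∈ Om p (T ⊓ L) ∧ π y = 1 := fun y => Iff.rfl
    have hTD : T ≤ normalizer (D : Set H) := by
      apply le_normalizer_of_conj'
      intro a ha k hk
      rw [hDmem] at hk ⊢
      refine ⟨(Subgroup.mem_normalizer_iff.mp (normalizer_le_normalizer_Om _ (hTnTL ha)) k).mp hk.1, ?_⟩
      rw [h5 a (hKV (hTnK ha)) (hTnK ha) (hTnTL ha) k (hZ0 k hk.1) (mem_Om.mp hk.1).2.1, hk.2]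
      simp
    have hDbot : D = ⊥ := by
      by_contra hne
      -- `C_D(T) ≠ 1`
      have hDT : D ≤ T := fun y hy => (Om_le _ hy.1).1
      have h6 := PLocal.OffenderStep.inf_centralizer_ne_bot D T (hT.to_le hDT) hT hTD hne
      obtain ⟨y, ⟨hyD, hyT⟩, hy1⟩ : ∃ y ∈ D ⊓ centralizer (T : Set H), y ≠ 1 := by
        by_contra hcon
        push Not at hcon
        exact h6 (le_bot_iff.mp (fun z hz => Subgroup.mem_bot.mpr (hcon z hz)))
      apply hy1
      have hyZ : y ∈ Z := by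
        rw [hZ, mem_Om]
        exact ⟨hDT hyD, hyT, (mem_Om.mp hyD.1).2.2⟩
      have hyK : y ∈ centralizer (K : Set H) := by
        rw [Subgroup.mem_centralizer_iff]
        intro k hk
        exact (Subgroup.mem_centralizer_iff.mp hk.2 y hyZ).symm
      rw [← h2 y (hZ0 y hyD.1) hyK]
      exact hyD.2
    rw [Subgroup.mem_centralizer_iff]
    intro y hy
    -- `y = π y`
    have hyV := hZ0 y hy
    have hyT := (mem_Om.mp hy).2.1
    have h6 := h1 y hyV hyT
    have hπy : π y ∈ Om p (T ⊓ L) := by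
      rw [mem_Om]
      refine ⟨hRT (Om_le R h6.1), ?_, (mem_Om.mp h6.1).2.2⟩
      exact centralizer_le hTK h6.2
    have h7 : y * (π y)⁻¹ ∈ D := by
      rw [hDmem]
      refine ⟨mul_mem hy (inv_mem hπy), ?_⟩
      have hinv := inv_mem hπy
      rw [h3 y hyV hyT (π y)⁻¹ (hZ0 _ hinv) (mem_Om.mp hinv).2.1,
        h2 (π y)⁻¹ (hZ0 _ hinv) (inv_mem h6.2), mul_inv_cancel]
    rw [hDbot, Subgroup.mem_bot, mul_inv_eq_one] at h7
    rw [h7]
    have hxK : x ∈ K := ⟨hx, h⟩
    exact (Subgroup.mem_centralizer_iff.mp h6.2 x hxK).symm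

/-- local characteristic `p` of a subgroup `X` (without the condition on the order) -/
def LC (p : ℕ) (X : Subgroup H) : Prop :=
  ∀ R : Subgroup H, IsPGroup p ↥R → R ≤ X → R ≠ ⊥ → Ch p (X ⊓ normalizer (R : Set H))

theorem LC.of_normal {X L : Subgroup H} (hX : LC p X) (hLX : L ≤ X)
    (hn : X ≤ normalizer (L : Set H)) : LC p L := by
  intro R hR hRL hR1
  refine Ch.of_normal (hX R hR (hRL.trans hLX) hR1) (inf_le_inf_right _ hLX) ?_
  apply le_normalizer_of_conj'
  intro a ha k hk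
  exact ⟨(Subgroup.mem_normalizer_iff.mp (hn ha.1) k).mp hk.1,
    Subgroup.mul_mem _ (Subgroup.mul_mem _ ha.2 hk.2) (Subgroup.inv_mem _ ha.2)⟩

/-- **Kieler Lemma**, normal subgroup, local characteristic `p`. -/
theorem kieler_local_normal {X T L : Subgroup H} (hX : LC p X) (hT : IsPGroup p ↥T) (hTX : T ≤ X)
    (hi : ¬ p ∣ T.relIndex X) (hLX : L ≤ X) (hn : X ≤ normalizer (L : Set H)) (hne : T ⊓ L ≠ ⊥)
    {x : H} (hx : x ∈ L) : x ∈ centralizer (Om p T : Set H) ↔ x ∈ centralizer (Om p (T ⊓ L) : Set H) := by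
  have hTne : T ≠ ⊥ := fun h => hne (by rw [h, bot_inf_eq])
  -- reduction to `X ∩ N(Z)`
  have key : ∀ Z : Subgroup H, IsPGroup p ↥Z → Z ≤ X → Z ≠ ⊥ → T ≤ normalizer (Z : Set H) →
      x ∈ centralizer (Z : Set H) →
      (x ∈ centralizer (Om p T : Set H) ↔ x ∈ centralizer (Om p (T ⊓ L) : Set H)) := by
    intro Z hZ hZX hZ1 hTZ hxZ
    have hM : Ch p (X ⊓ normalizer (Z : Set H)) := hX Z hZ hZX hZ1
    have hTM : T ≤ X ⊓ normalizer (Z : Set H) := le_inf hTX hTZ
    have h1 := kieler_normal (L := L ⊓ normalizer (Z : Set H)) hM hT hTM (fun hd => hi (by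
      rw [← Subgroup.relIndex_mul_relIndex _ _ _ hTM (inf_le_left)]
      exact Dvd.dvd.mul_right hd _)) (inf_le_inf_right _ hLX) (by
        apply le_normalizer_of_conj'
        intro a ha k hk
        exact ⟨(Subgroup.mem_normalizer_iff.mp (hn ha.1) k).mp hk.1,
          Subgroup.mul_mem _ (Subgroup.mul_mem _ ha.2 hk.2) (Subgroup.inv_mem _ ha.2)⟩)
      (x := x) ⟨hx, Subgroup.centralizer_le_normalizer _ hxZ⟩
    have h2 : T ⊓ (L ⊓ normalizer (Z : Set H)) = T ⊓ L := by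
      rw [← inf_assoc, inf_eq_left]
      exact inf_le_left.trans hTZ
    rwa [h2] at h1
  constructor
  · intro h
    refine (key (Om p T) (hT.to_le (Om_le T)) ((Om_le T).trans hTX) (Om_ne_bot hT hTne)
      (le_normalizer.trans (normalizer_le_normalizer_Om T)) h).mp h
  · intro h
    have hTL : IsPGroup p ↥(T ⊓ L : Subgroup H) := hT.to_le inf_le_left
    refine (key (Om p (T ⊓ L)) (hTL.to_le (Om_le _)) ((Om_le _).trans (inf_le_left.trans hTX))
      (Om_ne_bot hTL hne) ?_ h).mpr h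
    refine le_trans ?_ (normalizer_le_normalizer_Om _)
    apply le_normalizer_of_conj'
    intro a ha k hk
    exact ⟨T.mul_mem (T.mul_mem ha hk.1) (T.inv_mem ha),
      (Subgroup.mem_normalizer_iff.mp (hn (hTX ha)) k).mp hk.2⟩

/-- **Kieler Lemma**, subnormal subgroup, local characteristic `p`. -/
theorem kieler_subnormal {T : Subgroup H} (hX : LC p (⊤ : Subgroup H)) (hT : IsPGroup p ↥T)
    (hi : ¬ p ∣ T.index) {L : Subgroup H} (hL : L.IsSubnormal) (hne : T ⊓ L ≠ ⊥) :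
    LC p L ∧ ∀ x ∈ L, (x ∈ centralizer (Om p T : Set H) ↔ x ∈ centralizer (Om p (T ⊓ L) : Set H)) := by
  induction hL with
  | top =>
    rw [inf_top_eq]
    exact ⟨hX, fun _ _ => Iff.rfl⟩
  | step L K hLK hK hN ih =>
    have hne' : T ⊓ K ≠ ⊥ := fun h => hne (le_bot_iff.mp (h ▸ inf_le_inf_left T hLK))
    obtain ⟨h1, h2⟩ := ih hne'
    have hn : K ≤ normalizer (L : Set H) := (normal_subgroupOf_iff_le_normalizer hLK).mp hN
    have h3 : T ⊓ K ⊓ L = T ⊓ L := by rw [inf_assoc, inf_eq_right.mpr hLK]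
    refine ⟨h1.of_normal hLK hn, fun x hx => (h2 x (hLK hx)).trans ?_⟩
    have h4 := kieler_local_normal h1 (hT.to_le (inf_le_left : T ⊓ K ≤ T)) inf_le_right (by
      rw [Subgroup.inf_relIndex_right]
      exact SylowJoin.not_dvd_relIndex_of_subnormal hT hi hK) hLK hn (by rwa [h3]) hx
    rwa [h3] at h4

end Cfsg.Agent.H222.Kieler
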