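import Cfsg.Agent.H222.Kieler

/-!
# Point stabilizers of joins of subnormal subgroups
-/

set_option autoImplicit false

namespace Cfsg.Agent.H222.PointStab

open Subgroup Cfsg H227.Weak H222.Kieler

universe u

variable {H : Type u} [Group H] {p : ℕ}

/-- A subnormal subgroup of index prime to `p` contains all `p`-elements. -/
theorem mem_of_subnormal [Finite H] [hp : Fact p.Prime] {E : Subgroup H} (hE : E.IsSubnormal)
    (hi : ¬ p ∣ E.index) {x : H} (hx : ∃ k, orderOf x = p ^ k) : x ∈ E := by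
  induction hE with
  | top => exact Subgroup.mem_top x
  | step E K hEK hK hN ih =>
    have h1 : E.relIndex K * K.index = E.index := Subgroup.relIndex_mul_index hEK
    have hxK : x ∈ K := ih (fun hd => hi (h1 ▸ Dvd.dvd.mul_left hd _))
    have h2 : ¬ p ∣ E.relIndex K := fun hd => hi (h1 ▸ Dvd.dvd.mul_right hd _)
    obtain ⟨k, hk⟩ := hx
    have h3 : ((⟨x, hxK⟩ : ↥K) : ↥K) ^ (E.relIndex K) ∈ E.subgroupOf K := by
      exact Subgroup.pow_index_mem (E.subgroupOf K) ⟨x, hxK⟩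
    have h4 : x ^ (E.relIndex K) ∈ E := h3
    have h5 : x ^ (p ^ k) = 1 := by rw [← hk]; exact pow_orderOf_eq_one x
    have hcop : (E.relIndex K).Coprime (p ^ k) :=
      Nat.Coprime.pow_right k ((Nat.Prime.coprime_iff_not_dvd hp.out).mpr h2).symm
    have hg := Nat.gcd_eq_gcd_ab (E.relIndex K) (p ^ k)
    rw [hcop] at hg
    have hx1 : x = (x ^ (E.relIndex K)) ^ (Nat.gcdA (E.relIndex K) (p ^ k)) *
        (x ^ (p ^ k)) ^ (Nat.gcdB (E.relIndex K) (p ^ k)) := by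
      rw [← zpow_natCast x (E.relIndex K), ← zpow_natCast x (p ^ k), ← zpow_mul, ← zpow_mul,
        ← zpow_add, ← hg]
      simp
    rw [hx1, h5, one_zpow, mul_one]
    exact E.zpow_mem h4 _

/-- the subgroup generated by the `p`-elements of `X` in `C(Z)` -/
def PS (p : ℕ) (Z X : Subgroup H) : Subgroup H :=
  closure {x : H | x ∈ X ⊓ centralizer (Z : Set H) ∧ ∃ k : ℕ, orderOf x = p ^ k}

theorem PS_le (Z X : Subgroup H) : PS p Z X ≤ X ⊓ centralizer (Z : Set H) := by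
  rw [PS, closure_le]
  exact fun x hx => hx.1

theorem PS_mono {Z X Y : Subgroup H} (h : X ≤ Y) : PS p Z X ≤ PS p Z Y :=
  closure_mono (fun _ hx => ⟨⟨h hx.1.1, hx.1.2⟩, hx.2⟩)

theorem mem_PS {Z X : Subgroup H} {x : H} (hx : x ∈ X) (hxZ : x ∈ centralizer (Z : Set H))
    (hk : ∃ k : ℕ, orderOf x = p ^ k) : x ∈ PS p Z X := Subgroup.subset_closure ⟨⟨hx, hxZ⟩, hk⟩

theorem le_normalizer_PS (Z X : Subgroup H) : X ⊓ centralizer (Z : Set H) ≤ normalizer (PS p Z X : Set H) := by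
  apply SylowJoin.le_normalizer_of_conj
  intro a ha k hk
  have h1 : (PS p Z X).map (MulAut.conj a).toMonoidHom ≤ PS p Z X := by
    rw [PS, Subgroup.map_le_iff_le_comap, closure_le]
    rintro x ⟨hx, k, hk⟩
    apply Subgroup.subset_closure
    refine ⟨Subgroup.mul_mem _ (Subgroup.mul_mem _ ha hx) (Subgroup.inv_mem _ ha), k, ?_⟩
    rw [← hk]
    exact orderOf_injective (MulAut.conj a).toMonoidHom (MulAut.conj a).injective x
  exact h1 ⟨k, hk, rfl⟩

theorem PS_sup [Finite H] [hp : Fact p.Prime] (T : Sylow p H) {L₁ L₂ : Subgroup H}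
    (h₁ : L₁.IsSubnormal) (h₂ : L₂.IsSubnormal) (Z : Subgroup H)
    (hTZ : (T : Subgroup H) ≤ centralizer (Z : Set H)) :
    PS p Z (L₁ ⊔ L₂) = PS p Z L₁ ⊔ PS p Z L₂ := by
  apply le_antisymm
  swap
  · exact sup_le (PS_mono le_sup_left) (PS_mono le_sup_right)
  set C : Subgroup H := centralizer (Z : Set H) with hC
  set E : Subgroup H := PS p Z L₁ ⊔ PS p Z L₂ with hE
  set X : Subgroup H := (L₁ ⊔ L₂) ⊓ C with hX
  have hEX : E ≤ X := sup_le ((PS_le Z L₁).trans (inf_le_inf_right _ le_sup_left))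
    ((PS_le Z L₂).trans (inf_le_inf_right _ le_sup_right))
  have hsub : ∀ L : Subgroup H, L.IsSubnormal → L ≤ L₁ ⊔ L₂ → ((PS p Z L).subgroupOf X).IsSubnormal := by
    intro L hL hLs
    refine Subgroup.IsSubnormal.step _ ((L ⊓ C).subgroupOf X) ?_ ?_ ?_
    · exact Subgroup.comap_mono (PS_le Z L)
    · have h3 : (L ⊓ C).subgroupOf X = L.subgroupOf X := by
        ext ⟨x, hx⟩
        simp only [Subgroup.mem_subgroupOf, Subgroup.mem_inf, and_iff_left_iff_imp]
        exact fun _ => hx.2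
      rw [h3]
      exact hL.comap X.subtype
    · apply Subgroup.normal_subgroupOf_of_le_normalizer
      apply SylowJoin.le_normalizer_of_conj
      rintro ⟨a, haX⟩ ha ⟨k, hkX⟩ hk
      rw [Subgroup.mem_subgroupOf] at ha hk ⊢
      exact (Subgroup.mem_normalizer_iff.mp (le_normalizer_PS Z L ha) k).mp hk
  have hEs : (E.subgroupOf X).IsSubnormal := by
    rw [hE, Subgroup.subgroupOf_sup ((le_sup_left : PS p Z L₁ ≤ E).trans hEX) ((le_sup_right : PS p Z L₂ ≤ E).trans hEX)]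
    exact Lib.SubnormalJoin.isSubnormal_sup (hsub L₁ h₁ le_sup_left) (hsub L₂ h₂ le_sup_right)
  -- `T ∩ L ≤ E`
  have hTL : (T : Subgroup H) ⊓ (L₁ ⊔ L₂) ≤ E := by
    rw [SylowJoin.sylow_inf_sup T h₁ h₂]
    refine sup_le_sup ?_ ?_
    · intro x hx
      exact mem_PS hx.2 (hTZ hx.1) (by
        obtain ⟨k, hk⟩ := IsPGroup.iff_orderOf.mp T.isPGroup' ⟨x, hx.1⟩
        exact ⟨k, by rwa [Subgroup.orderOf_mk] at hk⟩)
    · intro x hx
      exact mem_PS hx.2 (hTZ hx.1) (by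
        obtain ⟨k, hk⟩ := IsPGroup.iff_orderOf.mp T.isPGroup' ⟨x, hx.1⟩
        exact ⟨k, by rwa [Subgroup.orderOf_mk] at hk⟩)
  have hLs : (L₁ ⊔ L₂).IsSubnormal := Lib.SubnormalJoin.isSubnormal_sup h₁ h₂
  have hi1 := SylowJoin.not_dvd_relIndex_of_subnormal T.isPGroup' T.not_dvd_index hLs
  have hi : ¬ p ∣ (E.subgroupOf X).index := by
    intro hd
    apply hi1
    rw [← Subgroup.inf_relIndex_right]
    have h2 : (T : Subgroup H) ⊓ (L₁ ⊔ L₂) ≤ X := hTL.trans hEX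
    rw [← Subgroup.relIndex_mul_relIndex _ _ _ h2 (inf_le_left : X ≤ L₁ ⊔ L₂),
      ← Subgroup.relIndex_mul_relIndex _ _ _ hTL hEX]
    exact Dvd.dvd.mul_right (Dvd.dvd.mul_left hd _) _
  rw [PS, closure_le]
  rintro x ⟨hx, k, hk⟩
  have h3 := mem_of_subnormal (p := p) hEs hi (x := (⟨x, hx⟩ : ↥X)) ⟨k, by rwa [Subgroup.orderOf_mk]⟩
  exact h3

theorem pointStabilizer_eq [Finite H] [hp : Fact p.Prime] (hH : LC p (⊤ : Subgroup H)) (T : Sylow p H)
    {L : Subgroup H} (hL : L.IsSubnormal) :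
    pointStabilizer p L ((T : Subgroup H) ⊓ L) = PS p (Om p (T : Subgroup H)) L := by
  rw [pointStabilizer, PS]
  congr 1
  ext x
  simp only [Set.mem_setOf_eq]
  by_cases hne : (T : Subgroup H) ⊓ L = ⊥
  · -- then `L` is a `p'`-group
    have h1 := SylowJoin.not_dvd_relIndex_of_subnormal T.isPGroup' T.not_dvd_index hL
    rw [← Subgroup.inf_relIndex_right, hne, Subgroup.relIndex_bot_left] at h1
    have h2 : ∀ x : H, x ∈ L → (∃ k : ℕ, orderOf x = p ^ k) → x = 1 := by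
      rintro x hx ⟨k, hk⟩
      rcases Nat.eq_zero_or_pos k with h0 | h0
      · rw [h0, pow_zero] at hk
        exact orderOf_eq_one_iff.mp hk
      · exfalso
        apply h1
        have h3 := Subgroup.orderOf_dvd_natCard L hx
        exact (dvd_pow_self p h0.ne').trans (hk ▸ h3)
    constructor
    · rintro ⟨hx, hk⟩
      have := h2 x hx.1 hk
      subst this
      exact ⟨one_mem _, hk⟩
    · rintro ⟨hx, hk⟩
      have := h2 x hx.1 hk
      subst this
      exact ⟨one_mem _, hk⟩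
  · have h1 := (kieler_subnormal hH T.isPGroup' T.not_dvd_index hL hne).2
    constructor
    · rintro ⟨hx, hk⟩
      exact ⟨⟨hx.1, (h1 x hx.1).mpr hx.2⟩, hk⟩
    · rintro ⟨hx, hk⟩
      exact ⟨⟨hx.1, (h1 x hx.1).mp hx.2⟩, hk⟩

theorem LC_of_local [Finite H] [hp : Fact p.Prime] (hH : IsOfLocalCharacteristic p H) :
    LC p (⊤ : Subgroup H) := by
  intro R hR _ hR1
  rw [top_inf_eq, ← pCoreOf_centralizer_iff]
  exact hH.2 R hR hR1

theorem pointStabilizer_sup [Finite H] [hp : Fact p.Prime] (hH : IsOfLocalCharacteristic p H)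
    (T : Sylow p H) (L₁ L₂ : Subgroup H) (h₁ : L₁.IsSubnormal) (h₂ : L₂.IsSubnormal) :
    pointStabilizer p (L₁ ⊔ L₂) ((T : Subgroup H) ⊓ (L₁ ⊔ L₂)) =
      pointStabilizer p L₁ ((T : Subgroup H) ⊓ L₁) ⊔ pointStabilizer p L₂ ((T : Subgroup H) ⊓ L₂) := by
  have h := LC_of_local hH
  rw [pointStabilizer_eq h T (Lib.SubnormalJoin.isSubnormal_sup h₁ h₂), pointStabilizer_eq h T h₁,
    pointStabilizer_eq h T h₂]
  apply PS_sup T h₁ h₂
  rw [Subgroup.le_centralizer_iff]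
  exact fun z hz => (mem_Om.mp hz).2.1

end Cfsg.Agent.H222.PointStab
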